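-- The p-residual O^p(G) and normal p-complements.
--
-- Main results (namespace `Cfsg.Agent.Transfer`):
-- * `pResidual_normal`, `pResidual_characteristic`, `isPGroup_quotient_pResidual`, `pResidual_le`,
--   `pResidual_le_ker`, `exists_index_pResidual`, `map_pResidual_le`, `map_pResidual_subtype`,
--   `mem_pResidual_map_iff`, `pResidual_pResidual`, `sylow_sup_eq_top`, `pResidual_eq_top_iff`
-- * `hasNormalPComplement_iff_coprime` (iff O^p(G) has order prime to p),
--   `hasNormalPComplement_subgroup`, `_of_injective`, `_of_surjective`, `_of_equiv`, `_of_normal`,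
--   `exists_normal_isComplement'_iff`, `mem_iff_coprime_orderOf`, `complement_eq_pResidual`
-- * elements: `exists_pPart_mul`, `mem_of_pow_mem_of_coprime`
import Cfsg.Agent.EqLemmas

set_option autoImplicit false

namespace Cfsg.Agent.Transfer

open Subgroup

variable {G : Type*} [Group G] {p : ℕ}

/-! ### Elements -/

theorem mem_of_pow_mem_of_coprime {H : Subgroup G} {g : G} {a b : ℕ} (hab : Nat.Coprime a b)
    (ha : g ^ a ∈ H) (hb : g ^ b ∈ H) : g ∈ H := by
  have h := Nat.gcd_eq_gcd_ab a b
  rw [hab.gcd_eq_one, Nat.cast_one] at h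
  rw [← zpow_one g, h, zpow_add, zpow_mul, zpow_mul, zpow_natCast, zpow_natCast]
  exact H.mul_mem (H.zpow_mem ha _) (H.zpow_mem hb _)

/-- An element is the product of two powers of itself, one of `p`-power order and one of order prime to `p`. -/
theorem exists_pPart_mul [Finite G] [Fact p.Prime] (g : G) :
    ∃ x y : G, g = x * y ∧ x ∈ zpowers g ∧ y ∈ zpowers g ∧ (∃ k, orderOf x = p ^ k) ∧
      Nat.Coprime (orderOf y) p := by
  have hp : p.Prime := Fact.out
  obtain ⟨a, m, hm, ho⟩ := Nat.exists_eq_pow_mul_and_not_dvd (orderOf_pos g).ne' p hp.ne_one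
  have hco : Nat.Coprime (p ^ a) m := ((hp.coprime_iff_not_dvd).mpr hm).pow_left a
  have h := Nat.gcd_eq_gcd_ab (p ^ a) m
  rw [hco.gcd_eq_one, Nat.cast_one] at h
  refine ⟨g ^ ((m : ℤ) * (p ^ a).gcdB m), g ^ (((p ^ a : ℕ) : ℤ) * (p ^ a).gcdA m), ?_,
    zpow_mem_zpowers g _, zpow_mem_zpowers g _, ?_, ?_⟩
  · rw [← zpow_add, add_comm, ← h, zpow_one]
  · obtain ⟨k, -, hk⟩ := (Nat.dvd_prime_pow hp).mp
      (show orderOf (g ^ ((m : ℤ) * (p ^ a).gcdB m)) ∣ p ^ a from by
        rw [orderOf_dvd_iff_pow_eq_one, ← zpow_natCast, ← zpow_mul,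
          ← orderOf_dvd_iff_zpow_eq_one, ho]
        exact ⟨(p ^ a).gcdB m, by push_cast; ring⟩)
    exact ⟨k, hk⟩
  · refine Nat.Coprime.coprime_dvd_left ?_ ((hp.coprime_iff_not_dvd).mpr hm).symm
    rw [orderOf_dvd_iff_pow_eq_one, ← zpow_natCast, ← zpow_mul,
      ← orderOf_dvd_iff_zpow_eq_one, ho]
    exact ⟨(p ^ a).gcdA m, by push_cast; ring⟩

/-- A homomorphism into a finite `p`-group kills every element of order prime to `p`. -/
theorem map_eq_one_of_coprime [Fact p.Prime] {A : Type*} [Group A] (hA : IsPGroup p A) (f : G →* A)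
    {g : G} (hg : Nat.Coprime (orderOf g) p) : f g = 1 := by
  obtain ⟨k, hk⟩ := IsPGroup.iff_orderOf.mp hA (f g)
  have h : p ^ k ∣ orderOf g := hk ▸ orderOf_map_dvd f g
  rw [← orderOf_eq_one_iff, hk]
  exact Nat.eq_one_of_dvd_coprimes (hg.pow_right k) h dvd_rfl

/-! ### The residual -/

theorem mem_pResidual_of_coprime {g : G} (hg : Nat.Coprime (orderOf g) p) : g ∈ pResidual p G :=
  subset_closure hg

/-- Homomorphisms map the residual into the residual. -/
theorem map_pResidual_le {H : Type*} [Group H] (f : G →* H) :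
    (pResidual p G).map f ≤ pResidual p H := by
  unfold pResidual
  rw [MonoidHom.map_closure, closure_le]
  rintro _ ⟨g, hg, rfl⟩
  exact subset_closure (Nat.Coprime.coprime_dvd_left (orderOf_map_dvd f g) hg)

theorem map_pResidual_equiv {H : Type*} [Group H] (e : G ≃* H) :
    (pResidual p G).map e.toMonoidHom = pResidual p H := by
  refine le_antisymm (map_pResidual_le _) fun x hx => ?_
  exact ⟨e.symm x, map_pResidual_le e.symm.toMonoidHom (mem_map_of_mem _ hx), e.apply_symm_apply x⟩

instance pResidual_characteristic : (pResidual p G).Characteristic :=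
  characteristic_iff_map_eq.mpr fun e => map_pResidual_equiv e

theorem pResidual_normal : (pResidual p G).Normal := inferInstance

theorem isPGroup_quotient_pResidual [Finite G] [Fact p.Prime] :
    IsPGroup p (G ⧸ pResidual p G) := by
  intro q
  induction q using QuotientGroup.induction_on with
  | H g =>
    have hp : p.Prime := Fact.out
    obtain ⟨a, m, hm, ho⟩ := Nat.exists_eq_pow_mul_and_not_dvd (orderOf_pos g).ne' p hp.ne_one
    refine ⟨a, ?_⟩
    rw [← QuotientGroup.mk_pow, QuotientGroup.eq_one_iff]
    refine mem_pResidual_of_coprime (Nat.Coprime.coprime_dvd_left ?_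
      ((hp.coprime_iff_not_dvd).mpr hm).symm)
    rw [orderOf_dvd_iff_pow_eq_one, ← pow_mul, ← ho, pow_orderOf_eq_one]

theorem exists_index_pResidual [Finite G] [Fact p.Prime] : ∃ k, (pResidual p G).index = p ^ k :=
  IsPGroup.iff_card.mp isPGroup_quotient_pResidual

theorem pResidual_le_ker [Fact p.Prime] {A : Type*} [Group A] (hA : IsPGroup p A) (f : G →* A) :
    pResidual p G ≤ f.ker :=
  (closure_le _).mpr fun _ hg => map_eq_one_of_coprime hA f hg

theorem pResidual_le [Fact p.Prime] {N : Subgroup G} [N.Normal] (hN : IsPGroup p (G ⧸ N)) :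
    pResidual p G ≤ N :=
  (pResidual_le_ker hN (QuotientGroup.mk' N)).trans (QuotientGroup.ker_mk' N).le

theorem pResidual_le_of_index [Finite G] [Fact p.Prime] {N : Subgroup G} [N.Normal] {k : ℕ}
    (hN : N.index = p ^ k) : pResidual p G ≤ N :=
  pResidual_le (IsPGroup.of_card (n := k) hN)

/-- Elements of a subgroup lying in the residual of that subgroup. -/
theorem map_pResidual_subtype (H : Subgroup G) :
    (pResidual p H).map H.subtype = closure {g : G | g ∈ H ∧ Nat.Coprime (orderOf g) p} := by
  unfold pResidual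
  rw [MonoidHom.map_closure]
  congr 1
  ext g
  constructor
  · rintro ⟨h, hh, rfl⟩
    exact ⟨h.2, by simpa [orderOf_submonoid, Subgroup.orderOf_coe] using hh⟩
  · rintro ⟨hg, hc⟩
    exact ⟨⟨g, hg⟩, by simpa [Subgroup.orderOf_mk] using hc, rfl⟩

theorem map_pResidual_subtype_le (H : Subgroup G) :
    (pResidual p H).map H.subtype ≤ H ⊓ pResidual p G :=
  le_inf (map_subtype_le _) (map_pResidual_le _)

theorem pResidual_subgroup_mono {H K : Subgroup G} (h : H ≤ K) :
    (pResidual p H).map H.subtype ≤ (pResidual p K).map K.subtype := by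
  rw [map_pResidual_subtype, map_pResidual_subtype]
  exact closure_mono fun g hg => ⟨h hg.1, hg.2⟩

/-- `O^p(O^p(G)) = O^p(G)`. -/
theorem pResidual_pResidual : pResidual p (pResidual p G) = ⊤ := by
  apply map_injective (pResidual p G).subtype_injective
  refine le_antisymm (map_mono le_top) ?_
  rw [map_pResidual_subtype, ← MonoidHom.range_eq_map, range_subtype]
  exact (closure_le _).mpr fun g hg => subset_closure ⟨mem_pResidual_of_coprime hg, hg⟩

/-- A subgroup of index prime to `p` together with a normal subgroup of `p`-power index generates. -/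
theorem sup_eq_top_of_index [Finite G] [Fact p.Prime] {H N : Subgroup G} (hH : ¬ p ∣ H.index)
    {k : ℕ} (hN : N.index = p ^ k) : H ⊔ N = ⊤ := by
  rw [← index_eq_one]
  exact Nat.eq_one_of_dvd_coprimes
    ((((Fact.out : p.Prime).coprime_iff_not_dvd).mpr hH).symm.pow_right k)
    (index_dvd_of_le le_sup_left) (hN ▸ index_dvd_of_le le_sup_right)

theorem sup_pResidual_eq_top [Finite G] [Fact p.Prime] {H : Subgroup G} (hH : ¬ p ∣ H.index) :
    H ⊔ pResidual p G = ⊤ := by
  obtain ⟨k, hk⟩ := exists_index_pResidual (G := G) (p := p)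
  exact sup_eq_top_of_index hH hk

theorem sylow_sup_eq_top [Finite G] [Fact p.Prime] (P : Sylow p G) :
    (P : Subgroup G) ⊔ pResidual p G = ⊤ :=
  sup_pResidual_eq_top P.not_dvd_index

/-- `G` has a nontrivial `p`-quotient iff it has an abelian one: `O^p(G) = G` iff the Sylow subgroup lies
in the commutator subgroup. -/
theorem pResidual_eq_top_iff [Finite G] [Fact p.Prime] (P : Sylow p G) :
    pResidual p G = ⊤ ↔ (P : Subgroup G) ≤ commutator G := by
  constructor
  · intro h
    have hab : IsPGroup p (P ⧸ (P : Subgroup G).focalSubgroupOf) := P.2.to_quotient _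
    have h1 := pResidual_le_ker hab (P : Subgroup G).transferFocal
    rw [h] at h1
    intro x hx
    have h2 : x ∈ (P : Subgroup G).transferFocal.ker ⊓ (P : Subgroup G) := ⟨h1 (mem_top x), hx⟩
    rw [Subgroup.ker_transferFocal_inf_eq_focalSubgroup] at h2
    exact Subgroup.focalSubgroup_le_commutator _ h2
  · intro h
    by_contra hne
    have : Nontrivial (G ⧸ pResidual p G) :=
      Finite.one_lt_card_iff_nontrivial.mp (one_lt_index_of_ne_top hne)
    have hnil : Group.IsNilpotent (G ⧸ pResidual p G) :=
      (isPGroup_quotient_pResidual (G := G) (p := p)).isNilpotent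
    have htop : (commutator G).map (QuotientGroup.mk' (pResidual p G)) = ⊤ := by
      rw [eq_top_iff, ← map_top_of_surjective _ (QuotientGroup.mk'_surjective (pResidual p G)),
        ← sylow_sup_eq_top P, Subgroup.map_sup]
      exact sup_le (map_mono h) (by rw [QuotientGroup.map_mk'_self]; exact bot_le)
    have hlt := IsSolvable.commutator_lt_top_of_nontrivial (G ⧸ pResidual p G)
    refine hlt.ne (top_le_iff.mp (htop ▸ ?_))
    rw [_root_.commutator_def, map_commutator, _root_.commutator_def]
    exact commutator_mono le_top le_top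

/-! ### Normal `p`-complements -/

/-- A normal subgroup of order prime to `p` and `p`-power index is a complement to every Sylow subgroup. -/
theorem isComplement'_of_coprime_of_index [Finite G] [Fact p.Prime] (P : Sylow p G) {N : Subgroup G}
    (h1 : (Nat.card N).Coprime p) {k : ℕ} (h2 : N.index = p ^ k) : N.IsComplement' (P : Subgroup G) := by
  have hp : p.Prime := Fact.out
  have hk : (Nat.card G).factorization p = k := by
    rw [← N.card_mul_index, h2, Nat.factorization_mul Nat.card_pos.ne' (pow_ne_zero _ hp.ne_zero),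
      Finsupp.add_apply, hp.factorization_pow, Finsupp.single_eq_same,
      Nat.factorization_eq_zero_of_not_dvd (hp.coprime_iff_not_dvd.mp h1.symm), zero_add]
  have hP : Nat.card (P : Subgroup G) = p ^ k := by rw [P.card_eq_multiplicity, hk]
  refine isComplement'_of_coprime ?_ ?_
  · rw [hP, ← h2, N.card_mul_index]
  · rw [hP]
    exact h1.pow_right k

theorem coprime_card_of_isComplement' [Finite G] [Fact p.Prime] (P : Sylow p G) {N : Subgroup G}
    (hN : N.IsComplement' (P : Subgroup G)) : (Nat.card N).Coprime p := by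
  rw [← hN.index_eq_card]
  exact (((Fact.out : p.Prime).coprime_iff_not_dvd).mpr P.not_dvd_index).symm

theorem index_of_isComplement' [Finite G] [Fact p.Prime] (P : Sylow p G) {N : Subgroup G}
    (hN : N.IsComplement' (P : Subgroup G)) : ∃ k, N.index = p ^ k := by
  obtain ⟨k, hk⟩ := IsPGroup.iff_card.mp P.2
  exact ⟨k, by rw [hN.symm.index_eq_card, hk]⟩

/-- The elements of a normal `p`-complement are those of order prime to `p`. -/
theorem mem_iff_coprime_orderOf [Finite G] [Fact p.Prime] {N : Subgroup G} [N.Normal]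
    (h1 : (Nat.card N).Coprime p) {k : ℕ} (h2 : N.index = p ^ k) (x : G) :
    x ∈ N ↔ Nat.Coprime (orderOf x) p := by
  refine ⟨fun hx => h1.coprime_dvd_left (orderOf_dvd_natCard N hx), fun hx => ?_⟩
  exact pResidual_le_of_index h2 (mem_pResidual_of_coprime hx)

theorem eq_pResidual_of_coprime_of_index [Finite G] [Fact p.Prime] {N : Subgroup G} [N.Normal]
    (h1 : (Nat.card N).Coprime p) {k : ℕ} (h2 : N.index = p ^ k) : N = pResidual p G :=
  le_antisymm (fun x hx => mem_pResidual_of_coprime ((mem_iff_coprime_orderOf h1 h2 x).mp hx))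
    (pResidual_le_of_index h2)

theorem complement_eq_pResidual [Finite G] [Fact p.Prime] (P : Sylow p G) {N : Subgroup G} [N.Normal]
    (hN : N.IsComplement' (P : Subgroup G)) : N = pResidual p G := by
  obtain ⟨k, hk⟩ := index_of_isComplement' P hN
  exact eq_pResidual_of_coprime_of_index (coprime_card_of_isComplement' P hN) hk

theorem isComplement'_pResidual_iff [Finite G] [Fact p.Prime] (P : Sylow p G) :
    (pResidual p G).IsComplement' (P : Subgroup G) ↔ (Nat.card (pResidual p G)).Coprime p := by
  refine ⟨coprime_card_of_isComplement' P, fun h => ?_⟩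
  obtain ⟨k, hk⟩ := exists_index_pResidual (G := G) (p := p)
  exact isComplement'_of_coprime_of_index P h hk

theorem exists_normal_isComplement'_iff [Finite G] [Fact p.Prime] (P : Sylow p G) :
    (∃ N : Subgroup G, N.Normal ∧ N.IsComplement' (P : Subgroup G)) ↔
      (Nat.card (pResidual p G)).Coprime p := by
  refine ⟨?_, fun h => ⟨_, inferInstance, (isComplement'_pResidual_iff P).mpr h⟩⟩
  rintro ⟨N, hN, hc⟩
  exact complement_eq_pResidual P hc ▸ coprime_card_of_isComplement' P hc

theorem hasNormalPComplement_iff_coprime [Finite G] [Fact p.Prime] :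
    HasNormalPComplement p G ↔ (Nat.card (pResidual p G)).Coprime p :=
  ⟨fun ⟨P, h⟩ => (exists_normal_isComplement'_iff P).mp h,
    fun h => ⟨default, (exists_normal_isComplement'_iff default).mpr h⟩⟩

theorem hasNormalPComplement_iff_sylow [Finite G] [Fact p.Prime] (P : Sylow p G) :
    HasNormalPComplement p G ↔ ∃ N : Subgroup G, N.Normal ∧ N.IsComplement' (P : Subgroup G) :=
  hasNormalPComplement_iff_coprime.trans (exists_normal_isComplement'_iff P).symm

/-- `G` has a normal `p`-complement iff the Sylow subgroup meets the residual trivially. -/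
theorem hasNormalPComplement_iff_inf_eq_bot [Finite G] [Fact p.Prime] (P : Sylow p G) :
    HasNormalPComplement p G ↔ (P : Subgroup G) ⊓ pResidual p G = ⊥ := by
  rw [hasNormalPComplement_iff_coprime]
  constructor
  · intro h
    obtain ⟨k, hk⟩ := IsPGroup.iff_card.mp P.2
    exact inf_eq_bot_of_coprime (hk ▸ (h.pow_right k).symm)
  · intro h
    rw [Nat.coprime_comm, (Fact.out : p.Prime).coprime_iff_not_dvd]
    intro hd
    obtain ⟨x, hx⟩ := exists_prime_orderOf_dvd_card' p hd
    obtain ⟨Q, hQ⟩ := (IsPGroup.of_card (n := 1) (p := p) (G := zpowers (x : G))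
      (by rw [pow_one, Nat.card_zpowers, orderOf_submonoid, hx])).exists_le_sylow
    obtain ⟨g, rfl⟩ := MulAction.exists_smul_eq G P Q
    have hxQ : g⁻¹ * x * g ∈ (P : Subgroup G) := by
      have := hQ (mem_zpowers (x : G))
      rw [Sylow.coe_subgroup_smul, mem_pointwise_smul_iff_inv_smul_mem, ← map_inv,
        MulAut.smul_def, MulAut.conj_apply, inv_inv] at this
      exact this
    have hxR : g⁻¹ * x * g ∈ pResidual p G := by
      simpa using (pResidual_normal (G := G) (p := p)).conj_mem _ x.2 g⁻¹
    have h1 : g⁻¹ * x * g = 1 := mem_bot.mp (h ▸ ⟨hxQ, hxR⟩)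
    have h2 : (x : G) = 1 := by
      have h3 : g * (g⁻¹ * x * g) * g⁻¹ = g * 1 * g⁻¹ := by rw [h1]
      simpa [mul_assoc] using h3
    exact (Fact.out : p.Prime).ne_one (by rw [← hx, ← orderOf_submonoid, h2, orderOf_one])

theorem mem_pResidual_iff [Finite G] [Fact p.Prime]
    (h : HasNormalPComplement p G) (x : G) : x ∈ pResidual p G ↔ Nat.Coprime (orderOf x) p := by
  obtain ⟨k, hk⟩ := exists_index_pResidual (G := G) (p := p)
  exact mem_iff_coprime_orderOf (hasNormalPComplement_iff_coprime.mp h) hk x

theorem hasNormalPComplement_of_injective [Finite G] [Fact p.Prime] {H : Type*} [Group H] [Finite H]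
    (h : HasNormalPComplement p G) (f : H →* G) (hf : Function.Injective f) :
    HasNormalPComplement p H := by
  rw [hasNormalPComplement_iff_coprime] at h ⊢
  refine h.coprime_dvd_left ?_
  rw [← Subgroup.card_map_of_injective (K := pResidual p H) hf]
  exact card_dvd_of_le (map_pResidual_le f)

theorem hasNormalPComplement_subgroup [Finite G] [Fact p.Prime]
    (h : HasNormalPComplement p G) (H : Subgroup G) : HasNormalPComplement p H :=
  hasNormalPComplement_of_injective h H.subtype H.subtype_injective

theorem hasNormalPComplement_of_equiv [Finite G] [Fact p.Prime] {H : Type*} [Group H] [Finite H]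
    (h : HasNormalPComplement p G) (e : G ≃* H) : HasNormalPComplement p H :=
  hasNormalPComplement_of_injective h e.symm.toMonoidHom e.symm.injective

theorem hasNormalPComplement_of_surjective [Finite G] [Fact p.Prime] {H : Type*} [Group H] [Finite H]
    (h : HasNormalPComplement p G) (f : G →* H) (hf : Function.Surjective f) :
    HasNormalPComplement p H := by
  have hn : ((pResidual p G).map f).Normal := pResidual_normal.map f hf
  obtain ⟨k, hk⟩ := exists_index_pResidual (G := G) (p := p)
  obtain ⟨j, -, hj⟩ := (Nat.dvd_prime_pow (Fact.out : p.Prime)).mp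
    (hk ▸ index_map_dvd (pResidual p G) hf)
  exact ⟨default, _, hn, isComplement'_of_coprime_of_index default
    ((hasNormalPComplement_iff_coprime.mp h).coprime_dvd_left (card_map_dvd _ f)) hj⟩

theorem hasNormalPComplement_of_isPGroup [Finite G] [Fact p.Prime] (h : IsPGroup p G) :
    HasNormalPComplement p G := by
  rw [hasNormalPComplement_iff_coprime]
  have hb : pResidual p G = ⊥ :=
    le_bot_iff.mp ((pResidual_le_ker h (MonoidHom.id G)).trans (MonoidHom.ker_id).le)
  rw [hb, card_bot]
  exact Nat.coprime_one_left p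

theorem hasNormalPComplement_of_not_dvd [Finite G] [Fact p.Prime] (h : ¬ p ∣ Nat.card G) :
    HasNormalPComplement p G :=
  hasNormalPComplement_iff_coprime.mpr
    (((Fact.out : p.Prime).coprime_iff_not_dvd.mpr h).symm.coprime_dvd_left
      (card_subgroup_dvd_card _))

/-- A normal `p`-complement of a normal subgroup of `p`-power index is one for the whole group. -/
theorem hasNormalPComplement_of_normal [Finite G] [Fact p.Prime] {N : Subgroup G} [N.Normal] {k : ℕ}
    (hN : N.index = p ^ k) (h : HasNormalPComplement p N) : HasNormalPComplement p G := by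
  rw [hasNormalPComplement_iff_coprime] at h ⊢
  refine h.coprime_dvd_left ?_
  rw [← Subgroup.card_map_of_injective (K := pResidual p N) N.subtype_injective]
  refine card_dvd_of_le ((closure_le _).mpr fun g hg => ?_)
  rw [map_pResidual_subtype]
  exact subset_closure ⟨pResidual_le_of_index hN (mem_pResidual_of_coprime hg), hg⟩

/-- An element of order prime to `p` normalizing a `p`-subgroup centralizes it, given a normal `p`-complement. -/
theorem mem_centralizer_of_coprime [Finite G] [Fact p.Prime]
    (h : HasNormalPComplement p G) {Q : Subgroup G} (hQ : IsPGroup p Q) {g : G}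
    (hg : g ∈ normalizer (Q : Set G)) (hgp : Nat.Coprime (orderOf g) p) : g ∈ centralizer (Q : Set G) := by
  refine mem_centralizer_iff.mpr fun q hq => ?_
  have h1 : q * g * q⁻¹ * g⁻¹ ∈ pResidual p G :=
    (pResidual p G).mul_mem (pResidual_normal.conj_mem g (mem_pResidual_of_coprime hgp) q)
      ((pResidual p G).inv_mem (mem_pResidual_of_coprime hgp))
  have h2 : q * g * q⁻¹ * g⁻¹ ∈ Q := by
    rw [show q * g * q⁻¹ * g⁻¹ = q * (g * q⁻¹ * g⁻¹) by group]
    exact Q.mul_mem hq ((mem_normalizer_iff.mp hg _).mp (Q.inv_mem hq))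
  obtain ⟨k, hk⟩ := IsPGroup.iff_card.mp hQ
  have h3 : Q ⊓ pResidual p G = ⊥ :=
    inf_eq_bot_of_coprime (hk ▸ ((hasNormalPComplement_iff_coprime.mp h).pow_right k).symm)
  have h4 : q * g * q⁻¹ * g⁻¹ = 1 := mem_bot.mp (h3 ▸ ⟨h2, h1⟩)
  exact mul_inv_eq_iff_eq_mul.mp (by rwa [mul_inv_eq_one] at h4)

end Cfsg.Agent.Transfer
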