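-- Focal subgroup theorem, control of fusion, weakly closed subgroups, Burnside fusion, Gruen's theorem.
--
-- Main results (namespace `Cfsg.Agent.Transfer`); a "control hypothesis" for `M` reads
-- `∀ x ∈ H, ∀ g, g * x * g⁻¹ ∈ H → ∃ m ∈ M, m * x * m⁻¹ = g * x * g⁻¹`:
-- * `focalSubgroup_eq_of_coprime`, `exists_normal_focal_complement` (any `H` with `[G:H]` prime to `[H:H']`)
-- * `focalSubgroup_le_of_control`, `commutator_inf_eq_of_control` (`G' ∩ P = M' ∩ P`),
--   `commutator_inf_eq_of_self_control`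
-- * `exists_normalizer_conj_image` (Burnside), `normalizer_control_of_comm`
-- * `IsWeaklyClosed` facts, `weaklyClosed_control` (Gruen: `N(Z)` controls fusion)
-- * abelian Sylow: `commutator_inf_eq_normalizer_commutator`, `inf_pResidual_eq_commutator_normalizer`,
--   `commute_of_mem_normalizer_of_comm`
import Cfsg.Agent.Lib.Transfer.Residual

set_option autoImplicit false

namespace Cfsg.Agent.Transfer

open Subgroup
open scoped commutatorElement Pointwise

variable {G : Type*} [Group G] {p : ℕ}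

/-! ### The focal subgroup theorem for a general subgroup -/

theorem relIndex_focal_dvd (H : Subgroup G) :
    H.focalSubgroupOf.index ∣ ⁅H, H⁆.relIndex H :=
  index_dvd_of_le fun x hx => mem_subgroupOf.mpr (H.commutator_le_focalSubgroup (mem_subgroupOf.mp hx))

theorem pow_index_bijective_focal [Finite G] (H : Subgroup G)
    (h : Nat.Coprime H.index (⁅H, H⁆.relIndex H)) :
    Function.Bijective fun y : H ⧸ H.focalSubgroupOf => y ^ H.index :=
  (powCoprime ((h.coprime_dvd_right (relIndex_focal_dvd H)).symm :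
    (Nat.card (H ⧸ H.focalSubgroupOf)).Coprime H.index)).bijective

theorem ker_transferFocal_inf_eq [Finite G] (H : Subgroup G)
    (h : Nat.Coprime H.index (⁅H, H⁆.relIndex H)) : H.transferFocal.ker ⊓ H = H.focalSubgroup := by
  ext x
  constructor
  · rintro ⟨hk, hx⟩
    have h1 : H.transferFocal ((⟨x, hx⟩ : H) : G) = 1 := hk
    rw [Subgroup.transferFocal_eq_pow] at h1
    have h2 : ((⟨x, hx⟩ : H) : H ⧸ H.focalSubgroupOf) = 1 :=
      (pow_index_bijective_focal H h).1 (h1.trans (one_pow _).symm)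
    exact mem_subgroupOf.mp ((QuotientGroup.eq_one_iff (N := H.focalSubgroupOf) _).mp h2)
  · intro hx
    have hxH := H.focalSubgroup_le hx
    refine ⟨?_, hxH⟩
    change H.transferFocal ((⟨x, hxH⟩ : H) : G) = 1
    rw [Subgroup.transferFocal_eq_pow]
    have h2 : ((⟨x, hxH⟩ : H) : H ⧸ H.focalSubgroupOf) = 1 :=
      (QuotientGroup.eq_one_iff _).mpr (mem_subgroupOf.mpr hx)
    rw [h2, one_pow]

theorem transferFocal_surjective_of_coprime [Finite G] (H : Subgroup G)
    (h : Nat.Coprime H.index (⁅H, H⁆.relIndex H)) : Function.Surjective H.transferFocal := by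
  intro y
  obtain ⟨z, hz⟩ := (pow_index_bijective_focal H h).2 y
  obtain ⟨x, rfl⟩ := QuotientGroup.mk_surjective z
  exact ⟨x, (H.transferFocal_eq_pow x).trans hz⟩

theorem ker_transferFocal_sup_eq_top [Finite G] (H : Subgroup G)
    (h : Nat.Coprime H.index (⁅H, H⁆.relIndex H)) : H.transferFocal.ker ⊔ H = ⊤ := by
  refine eq_top_iff.mpr fun g _ => ?_
  obtain ⟨z, hz⟩ := (pow_index_bijective_focal H h).2 (H.transferFocal g)
  obtain ⟨x, rfl⟩ := QuotientGroup.mk_surjective z
  have h1 : g * (x : G)⁻¹ ∈ H.transferFocal.ker := by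
    rw [MonoidHom.mem_ker, map_mul, map_inv, H.transferFocal_eq_pow x]
    exact mul_inv_eq_one.mpr hz.symm
  rw [show g = g * (x : G)⁻¹ * x by group]
  exact mul_mem (mem_sup_left h1) (mem_sup_right x.2)

/-- **Focal subgroup theorem**, general form. -/
theorem focalSubgroup_eq_of_coprime [Finite G] (H : Subgroup G)
    (h : Nat.Coprime H.index (⁅H, H⁆.relIndex H)) : H.focalSubgroup = commutator G ⊓ H := by
  refine le_antisymm (le_inf H.focalSubgroup_le_commutator H.focalSubgroup_le) ?_
  rw [← ker_transferFocal_inf_eq H h]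
  open scoped IsMulCommutative in
  exact inf_le_inf_right _ (Abelianization.commutator_subset_ker H.transferFocal)

theorem exists_normal_focal_complement [Finite G] (H : Subgroup G)
    (h : Nat.Coprime H.index (⁅H, H⁆.relIndex H)) :
    ∃ N : Subgroup G, N.Normal ∧ N ⊓ H = commutator G ⊓ H ∧ N ⊔ H = ⊤ :=
  ⟨_, MonoidHom.normal_ker _, (ker_transferFocal_inf_eq H h).trans (focalSubgroup_eq_of_coprime H h),
    ker_transferFocal_sup_eq_top H h⟩

theorem coprime_index_relIndex_sylow [Finite G] [Fact p.Prime] (P : Sylow p G) :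
    Nat.Coprime (P : Subgroup G).index (⁅(P : Subgroup G), (P : Subgroup G)⁆.relIndex P) :=
  P.card_coprime_index.symm.coprime_dvd_right (relIndex_dvd_card ..)

theorem coprime_index_relIndex_hall {H : Subgroup G} (hH : Nat.Coprime (Nat.card H) H.index) :
    Nat.Coprime H.index (⁅H, H⁆.relIndex H) :=
  hH.symm.coprime_dvd_right (relIndex_dvd_card ..)

/-! ### Control of fusion -/

/-- If `M` controls the fusion of elements of `H` then the focal subgroup of `H` lies in `⁅H, M⁆`. -/
theorem focalSubgroup_le_of_control (H M : Subgroup G)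
    (hfus : ∀ x ∈ H, ∀ g : G, g * x * g⁻¹ ∈ H → ∃ m ∈ M, m * x * m⁻¹ = g * x * g⁻¹) :
    H.focalSubgroup ≤ ⁅H, M⁆ ⊓ H := by
  refine le_inf ?_ H.focalSubgroup_le
  rw [Subgroup.focalSubgroup_def, closure_le]
  rintro _ ⟨hgH, x, hx, u, rfl⟩
  have hu : u * x⁻¹ * u⁻¹ ∈ H := by
    have := H.mul_mem (H.inv_mem hx) hgH
    simpa [commutatorElement_def, mul_assoc] using this
  obtain ⟨m, hm, he⟩ := hfus x⁻¹ (H.inv_mem hx) u hu
  have : ⁅x, u⁆ = ⁅x, m⁆ := by
    simp only [commutatorElement_def]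
    rw [show x * u * x⁻¹ * u⁻¹ = x * (u * x⁻¹ * u⁻¹) by group, ← he]
    group
  rw [this]
  exact commutator_mem_commutator hx hm

theorem inf_commutator_eq_of_control [Finite G] (H M : Subgroup G) (hHM : H ≤ M)
    (h : Nat.Coprime H.index (⁅H, H⁆.relIndex H))
    (hfus : ∀ x ∈ H, ∀ g : G, g * x * g⁻¹ ∈ H → ∃ m ∈ M, m * x * m⁻¹ = g * x * g⁻¹) :
    commutator G ⊓ H = ⁅M, M⁆ ⊓ H := by
  refine le_antisymm ?_ (inf_le_inf_right _ (commutator_mono le_top le_top))
  rw [← focalSubgroup_eq_of_coprime H h]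
  exact (focalSubgroup_le_of_control H M hfus).trans (inf_le_inf_right _ (commutator_mono hHM le_rfl))

/-- If `M ≥ P` controls fusion in `P` then `G' ∩ P = M' ∩ P`. -/
theorem commutator_inf_eq_of_control [Finite G] [Fact p.Prime] (P : Sylow p G) (M : Subgroup G)
    (hPM : (P : Subgroup G) ≤ M)
    (hfus : ∀ x ∈ (P : Subgroup G), ∀ g : G, g * x * g⁻¹ ∈ (P : Subgroup G) →
      ∃ m ∈ M, m * x * m⁻¹ = g * x * g⁻¹) :
    commutator G ⊓ (P : Subgroup G) = ⁅M, M⁆ ⊓ (P : Subgroup G) :=
  inf_commutator_eq_of_control _ M hPM (coprime_index_relIndex_sylow P) hfus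

theorem commutator_inf_eq_of_self_control [Finite G] [Fact p.Prime] (P : Sylow p G)
    (hfus : ∀ x ∈ (P : Subgroup G), ∀ g : G, g * x * g⁻¹ ∈ (P : Subgroup G) →
      ∃ m ∈ (P : Subgroup G), m * x * m⁻¹ = g * x * g⁻¹) :
    commutator G ⊓ (P : Subgroup G) = ⁅(P : Subgroup G), (P : Subgroup G)⁆ := by
  rw [commutator_inf_eq_of_control P P le_rfl hfus]
  exact inf_eq_left.mpr (commutator_le_self _)

/-! ### Conjugation of subgroups and sets -/

theorem mem_map_conj_iff {H : Subgroup G} {g x : G} :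
    x ∈ H.map (MulAut.conj g).toMonoidHom ↔ g⁻¹ * x * g ∈ H := by
  rw [mem_map_equiv, MulAut.conj_symm_apply]

theorem map_conj_eq_iff_mem_normalizer {H : Subgroup G} {g : G} :
    H.map (MulAut.conj g).toMonoidHom = H ↔ g ∈ normalizer (H : Set G) := by
  rw [mem_normalizer_iff'', SetLike.ext_iff]
  exact forall_congr' fun x => by rw [mem_map_conj_iff]; exact Iff.comm

theorem map_conj_map_conj (H : Subgroup G) (g h : G) :
    (H.map (MulAut.conj g).toMonoidHom).map (MulAut.conj h).toMonoidHom =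
      H.map (MulAut.conj (h * g)).toMonoidHom := by
  ext x
  simp [mul_assoc]

theorem sylow_coe_smul (P : Sylow p G) (g : G) :
    ((g • P : Sylow p G) : Subgroup G) = (P : Subgroup G).map (MulAut.conj g).toMonoidHom :=
  rfl

/-- Conjugacy of Sylow subgroups inside a subgroup: any two Sylow `p`-subgroups of `G` inside `H`
are conjugate by an element of `H`. -/
theorem exists_conj_sylow_le [Finite G] [Fact p.Prime] {H : Subgroup G} (P Q : Sylow p G)
    (hP : (P : Subgroup G) ≤ H) (hQ : (Q : Subgroup G) ≤ H) :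
    ∃ h ∈ H, (P : Subgroup G).map (MulAut.conj h).toMonoidHom = (Q : Subgroup G) := by
  obtain ⟨h, hh⟩ := MulAction.exists_smul_eq H (P.subtype hP) (Q.subtype hQ)
  refine ⟨h, h.2, ?_⟩
  rw [Sylow.smul_subtype] at hh
  exact congrArg Sylow.toSubgroup (Sylow.subtype_injective hh)

/-- A `p`-subgroup of `H` is conjugate by an element of `H` into a given Sylow subgroup of `H`. -/
theorem exists_conj_le_of_not_dvd_relIndex [Finite G] [Fact p.Prime] {H S Q : Subgroup G}
    (hS : S ≤ H) (hSp : IsPGroup p S) (hrel : ¬ p ∣ S.relIndex H) (hQ : Q ≤ H) (hQp : IsPGroup p Q) :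
    ∃ h ∈ H, Q.map (MulAut.conj h).toMonoidHom ≤ S := by
  let S' : Sylow p H :=
    ((hSp.of_equiv (subgroupOfEquivOfLe hS).symm).toSylow hrel)
  obtain ⟨R, hR⟩ := (hQp.of_equiv (subgroupOfEquivOfLe hQ).symm).exists_le_sylow
  obtain ⟨h, hh⟩ := MulAction.exists_smul_eq H R S'
  refine ⟨h, h.2, fun x hx => ?_⟩
  obtain ⟨q, hq, rfl⟩ := hx
  have h1 : h * ⟨q, hQ hq⟩ * h⁻¹ ∈ ((h • R : Sylow p H) : Subgroup H) :=
    ⟨⟨q, hQ hq⟩, hR (mem_subgroupOf.mpr hq), rfl⟩
  rw [hh] at h1
  exact (mem_subgroupOf.mp h1 :)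

/-! ### Burnside fusion -/

/-- **Burnside**: conjugate normal subsets of a Sylow subgroup are conjugate in its normalizer. -/
theorem exists_normalizer_conj_image [Finite G] [Fact p.Prime] (P : Sylow p G) {X Y : Set G}
    (hX : ∀ x ∈ P, (fun y => x * y * x⁻¹) '' X = X) (hY : ∀ x ∈ P, (fun y => x * y * x⁻¹) '' Y = Y)
    {g : G} (hg : (fun y => g * y * g⁻¹) '' X = Y) :
    ∃ n ∈ normalizer (P : Set G), (fun y => n * y * n⁻¹) '' X = Y := by
  have hcomp : ∀ (a b : G) (S : Set G),
      (fun y => a * y * a⁻¹) '' ((fun y => b * y * b⁻¹) '' S) = (fun y => (a * b) * y * (a * b)⁻¹) '' S := by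
    intro a b S
    rw [Set.image_image]
    exact Set.image_congr fun y _ => by group
  let M : Subgroup G :=
    { carrier := {x | (fun y => x * y * x⁻¹) '' Y = Y}
      one_mem' := by simp
      mul_mem' := fun {a b} ha hb => by
        simp only [Set.mem_ofPred_eq] at ha hb ⊢
        rw [← hcomp, hb, ha]
      inv_mem' := fun {a} ha => by
        simp only [Set.mem_ofPred_eq] at ha ⊢
        conv_lhs => rw [← ha]
        rw [hcomp]
        simp }
  have hP : (P : Subgroup G) ≤ M := hY
  have hgP : ((g • P : Sylow p G) : Subgroup G) ≤ M := by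
    rintro _ ⟨x, hx, rfl⟩
    change (fun y => (g * x * g⁻¹) * y * (g * x * g⁻¹)⁻¹) '' Y = Y
    conv_lhs => rw [← hg, hcomp]
    have : g * x * g⁻¹ * g = g * x := by group
    rw [this, ← hcomp, hX x hx, hg]
  obtain ⟨m, hm, hmP⟩ := exists_conj_sylow_le (g • P) P hgP hP
  refine ⟨m * g, ?_, ?_⟩
  · rw [sylow_coe_smul, map_conj_map_conj] at hmP
    exact map_conj_eq_iff_mem_normalizer.mp hmP
  · rw [← hcomp, hg]
    exact hm

/-- For an abelian Sylow subgroup the normalizer controls fusion. -/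
theorem normalizer_control_of_comm [Finite G] [Fact p.Prime] (P : Sylow p G) [IsMulCommutative P] :
    ∀ x ∈ (P : Subgroup G), ∀ g : G, g * x * g⁻¹ ∈ (P : Subgroup G) →
      ∃ m ∈ normalizer ((P : Subgroup G) : Set G), m * x * m⁻¹ = g * x * g⁻¹ := by
  intro x hx g hg
  obtain ⟨n, hn, he⟩ := P.conj_eq_normalizer_conj_of_mem x g⁻¹ hx
    (show g⁻¹⁻¹ * x * g⁻¹ ∈ (P : Subgroup G) by rwa [inv_inv])
  exact ⟨n⁻¹, inv_mem hn, by simpa using he.symm⟩

/-! ### Abelian Sylow subgroups -/

theorem commutator_inf_eq_normalizer_commutator [Finite G] [Fact p.Prime] (P : Sylow p G)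
    [IsMulCommutative P] :
    commutator G ⊓ (P : Subgroup G) =
      ⁅normalizer ((P : Subgroup G) : Set G), normalizer ((P : Subgroup G) : Set G)⁆ ⊓ (P : Subgroup G) :=
  commutator_inf_eq_of_control P _ P.le_normalizer (normalizer_control_of_comm P)

theorem commutator_normalizer_le (H : Subgroup G) :
    ⁅H, normalizer (H : Set G)⁆ ≤ H := by
  rw [commutator_le]
  intro x hx n hn
  rw [commutatorElement_def, show x * n * x⁻¹ * n⁻¹ = x * (n * x⁻¹ * n⁻¹) by group]
  exact H.mul_mem hx ((mem_normalizer_iff.mp hn _).mp (H.inv_mem hx))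

theorem commutator_inf_eq_commutator_normalizer [Finite G] [Fact p.Prime] (P : Sylow p G)
    [IsMulCommutative P] :
    commutator G ⊓ (P : Subgroup G) = ⁅(P : Subgroup G), normalizer ((P : Subgroup G) : Set G)⁆ := by
  refine le_antisymm ?_ (le_inf (commutator_mono le_top le_top) (commutator_normalizer_le _))
  rw [← focalSubgroup_eq_of_coprime _ (coprime_index_relIndex_sylow P)]
  exact (focalSubgroup_le_of_control _ _ (normalizer_control_of_comm P)).trans inf_le_left

/-- An element of `N(P)` acts on an abelian Sylow subgroup like a power of it of order prime to `p`. -/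
theorem exists_coprime_conj_eq [Finite G] [Fact p.Prime] (P : Sylow p G) [IsMulCommutative P]
    {n : G} (hn : n ∈ normalizer ((P : Subgroup G) : Set G)) :
    ∃ y ∈ zpowers n, Nat.Coprime (orderOf y) p ∧ ∀ x ∈ (P : Subgroup G), y * x * y⁻¹ = n * x * n⁻¹ := by
  obtain ⟨a, y, he, ha, hy, ⟨k, hk⟩, hyc⟩ := exists_pPart_mul (p := p) n
  refine ⟨y, hy, hyc, fun x hx => ?_⟩
  have haN : a ∈ normalizer ((P : Subgroup G) : Set G) := (zpowers_le.mpr hn) ha
  have hyN : y ∈ normalizer ((P : Subgroup G) : Set G) := (zpowers_le.mpr hn) hy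
  have haP : a ∈ (P : Subgroup G) := by
    have h1 : IsPGroup p (zpowers a) := IsPGroup.of_card (n := k) (by rw [Nat.card_zpowers, hk])
    exact ((h1.inf_normalizer_sylow P).le ⟨mem_zpowers a, haN⟩).2
  have hc : Commute a (y * x * y⁻¹) :=
    congrArg Subtype.val (mul_comm' (⟨a, haP⟩ : (P : Subgroup G)) ⟨_, (mem_normalizer_iff.mp hyN x).mp hx⟩)
  rw [he, show a * y * x * (a * y)⁻¹ = a * (y * x * y⁻¹) * a⁻¹ by group, hc.eq, mul_inv_cancel_right]

theorem inf_pResidual_eq_commutator_normalizer [Finite G] [Fact p.Prime] (P : Sylow p G)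
    [IsMulCommutative P] :
    (P : Subgroup G) ⊓ pResidual p G = ⁅(P : Subgroup G), normalizer ((P : Subgroup G) : Set G)⁆ := by
  refine le_antisymm ?_ (le_inf (commutator_normalizer_le _) ?_)
  · rw [← commutator_inf_eq_commutator_normalizer, inf_comm,
      ← focalSubgroup_eq_of_coprime _ (coprime_index_relIndex_sylow P),
      ← ker_transferFocal_inf_eq _ (coprime_index_relIndex_sylow P)]
    exact inf_le_inf_right _ (pResidual_le_ker (P.2.to_quotient _) _)
  · rw [commutator_le]
    intro x hx n hn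
    obtain ⟨y, -, hyc, hy⟩ := exists_coprime_conj_eq P hn
    rw [commutatorElement_def, show x * n * x⁻¹ * n⁻¹ = x * (n * x⁻¹ * n⁻¹) by group,
      ← hy _ (inv_mem hx), show x * (y * x⁻¹ * y⁻¹) = x * y * x⁻¹ * y⁻¹ by group]
    exact (pResidual p G).mul_mem (pResidual_normal.conj_mem y (mem_pResidual_of_coprime hyc) x)
      ((pResidual p G).inv_mem (mem_pResidual_of_coprime hyc))

/-! ### Weakly closed subgroups -/

theorem eq_of_isWeaklyClosed {W P : Subgroup G} (hW : IsWeaklyClosed W P) {g : G}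
    (hg : W.map (MulAut.conj g).toMonoidHom ≤ P) : g ∈ normalizer (W : Set G) :=
  map_conj_eq_iff_mem_normalizer.mp (hW.2 g hg)

/-- In any Sylow subgroup there is at most one conjugate of a weakly closed subgroup. -/
theorem map_conj_eq_of_le_sylow [Finite G] [Fact p.Prime] (P : Sylow p G) {W : Subgroup G}
    (hW : IsWeaklyClosed W P) {Q : Sylow p G} {a b : G}
    (ha : W.map (MulAut.conj a).toMonoidHom ≤ (Q : Subgroup G))
    (hb : W.map (MulAut.conj b).toMonoidHom ≤ (Q : Subgroup G)) :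
    W.map (MulAut.conj a).toMonoidHom = W.map (MulAut.conj b).toMonoidHom := by
  obtain ⟨h, rfl⟩ := MulAction.exists_smul_eq G P Q
  rw [sylow_coe_smul] at ha hb
  have key : ∀ c : G, W.map (MulAut.conj c).toMonoidHom ≤
      (P : Subgroup G).map (MulAut.conj h).toMonoidHom →
      W.map (MulAut.conj c).toMonoidHom = W.map (MulAut.conj h).toMonoidHom := by
    intro c hc
    have h1 := map_mono (f := (MulAut.conj h⁻¹).toMonoidHom) hc
    rw [map_conj_map_conj, map_conj_map_conj, inv_mul_cancel,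
      map_conj_eq_iff_mem_normalizer.mpr (one_mem _)] at h1
    have h2 := congrArg (Subgroup.map (MulAut.conj h).toMonoidHom) (hW.2 _ h1)
    rw [map_conj_map_conj, mul_inv_cancel_left] at h2
    exact h2
  rw [key a ha, key b hb]

/-- **Gruen**: the normalizer of a weakly closed subgroup `Z` controls the fusion of the elements of `P`
centralized by `Z`. -/
theorem weaklyClosed_control [Finite G] [Fact p.Prime] (P : Sylow p G) {Z : Subgroup G}
    (hW : IsWeaklyClosed Z P) {x g : G} (hx : Z ≤ centralizer {x})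
    (hy : Z ≤ centralizer {g * x * g⁻¹}) :
    ∃ m ∈ normalizer (Z : Set G), m * x * m⁻¹ = g * x * g⁻¹ := by
  set C := centralizer ({g * x * g⁻¹} : Set G)
  have hZp : IsPGroup p Z := P.2.to_le hW.1
  have h1 : Z.map (MulAut.conj g).toMonoidHom ≤ C := by
    rintro _ ⟨z, hz, rfl⟩
    have hzx : x * z = z * x := mem_centralizer_singleton_iff.mp (hx hz) |>.symm
    rw [mem_centralizer_singleton_iff]
    change g * z * g⁻¹ * (g * x * g⁻¹) = g * x * g⁻¹ * (g * z * g⁻¹)
    rw [show g * z * g⁻¹ * (g * x * g⁻¹) = g * (z * x) * g⁻¹ by group, ← hzx]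
    group
  obtain ⟨S, hS⟩ := (hZp.of_equiv (subgroupOfEquivOfLe hy).symm).exists_le_sylow
  have hSp : IsPGroup p ((S : Subgroup C).map C.subtype) := S.2.map _
  have hZS : Z ≤ (S : Subgroup C).map C.subtype := by
    rw [← map_subgroupOf_eq_of_le hy]
    exact map_mono hS
  have hrel : ¬ p ∣ ((S : Subgroup C).map C.subtype).relIndex C := by
    rw [relIndex, subgroupOf, comap_map_eq_self_of_injective C.subtype_injective]
    exact S.not_dvd_index
  obtain ⟨c, hc, hcS⟩ := exists_conj_le_of_not_dvd_relIndex (map_subtype_le _) hSp hrel h1 (hZp.map _)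
  obtain ⟨Q, hQ⟩ := hSp.exists_le_sylow
  rw [map_conj_map_conj] at hcS
  have h3 : Z.map (MulAut.conj (1 : G)).toMonoidHom = Z :=
    map_conj_eq_iff_mem_normalizer.mpr (one_mem _)
  have h2 := map_conj_eq_of_le_sylow P hW (Q := Q) (a := c * g) (b := 1) (hcS.trans hQ)
    (h3.le.trans (hZS.trans hQ))
  refine ⟨c * g, map_conj_eq_iff_mem_normalizer.mp (h2.trans h3), ?_⟩
  have hcy : c * (g * x * g⁻¹) = g * x * g⁻¹ * c := mem_centralizer_singleton_iff.mp hc
  rw [show c * g * x * (c * g)⁻¹ = c * (g * x * g⁻¹) * c⁻¹ by group, hcy]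
  group

/-- A weakly closed subgroup central in `P`: its normalizer controls fusion in `P`. -/
theorem weaklyClosed_central_control [Finite G] [Fact p.Prime] (P : Sylow p G) {Z : Subgroup G}
    (hZ : Z ≤ centralizer (P : Set G)) (hW : IsWeaklyClosed Z P) :
    ∀ x ∈ (P : Subgroup G), ∀ g : G, g * x * g⁻¹ ∈ (P : Subgroup G) →
      ∃ m ∈ normalizer (Z : Set G), m * x * m⁻¹ = g * x * g⁻¹ :=
  fun x hx g hg => weaklyClosed_control P hW
    (hZ.trans (centralizer_le (Set.singleton_subset_iff.mpr hx)))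
    (hZ.trans (centralizer_le (Set.singleton_subset_iff.mpr hg)))

theorem le_normalizer_of_le_centralizer {Z P : Subgroup G} (hZ : Z ≤ centralizer (P : Set G)) :
    P ≤ normalizer (Z : Set G) :=
  (le_centralizer_iff.mp hZ).trans (centralizer_le_normalizer _)

end Cfsg.Agent.Transfer
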