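-- Tate's theorem on subgroups of index prime to p.
--
-- Main results (namespace `Cfsg.Agent.Transfer`):
-- * `tate_of_extend`: if every homomorphism from `H` (index prime to `p`) to a group of order `p` extends
--   to `G`, then `H ⊓ O^p(G) = O^p(H)`
-- * `exists_extend_of_commutator_inf_eq`: the extension hypothesis follows from `G' ∩ P = H' ∩ P`
-- * `tate`: `G' ∩ P = H' ∩ P` implies `H ⊓ O^p(G) = O^p(H)`; `tate_sylow`: the same cut down to `P`
-- * `hasNormalPComplement_of_self_control`: `P` controls its own fusion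
-- * `exists_maximal_normal_pIndex`: a central step between two normal subgroups with p-power index
import Cfsg.Agent.Lib.Transfer.Focal

set_option autoImplicit false

namespace Cfsg.Agent.Transfer

open Subgroup
open scoped commutatorElement

universe u

variable {G : Type u} [Group G] {p : ℕ}

/-- Between `U < L`, both normal in `H` with `H/U` a `p`-group, there is `M` normal with `[L, H] ≤ M`, `[L:M] = p`. -/
theorem exists_central_step {H : Type u} [Group H] [Finite H] [Fact p.Prime] {U L : Subgroup H}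
    [U.Normal] [L.Normal] (hU : IsPGroup p (H ⧸ U)) (hlt : U < L) :
    ∃ M : Subgroup H, M.Normal ∧ U ≤ M ∧ M ≤ L ∧ M.relIndex L = p ∧ ⁅L, (⊤ : Subgroup H)⁆ ≤ M := by
  classical
  have : Fintype (Subgroup H) := Fintype.ofFinite _
  obtain ⟨M, ⟨hMn, hUM, hML⟩, hmax⟩ := Set.Finite.exists_maximal
    (Set.toFinite {M : Subgroup H | M.Normal ∧ U ≤ M ∧ M < L}) ⟨U, ‹U.Normal›, le_rfl, hlt⟩
  have hp : p.Prime := Fact.out
  have hcomm : ⁅L, (⊤ : Subgroup H)⁆ ≤ M := by
    by_contra hc
    have hsup : ⁅L, (⊤ : Subgroup H)⁆ ⊔ M = L := by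
      refine (le_antisymm (sup_le (commutator_le_left L ⊤) hML.le) ?_)
      by_contra hle
      have hnew : M < ⁅L, (⊤ : Subgroup H)⁆ ⊔ M := right_lt_sup.mpr hc
      have hlt' : ⁅L, (⊤ : Subgroup H)⁆ ⊔ M < L :=
        lt_of_le_not_ge (sup_le (commutator_le_left L ⊤) hML.le) hle
      exact hnew.not_ge (hmax ⟨sup_normal _ _, hUM.trans le_sup_right, hlt'⟩ hnew.le)
    have hnil : Group.IsNilpotent (H ⧸ M) := by
      refine IsPGroup.isNilpotent (p := p) ?_
      exact hU.of_surjective (QuotientGroup.map U M (MonoidHom.id H) (hUM.trans (comap_id M).ge))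
        (fun x => by
          induction x using QuotientGroup.induction_on with
          | H h => exact ⟨QuotientGroup.mk h, rfl⟩)
    set L' := L.map (QuotientGroup.mk' M)
    have hL' : L' = ⁅L', (⊤ : Subgroup (H ⧸ M))⁆ := by
      conv_lhs => rw [show L' = L.map (QuotientGroup.mk' M) from rfl, ← hsup]
      rw [Subgroup.map_sup, QuotientGroup.map_mk'_self, sup_bot_eq, map_commutator,
        map_top_of_surjective _ (QuotientGroup.mk'_surjective M)]
    have hall : ∀ n : ℕ, L' ≤ Subgroup.lowerCentralSeries (⊤ : Subgroup (H ⧸ M)) n := by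
      intro n
      induction n with
      | zero => exact le_top
      | succ n ih => exact hL'.le.trans (commutator_mono ih le_rfl)
    obtain ⟨n, hn⟩ := Subgroup.nilpotent_iff_lowerCentralSeries.mp hnil
    have hbot : L' ≤ ⊥ := (hall n).trans hn.le
    refine hML.not_ge fun x hx => ?_
    exact (QuotientGroup.eq_one_iff x).mp (mem_bot.mp (hbot ⟨x, hx, rfl⟩))
  refine ⟨M, hMn, hUM, hML.le, ?_, hcomm⟩
  -- a subgroup containing `M` inside `L` is normal, so `[L:M]` is a prime
  have hnormal : ∀ K : Subgroup H, M ≤ K → K ≤ L → K.Normal := by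
    intro K hMK hKL
    refine ⟨fun k hk h => ?_⟩
    have h1 : ⁅k, h⁆ ∈ K := hMK (hcomm (commutator_mem_commutator (hKL hk) (mem_top h)))
    have h2 : ⁅k, h⁆⁻¹ * k = h * k * h⁻¹ := by simp [commutatorElement_def, mul_assoc]
    exact h2 ▸ K.mul_mem (K.inv_mem h1) hk
  have hidx : M.relIndex L ∣ M.index := relIndex_dvd_index_of_normal M L
  obtain ⟨a, ha⟩ := IsPGroup.iff_card.mp hU
  have hMi : M.index ∣ p ^ a := ha ▸ (index_dvd_of_le hUM)
  obtain ⟨b, -, hb⟩ := (Nat.dvd_prime_pow hp).mp (hidx.trans hMi)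
  have hb0 : b ≠ 0 := fun h0 => hML.not_ge (relIndex_eq_one.mp (by rw [hb, h0, pow_zero]))
  obtain ⟨l, hl⟩ := exists_prime_orderOf_dvd_card' p (G := L ⧸ M.subgroupOf L)
    (by rw [← index_eq_card, ← relIndex, hb]; exact dvd_pow_self p hb0)
  set T : Subgroup L := (zpowers l).comap (QuotientGroup.mk' (M.subgroupOf L))
  have hT1 : M ≤ T.map L.subtype := by
    intro x hx
    refine ⟨⟨x, hML.le hx⟩, ?_, rfl⟩
    change (QuotientGroup.mk' (M.subgroupOf L)) ⟨x, hML.le hx⟩ ∈ zpowers l
    rw [QuotientGroup.mk'_apply,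
      (QuotientGroup.eq_one_iff (N := M.subgroupOf L) _).mpr (mem_subgroupOf.mpr hx)]
    exact one_mem _
  have hT2 : T.map L.subtype = L := by
    by_contra hne
    have hle := hmax ⟨hnormal _ hT1 (map_subtype_le T), hUM.trans hT1,
      lt_of_le_of_ne (map_subtype_le T) hne⟩ hT1
    obtain ⟨y, hy⟩ := QuotientGroup.mk'_surjective (M.subgroupOf L) l
    have hyM : (y : H) ∈ M :=
      hle ⟨y, (show QuotientGroup.mk' (M.subgroupOf L) y ∈ zpowers l from hy ▸ mem_zpowers l), rfl⟩
    have hy1 : QuotientGroup.mk' (M.subgroupOf L) y = 1 :=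
      (QuotientGroup.eq_one_iff (N := M.subgroupOf L) y).mpr (mem_subgroupOf.mpr hyM)
    rw [← hy, hy1, orderOf_one] at hl
    exact hp.ne_one hl.symm
  have hTtop : T = ⊤ := map_injective L.subtype_injective
    (by rw [hT2, ← MonoidHom.range_eq_map, range_subtype])
  have hz : zpowers l = ⊤ := by
    rw [eq_top_iff, ← map_top_of_surjective _ (QuotientGroup.mk'_surjective (M.subgroupOf L)), ← hTtop]
    exact map_comap_le _ _
  rw [relIndex, index_eq_card, ← hl, ← Nat.card_zpowers, hz, card_top]

/-- **Tate's theorem**, in the form: extendable homomorphisms into groups of order `p`. -/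
theorem tate_of_extend [Finite G] [Fact p.Prime] (H : Subgroup G) (hidx : ¬ p ∣ H.index)
    (hext : ∀ (A : Type u) [CommGroup A], Nat.card A = p → ∀ δ : H →* A, ∃ Δ : G →* A, ∀ h : H, Δ h = δ h) :
    H ⊓ pResidual p G = (pResidual p H).map H.subtype := by
  classical
  have hp : p.Prime := Fact.out
  refine le_antisymm ?_ (map_pResidual_subtype_le H)
  by_contra hne
  set K := pResidual p G
  set L : Subgroup H := K.subgroupOf H with hLdef
  have hUL : pResidual p H ≤ L := by
    intro x hx
    exact mem_subgroupOf.mpr ((map_pResidual_subtype_le (p := p) H) ⟨x, hx, rfl⟩).2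
  have hlt : pResidual p H < L := lt_of_le_not_ge hUL fun hle => hne fun x hx =>
    ⟨⟨x, hx.1⟩, hle (mem_subgroupOf.mpr hx.2), rfl⟩
  have hLn : L.Normal := normal_subgroupOf
  obtain ⟨M, hMn, hUM, hML, hrel, hcomm⟩ := exists_central_step (p := p)
    isPGroup_quotient_pResidual hlt
  set q := QuotientGroup.mk' M
  set A : Subgroup (H ⧸ M) := L.map q with hAdef
  have hAc : ∀ a ∈ A, ∀ x : H ⧸ M, x * a = a * x := by
    rintro _ ⟨l, hl, rfl⟩ x
    induction x using QuotientGroup.induction_on with
    | H h =>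
      have h1 : ⁅l, h⁆ ∈ M := hcomm (commutator_mem_commutator hl (mem_top h))
      have h2 : (QuotientGroup.mk (l * h * l⁻¹ * h⁻¹) : H ⧸ M) = 1 := (QuotientGroup.eq_one_iff _).mpr h1
      simp only [QuotientGroup.mk_mul, QuotientGroup.mk_inv] at h2
      calc (h : H ⧸ M) * (q l) = 1 * ((h : H ⧸ M) * (q l)) := (one_mul _).symm
        _ = _ := by rw [← h2]; simp [q, mul_assoc]
  have hAcard : Nat.card A = p := by
    rw [← hrel, ← relIndex_bot_left, ← QuotientGroup.map_mk'_self M]
    rw [relIndex_map_map, QuotientGroup.ker_mk', sup_idem, sup_eq_left.mpr hML]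
  let : CommGroup A := { (inferInstance : Group A) with
    mul_comm := fun a b => Subtype.ext (hAc b b.2 a) }
  -- the map to G/K
  let ρ : H →* G ⧸ K := (QuotientGroup.mk' K).comp H.subtype
  have hρker : ρ.ker = L := by
    ext h
    exact (QuotientGroup.eq_one_iff (N := K) (h : G)).trans mem_subgroupOf.symm
  let π : H ⧸ M →* G ⧸ K := QuotientGroup.lift M ρ (by rw [hρker]; exact hML)
  have hπker : π.ker = A := by
    ext x
    induction x using QuotientGroup.induction_on with
    | H h =>
      rw [MonoidHom.mem_ker, show π (h : H ⧸ M) = ρ h from rfl, ← MonoidHom.mem_ker, hρker]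
      refine ⟨fun hh => ⟨h, hh, rfl⟩, ?_⟩
      rintro ⟨l, hl, he⟩
      have h1 : l⁻¹ * h ∈ M := (QuotientGroup.eq).mp he
      simpa using L.mul_mem hl (hML h1)
  have hπsurj : Function.Surjective π := by
    intro y
    induction y using QuotientGroup.induction_on with
    | H g =>
      obtain ⟨h, hh, k, hk, rfl⟩ := mem_sup_of_normal_right.mp
        ((sup_pResidual_eq_top hidx).symm ▸ mem_top g)
      refine ⟨QuotientGroup.mk ⟨h, hh⟩, ?_⟩
      change ρ ⟨h, hh⟩ = _
      rw [QuotientGroup.mk_mul, (QuotientGroup.eq_one_iff k).mpr hk, mul_one]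
      rfl
  -- the pullback extension
  let E : Subgroup (G × (H ⧸ M)) :=
    ((QuotientGroup.mk' K).comp (MonoidHom.fst G (H ⧸ M))).eqLocus (π.comp (MonoidHom.snd G (H ⧸ M)))
  let fstE : E →* G := (MonoidHom.fst _ _).comp E.subtype
  let sndE : E →* H ⧸ M := (MonoidHom.snd _ _).comp E.subtype
  have hfst : Function.Surjective fstE := fun g => by
    obtain ⟨x, hx⟩ := hπsurj (QuotientGroup.mk g)
    exact ⟨⟨(g, x), hx.symm⟩, rfl⟩
  let Hs : Subgroup E := H.comap fstE
  have hHs : ¬ p ∣ Hs.index := by rw [index_comap_of_surjective H hfst]; exact hidx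
  have hmem : ∀ e : Hs, sndE e * (q ⟨fstE e, e.2⟩)⁻¹ ∈ A := fun e => by
    rw [← hπker, MonoidHom.mem_ker, map_mul, map_inv, mul_inv_eq_one]
    exact e.1.2.symm
  let φ : Hs →* A :=
    { toFun := fun e => ⟨sndE e * (q ⟨fstE e, e.2⟩)⁻¹, hmem e⟩
      map_one' := Subtype.ext (show sndE 1 * (q ⟨fstE 1, _⟩)⁻¹ = 1 by
        have : (⟨fstE 1, H.one_mem⟩ : H) = 1 := Subtype.ext (map_one fstE)
        rw [map_one sndE, this, map_one, inv_one, one_mul])
      map_mul' := fun e f => Subtype.ext (by
        change sndE (e.1 * f.1) * (q ⟨fstE (e.1 * f.1), _⟩)⁻¹ =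
          sndE e.1 * (q ⟨fstE e.1, e.2⟩)⁻¹ * (sndE f.1 * (q ⟨fstE f.1, f.2⟩)⁻¹)
        have : (⟨fstE (e.1 * f.1), H.mul_mem e.2 f.2⟩ : H) = ⟨fstE e.1, e.2⟩ * ⟨fstE f.1, f.2⟩ :=
          Subtype.ext (map_mul fstE _ _)
        rw [this, map_mul q, mul_inv_rev, map_mul sndE]
        have hc := hAc _ (hmem f) (q ⟨fstE e.1, e.2⟩)⁻¹
        rw [mul_assoc (sndE e.1) (q ⟨fstE e.1, e.2⟩)⁻¹, hc]
        group) }
  let V : E →* A := MonoidHom.transfer φ
  have hV : ∀ (z : A) (e : E), fstE e = 1 → sndE e = z → V e = z ^ Hs.index := by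
    intro z e he1 he2
    have hcen : ∀ g : E, g * e = e * g := by
      intro g
      refine Subtype.ext (Prod.ext ?_ ?_)
      · change fstE g * fstE e = fstE e * fstE g
        rw [he1, one_mul, mul_one]
      · change sndE g * sndE e = sndE e * sndE g
        rw [he2]
        exact hAc _ z.2 _
    rw [show V e = MonoidHom.transfer φ e from rfl, MonoidHom.transfer_eq_pow φ e (fun k g _ => by
      have hk : Commute g (e ^ k) := (show Commute g e from hcen g).pow_right k
      rw [mul_assoc, ← hk.eq, inv_mul_cancel_left])]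
    have hmem' : e ∈ Hs := by
      change fstE e ∈ H
      rw [he1]
      exact H.one_mem
    rw [show (⟨e ^ Hs.index, _⟩ : Hs) = (⟨e, hmem'⟩ : Hs) ^ Hs.index from rfl, map_pow]
    congr 1
    refine Subtype.ext ?_
    change sndE e * (q ⟨fstE e, hmem'⟩)⁻¹ = _
    have : (⟨fstE e, hmem'⟩ : H) = 1 := Subtype.ext he1
    rw [this, map_one, inv_one, mul_one, he2]
  have hco : (Nat.card A).Coprime Hs.index := by
    rw [hAcard]
    exact hp.coprime_iff_not_dvd.mpr hHs
  let ψ : E →* H ⧸ M :=
    { toFun := fun e => sndE e * (((powCoprime hco).symm (V e) : A) : H ⧸ M)⁻¹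
      map_one' := by
        have h0 : (powCoprime hco).symm (1 : A) = 1 := by
          rw [Equiv.symm_apply_eq]; exact (one_pow _).symm
        rw [map_one, map_one, h0, coe_one, inv_one, one_mul]
      map_mul' := fun e f => by
        have hmul : ∀ a b : A, (powCoprime hco).symm (a * b) =
            (powCoprime hco).symm a * (powCoprime hco).symm b := by
          intro a b
          rw [Equiv.symm_apply_eq]
          change a * b = (_ * _) ^ _
          rw [mul_pow]
          congr 1 <;> exact ((powCoprime hco).apply_symm_apply _).symm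
        rw [map_mul, map_mul, hmul, coe_mul, mul_inv_rev, mul_assoc (sndE e),
          mul_assoc (sndE e)]
        congr 1
        rw [← mul_assoc, hAc _ (A.inv_mem ((powCoprime hco).symm (V e)).2)] }
  have hψ : fstE.ker ≤ ψ.ker := by
    intro e he
    have he1 : fstE e = 1 := he
    have hz : sndE e ∈ A := by
      rw [← hπker, MonoidHom.mem_ker]
      have := e.2.symm
      change π (sndE e) = QuotientGroup.mk' K (fstE e) at this
      rw [this, he1, map_one]
    change sndE e * (((powCoprime hco).symm (V e) : A) : H ⧸ M)⁻¹ = 1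
    rw [hV ⟨_, hz⟩ e he1 rfl, show (powCoprime hco).symm ((⟨_, hz⟩ : A) ^ Hs.index) = ⟨_, hz⟩ from
      (Equiv.symm_apply_eq _).mpr rfl, mul_inv_cancel]
  let f : G →* H ⧸ M := MonoidHom.liftOfSurjective fstE hfst ⟨ψ, hψ⟩
  have hf : ∀ e : E, f (fstE e) = ψ e :=
    MonoidHom.liftOfRightInverse_comp_apply fstE _ (Function.rightInverse_surjInv hfst) ⟨ψ, hψ⟩
  have hπf : ∀ g : G, π (f g) = QuotientGroup.mk' K g := by
    intro g
    obtain ⟨e, rfl⟩ := hfst g
    rw [hf]
    change π (sndE e * _) = _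
    have : π ((((powCoprime hco).symm (V e) : A) : H ⧸ M)) = 1 := by
      rw [← MonoidHom.mem_ker, hπker]
      exact ((powCoprime hco).symm (V e)).2
    rw [map_mul, map_inv, this, inv_one, mul_one]
    exact e.2.symm
  -- correct by a homomorphism into A
  have hδmem : ∀ h : H, (q h)⁻¹ * f h ∈ A := fun h => by
    rw [← hπker, MonoidHom.mem_ker, map_mul, map_inv, hπf, inv_mul_eq_one]
    rfl
  let δ : H →* A :=
    { toFun := fun h => ⟨(q h)⁻¹ * f h, hδmem h⟩
      map_one' := Subtype.ext (by simp)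
      map_mul' := fun a b => Subtype.ext (by
        change (q (a * b))⁻¹ * f ((a : G) * b) = (q a)⁻¹ * f a * ((q b)⁻¹ * f b)
        rw [map_mul, map_mul f, mul_inv_rev, mul_assoc, ← mul_assoc (q a)⁻¹ (f a),
          ← mul_assoc ((q a)⁻¹ * f a) (q b)⁻¹, ← hAc _ (hδmem a) (q b)⁻¹]
        group) }
  obtain ⟨Δ, hΔ⟩ := hext A hAcard δ
  let f' : G →* H ⧸ M :=
    { toFun := fun g => f g * ((Δ g : A) : H ⧸ M)⁻¹
      map_one' := by simp
      map_mul' := fun a b => by
        rw [map_mul, map_mul, coe_mul, mul_inv_rev, mul_assoc (f a), mul_assoc (f a)]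
        congr 1
        rw [← mul_assoc, hAc _ (A.inv_mem (Δ a).2)] }
  have hK : K ≤ f'.ker := pResidual_le_ker
    (isPGroup_quotient_pResidual.of_surjective (QuotientGroup.map (pResidual p H) M (MonoidHom.id H)
      (hUM.trans (comap_id M).ge)) fun x => by
        induction x using QuotientGroup.induction_on with
        | H h => exact ⟨QuotientGroup.mk h, rfl⟩) f'
  have hLM : L ≤ M := by
    intro l hl
    have h1 : f' (l : G) = 1 := hK (mem_subgroupOf.mp hl)
    change f (l : G) * ((Δ (l : G) : A) : H ⧸ M)⁻¹ = 1 at h1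
    rw [hΔ l] at h1
    change f (l : G) * ((q l)⁻¹ * f (l : G))⁻¹ = 1 at h1
    rw [mul_inv_rev, mul_inv_cancel_left, inv_inv] at h1
    exact (QuotientGroup.eq_one_iff l).mp h1
  exact hp.ne_one (hrel.symm.trans (relIndex_eq_one.mpr hLM))

/-- Homomorphisms on `H` into `p`-groups extend when `G' ∩ P = H' ∩ P`. -/
theorem exists_extend_of_commutator_inf_eq [Finite G] [Fact p.Prime] (P : Sylow p G) (H : Subgroup G)
    (hPH : (P : Subgroup G) ≤ H) (hc : commutator G ⊓ (P : Subgroup G) ≤ ⁅H, H⁆)
    {A : Type*} [CommGroup A] (hA : IsPGroup p A) (δ : H →* A) :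
    ∃ Δ : G →* A, ∀ h : H, Δ h = δ h := by
  let δP : (P : Subgroup G) →* A := δ.comp (inclusion hPH)
  have hker : (P : Subgroup G).focalSubgroupOf ≤ δP.ker := by
    intro x hx
    have h1 : (x : G) ∈ (commutator H).map H.subtype := by
      rw [map_subtype_commutator]
      refine hc ?_
      rw [← focalSubgroup_eq_of_coprime _ (coprime_index_relIndex_sylow P)]
      exact mem_subgroupOf.mp hx
    obtain ⟨y, hy, hxy⟩ := h1
    change δ (inclusion hPH x) = 1
    rw [show inclusion hPH x = y from Subtype.ext hxy.symm]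
    exact Abelianization.commutator_subset_ker δ hy
  let δb := QuotientGroup.lift _ δP hker
  have hco : (Nat.card ((P : Subgroup G) ⧸ (P : Subgroup G).focalSubgroupOf)).Coprime
      (P : Subgroup G).index :=
    P.card_coprime_index.coprime_dvd_left (index_dvd_card _)
  open scoped IsMulCommutative in
  let e : ((P : Subgroup G) ⧸ (P : Subgroup G).focalSubgroupOf) ≃*
      ((P : Subgroup G) ⧸ (P : Subgroup G).focalSubgroupOf) :=
    { powCoprime hco with map_mul' := fun a b => mul_pow a b _ }
  refine ⟨(δb.comp e.symm.toMonoidHom).comp (P : Subgroup G).transferFocal, ?_⟩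
  have key : ∀ x : (P : Subgroup G),
      δb (e.symm ((P : Subgroup G).transferFocal x)) = δ (inclusion hPH x) := by
    intro x
    rw [Subgroup.transferFocal_eq_pow]
    exact congrArg δb (e.symm_apply_apply (x : _ ⧸ _))
  intro h
  obtain ⟨k, hk, u, hu, hh⟩ := mem_sup_of_normal_right.mp
    ((sylow_sup_eq_top (P.subtype hPH)).symm ▸ mem_top h)
  have h1 : δ u = 1 := pResidual_le_ker hA δ hu
  set F := (δb.comp e.symm.toMonoidHom).comp (P : Subgroup G).transferFocal
  have h2 : F (u : G) = 1 := pResidual_le_ker hA (F.comp H.subtype) hu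
  have h3 : F (k : G) = δ k := key ⟨k, mem_subgroupOf.mp hk⟩
  rw [← hh, coe_mul, map_mul, map_mul, h1, h2, h3]

/-- **Tate's theorem**. -/
theorem tate [Finite G] [Fact p.Prime] (P : Sylow p G) (H : Subgroup G) (hPH : (P : Subgroup G) ≤ H)
    (hc : commutator G ⊓ (P : Subgroup G) ≤ ⁅H, H⁆) :
    H ⊓ pResidual p G = (pResidual p H).map H.subtype :=
  tate_of_extend H (fun hd => P.not_dvd_index (hd.trans (index_dvd_of_le hPH))) fun _ _ hA δ =>
    exists_extend_of_commutator_inf_eq P H hPH hc (IsPGroup.of_card (n := 1) (by rw [pow_one, hA])) δ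

theorem tate_sylow [Finite G] [Fact p.Prime] (P : Sylow p G) (H : Subgroup G) (hPH : (P : Subgroup G) ≤ H)
    (hc : commutator G ⊓ (P : Subgroup G) ≤ ⁅H, H⁆) :
    (P : Subgroup G) ⊓ pResidual p G = (P : Subgroup G) ⊓ (pResidual p H).map H.subtype := by
  rw [← tate P H hPH hc, ← inf_assoc, inf_eq_left.mpr hPH]

/-- If a Sylow subgroup meets `G'` only in its own derived group there is a normal `p`-complement. -/
theorem hasNormalPComplement_of_commutator_inf_le [Finite G] [Fact p.Prime] (P : Sylow p G)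
    (hc : commutator G ⊓ (P : Subgroup G) ≤ ⁅(P : Subgroup G), (P : Subgroup G)⁆) :
    HasNormalPComplement p G := by
  rw [hasNormalPComplement_iff_inf_eq_bot P, tate P P le_rfl hc, map_eq_bot_iff_of_injective _
    (P : Subgroup G).subtype_injective]
  exact le_bot_iff.mp ((pResidual_le_ker P.2 (MonoidHom.id _)).trans (MonoidHom.ker_id).le)

/-- If a Sylow subgroup controls its own fusion there is a normal `p`-complement. -/
theorem hasNormalPComplement_of_self_control [Finite G] [Fact p.Prime] (P : Sylow p G)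
    (hfus : ∀ x ∈ (P : Subgroup G), ∀ g : G, g * x * g⁻¹ ∈ (P : Subgroup G) →
      ∃ m ∈ (P : Subgroup G), m * x * m⁻¹ = g * x * g⁻¹) :
    HasNormalPComplement p G :=
  hasNormalPComplement_of_commutator_inf_le P (commutator_inf_eq_of_self_control P hfus).le

/-- **Burnside's normal `p`-complement theorem.** -/
theorem hasNormalPComplement_of_normalizer_le_centralizer [Finite G] [Fact p.Prime] (P : Sylow p G)
    (h : normalizer ((P : Subgroup G) : Set G) ≤ centralizer ((P : Subgroup G) : Set G)) :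
    HasNormalPComplement p G :=
  ⟨P, _, MonoidHom.normal_ker _, MonoidHom.ker_transferSylow_isComplement' P h⟩

end Cfsg.Agent.Transfer
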