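-- Isolated involutions: the elementary theory.
--
-- Main results (namespace `Cfsg.Agent.Transfer`):
-- * `isolated_conj`, `odd_orderOf_mul_conj`, `mem_inverted_zpowers`
-- * `exists_root_conj`: `g z g⁻¹ = k z k⁻¹` with `k` a power of `z * g z g⁻¹`, of odd order, inverted by `z`
-- * `inverted_unique`, `eq_one_of_commute_mul_conj`, `eq_of_conj_swap`
-- * `isolated_centralizer_control`, `sylow_le_centralizer_of_isolated`
import Cfsg.Agent.Lib.Transfer.Tate
import Cfsg.Agent.Lib.Isolated.Basic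

set_option autoImplicit false

namespace Cfsg.Agent.Transfer

open Subgroup

variable {G : Type*} [Group G] {z : G}

theorem sq_eq_one_of_isolated (hz : IsIsolatedInvolution z) : z * z = 1 := by
  rw [← sq, ← hz.1, pow_orderOf_eq_one]

theorem inv_eq_of_isolated (hz : IsIsolatedInvolution z) : z⁻¹ = z :=
  inv_eq_of_mul_eq_one_right (sq_eq_one_of_isolated hz)

theorem isolated_conj (hz : IsIsolatedInvolution z) (g : G) : IsIsolatedInvolution (g * z * g⁻¹) := by
  refine ⟨?_, fun h hc => ?_⟩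
  · rw [← MulAut.conj_apply, MulEquiv.orderOf_eq, hz.1]
  · have h1 := hc.map (MulAut.conj g⁻¹)
    simp only [MulAut.conj_apply, inv_inv] at h1
    have h2 : g⁻¹ * (g * z * g⁻¹) * g = z := by group
    have h3 : g⁻¹ * (h * (g * z * g⁻¹) * h⁻¹) * g = (g⁻¹ * h * g) * z * (g⁻¹ * h * g)⁻¹ := by group
    rw [h2, h3] at h1
    have h4 := hz.2 _ h1
    calc h * (g * z * g⁻¹) * h⁻¹ = g * ((g⁻¹ * h * g) * z * (g⁻¹ * h * g)⁻¹) * g⁻¹ := by group
      _ = _ := by rw [h4]

theorem conj_mul_conj_inverted (hz : IsIsolatedInvolution z) (g : G) :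
    z * (z * (g * z * g⁻¹)) * z⁻¹ = (z * (g * z * g⁻¹))⁻¹ := by
  rw [mul_inv_rev, inv_eq_of_isolated hz, inv_eq_of_isolated (isolated_conj hz g),
    ← mul_assoc, sq_eq_one_of_isolated hz, one_mul]

theorem inverted_pow {d : G} (h : z * d * z⁻¹ = d⁻¹) (i : ℕ) : z * d ^ i * z⁻¹ = (d ^ i)⁻¹ := by
  rw [← conj_pow, h, inv_pow]

/-- `d ^ i * z * (d ^ i)⁻¹ = d ^ (2 * i) * z` for `d` inverted by `z`. -/
theorem conj_eq_sq_mul {k : G} (h : z * k * z⁻¹ = k⁻¹) : k * z * k⁻¹ = k * k * z := by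
  have h1 : z * k = k⁻¹ * z := mul_inv_eq_iff_eq_mul.mp h
  have h2 : z * k⁻¹ = k * z := by
    calc z * k⁻¹ = k * (k⁻¹ * z) * k⁻¹ := by group
      _ = k * (z * k) * k⁻¹ := by rw [h1]
      _ = k * z := by group
  rw [mul_assoc, h2, mul_assoc]

theorem odd_orderOf_mul_conj [Finite G] (hz : IsIsolatedInvolution z) (g : G) :
    Odd (orderOf (z * (g * z * g⁻¹))) := by
  set z' := g * z * g⁻¹ with hz'
  set d := z * z' with hd
  by_contra hodd
  obtain ⟨m, hm⟩ := Nat.not_odd_iff_even.mp hodd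
  have hm0 : m ≠ 0 := fun h => (orderOf_pos d).ne' (by rw [hm, h])
  have hinv : ∀ i : ℕ, z * d ^ i * z⁻¹ = (d ^ i)⁻¹ := inverted_pow (conj_mul_conj_inverted hz g)
  have hc2 : (d ^ m)⁻¹ = d ^ m := inv_eq_of_mul_eq_one_right (by rw [← pow_add, ← hm, pow_orderOf_eq_one])
  have hne : d ^ m ≠ 1 := pow_ne_one_of_lt_orderOf hm0 (by omega)
  have hcomm : Commute z (d ^ m) := mul_inv_eq_iff_eq_mul.mp ((hinv m).trans hc2)
  have hconj : ∃ h : G, h * z * h⁻¹ = z * d ^ m := by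
    have h1 : ∀ i : ℕ, z * d ^ i = (d ^ i)⁻¹ * z := fun i => mul_inv_eq_iff_eq_mul.mp (hinv i)
    rcases Nat.even_or_odd m with ⟨i, hi⟩ | ⟨i, hi⟩
    · refine ⟨(d ^ i)⁻¹, ?_⟩
      rw [inv_inv, hi, pow_add, ← mul_assoc, h1 i]
    · refine ⟨(d ^ i)⁻¹ * g, ?_⟩
      calc (d ^ i)⁻¹ * g * z * ((d ^ i)⁻¹ * g)⁻¹ = (d ^ i)⁻¹ * (g * z * g⁻¹) * d ^ i := by group
        _ = (d ^ i)⁻¹ * (z * d) * d ^ i := by
            rw [hd, ← mul_assoc z z, sq_eq_one_of_isolated hz, one_mul]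
        _ = z * d ^ m := by
            rw [← mul_assoc, ← h1 i, mul_assoc z (d ^ i), ← pow_succ, mul_assoc, ← pow_add]
            congr 2
            omega
  obtain ⟨h, hh⟩ := hconj
  have h2 : h * z * h⁻¹ = z := hz.2 h (hh.symm ▸ (Commute.refl z).mul_right hcomm)
  exact hne (mul_eq_left.mp (hh.symm.trans h2))

/-- The square root: every conjugate of `z` is `k z k⁻¹` with `k` inverted by `z`, of odd order. -/
theorem exists_root_conj [Finite G] (hz : IsIsolatedInvolution z) (g : G) :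
    ∃ k ∈ zpowers (z * (g * z * g⁻¹)), Odd (orderOf k) ∧ z * k * z⁻¹ = k⁻¹ ∧
      k * z * k⁻¹ = g * z * g⁻¹ := by
  obtain ⟨i, hi⟩ := odd_orderOf_mul_conj hz g
  set d := z * (g * z * g⁻¹) with hd
  refine ⟨d ^ i, pow_mem (mem_zpowers d) i, ?_, inverted_pow (conj_mul_conj_inverted hz g) i, ?_⟩
  · exact Odd.of_dvd_nat (⟨i, hi⟩ : Odd (orderOf d)) (orderOf_pow_dvd i)
  · have h1 : d ^ i * d ^ i = d⁻¹ := by
      refine eq_inv_of_mul_eq_one_left ?_
      rw [← pow_add, ← pow_succ, show i + i + 1 = orderOf d by omega, pow_orderOf_eq_one]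
    rw [conj_eq_sq_mul (inverted_pow (conj_mul_conj_inverted hz g) i), h1, hd, mul_inv_rev,
      inv_eq_of_isolated hz, inv_eq_of_isolated (isolated_conj hz g), mul_assoc,
      sq_eq_one_of_isolated hz, mul_one]

theorem eq_of_sq_eq {a b : G} (ha : Odd (orderOf a)) (hb : Odd (orderOf b)) (h : a * a = b * b) :
    a = b := by
  obtain ⟨i, hi⟩ := ha.mul hb
  have key : ∀ c : G, c ^ (orderOf a * orderOf b) = 1 → (c * c) ^ (i + 1) = c := by
    intro c hc
    rw [← sq, ← pow_mul, show 2 * (i + 1) = orderOf a * orderOf b + 1 by omega, pow_succ, hc, one_mul]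
  rw [← key a (by rw [pow_mul, pow_orderOf_eq_one, one_pow]), h,
    key b (by rw [mul_comm, pow_mul, pow_orderOf_eq_one, one_pow])]

theorem inverted_unique {a b : G} (ha : Odd (orderOf a)) (ha' : z * a * z⁻¹ = a⁻¹) (hb : Odd (orderOf b))
    (hb' : z * b * z⁻¹ = b⁻¹) (h : a * z * a⁻¹ = b * z * b⁻¹) : a = b := by
  rw [conj_eq_sq_mul ha', conj_eq_sq_mul hb'] at h
  exact eq_of_sq_eq ha hb (mul_right_cancel h)

/-- A product of two conjugates centralized by `z` is trivial. -/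
theorem eq_one_of_commute_mul_conj [Finite G] (hz : IsIsolatedInvolution z) (g h : G)
    (hc : Commute (g * z * g⁻¹ * (h * z * h⁻¹)) z) : g * z * g⁻¹ = h * z * h⁻¹ := by
  set a := g * z * g⁻¹
  set b := h * z * h⁻¹
  set d := a * b
  have ha : IsIsolatedInvolution a := isolated_conj hz g
  have hd : Odd (orderOf d) := by
    have h1 := odd_orderOf_mul_conj ha (h * g⁻¹)
    rwa [show h * g⁻¹ * a * (h * g⁻¹)⁻¹ = b by simp only [a, b]; group] at h1
  have hinv : a * d * a⁻¹ = d⁻¹ := by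
    have h1 := conj_mul_conj_inverted ha (h * g⁻¹)
    rwa [show h * g⁻¹ * a * (h * g⁻¹)⁻¹ = b by simp only [a, b]; group] at h1
  have hw : (z * a) * d * (z * a)⁻¹ = d⁻¹ := by
    rw [show z * a * d * (z * a)⁻¹ = z * (a * d * a⁻¹) * z⁻¹ by group, hinv, ← (hc.inv_left).eq,
      mul_inv_cancel_right]
  obtain ⟨m, hm⟩ := odd_orderOf_mul_conj hz g
  have hw2 : (z * a) * ((z * a) * d * (z * a)⁻¹) * (z * a)⁻¹ = d := by
    rw [hw, show (z * a) * d⁻¹ * (z * a)⁻¹ = ((z * a) * d * (z * a)⁻¹)⁻¹ by group, hw, inv_inv]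
  have hw3 : Commute ((z * a) ^ 2) d := by
    refine mul_inv_eq_iff_eq_mul.mp ?_
    rw [sq]
    calc z * a * (z * a) * d * (z * a * (z * a))⁻¹
        = (z * a) * ((z * a) * d * (z * a)⁻¹) * (z * a)⁻¹ := by group
      _ = d := hw2
  have hm' : orderOf (z * a) = 2 * m + 1 := hm
  have hw4 : Commute (z * a) d := by
    have h5 := hw3.pow_left (m + 1)
    rwa [← pow_mul, show 2 * (m + 1) = orderOf (z * a) + 1 by omega, pow_succ, pow_orderOf_eq_one,
      one_mul] at h5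
  have h6 : d = d⁻¹ := by rw [← hw, hw4.eq, mul_inv_cancel_right]
  have h7 : d = 1 := eq_of_sq_eq hd (by rw [orderOf_one]; exact odd_one)
    (by rw [one_mul]; exact mul_eq_one_iff_eq_inv.mpr h6)
  exact (mul_eq_one_iff_eq_inv.mp h7).trans (inv_eq_of_isolated (isolated_conj hz h))

/-- A conjugate of `z` conjugating `z'` to a given element is unique. -/
theorem eq_of_conj_swap [Finite G] (hz : IsIsolatedInvolution z) {a b c : G}
    (h : (a * z * a⁻¹) * (c * z * c⁻¹) * (a * z * a⁻¹)⁻¹ =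
      (b * z * b⁻¹) * (c * z * c⁻¹) * (b * z * b⁻¹)⁻¹) : a * z * a⁻¹ = b * z * b⁻¹ := by
  set z' := c * z * c⁻¹
  set A := a * z * a⁻¹
  set B := b * z * b⁻¹
  have hA : A⁻¹ = A := inv_eq_of_isolated (isolated_conj hz a)
  have h1 : Commute (B * A) z' := by
    refine mul_inv_eq_iff_eq_mul.mp ?_
    calc B * A * z' * (B * A)⁻¹ = B * (A * z' * A⁻¹) * B⁻¹ := by group
      _ = B * (B * z' * B⁻¹) * B⁻¹ := by rw [h]
      _ = (B * B) * z' * (B * B)⁻¹ := by group
      _ = z' := by rw [sq_eq_one_of_isolated (isolated_conj hz b)]; group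
  have e1 : b * c⁻¹ * z' * (b * c⁻¹)⁻¹ = B := by simp only [z', B]; group
  have e2 : a * c⁻¹ * z' * (a * c⁻¹)⁻¹ = A := by simp only [z', A]; group
  have h2 := eq_one_of_commute_mul_conj (isolated_conj hz c) (b * c⁻¹) (a * c⁻¹) (by rw [e1, e2]; exact h1)
  rw [e1, e2] at h2
  exact h2.symm

theorem isolated_centralizer_control [Finite G] (hz : IsIsolatedInvolution z) {x g : G}
    (hx : Commute x z) (hy : Commute (g * x * g⁻¹) z) :
    ∃ m ∈ centralizer ({z} : Set G), m * x * m⁻¹ = g * x * g⁻¹ := by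
  have := Fact.mk Nat.prime_two
  set C := centralizer ({g * x * g⁻¹} : Set G)
  have h1 : z ∈ C := mem_centralizer_singleton_iff.mpr hy.eq.symm
  have h2 : g * z * g⁻¹ ∈ C := by
    have := hx.map (MulAut.conj g)
    exact mem_centralizer_singleton_iff.mpr (this.eq.symm)
  obtain ⟨n, hn, he⟩ := Isolated.exists_conj_eq_of_mem (p := 2) (x := z) ⟨1, by rw [hz.1, pow_one]⟩ hz.2 h1 h2
  refine ⟨n * g, mem_centralizer_singleton_iff.mpr ?_, ?_⟩
  · refine mul_inv_eq_iff_eq_mul.mp ?_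
    rw [show n * g * z * (n * g)⁻¹ = n * (g * z * g⁻¹) * n⁻¹ by group, he]
  · rw [show n * g * x * (n * g)⁻¹ = n * (g * x * g⁻¹) * n⁻¹ by group,
      mem_centralizer_singleton_iff.mp hn, mul_inv_cancel_right]

theorem exists_sylow_le_centralizer_of_isolated [Finite G] (hz : IsIsolatedInvolution z) :
    ∃ S : Sylow 2 G, z ∈ (S : Subgroup G) ∧ (S : Subgroup G) ≤ centralizer ({z} : Set G) := by
  have := Fact.mk Nat.prime_two
  obtain ⟨S, hS⟩ := (Isolated.isPGroup_zpowers (p := 2) (x := z) (k := 1)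
    (by rw [hz.1, pow_one])).exists_le_sylow
  exact ⟨S, hS (mem_zpowers z),
    Isolated.commute_of_mem_pGroup (p := 2) hz.2 S.2 (hS (mem_zpowers z))⟩

end Cfsg.Agent.Transfer
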