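-- Alperin's fusion theorem (normalizers of fully normalized subgroups) and Frobenius' criterion.
--
-- Main results (namespace `Cfsg.Agent.Transfer`):
-- * `IsFullyNormalized p P R`: `R ≤ P` and `P ⊓ N(R)` has index prime to `p` in `N(R)`
-- * `exists_fullyNormalized_conj`
-- * `FusionChain p P Q g`: `g` is a product of elements of normalizers of fully normalized subgroups
--   containing the successive conjugates of `Q`; `fusionChain`: the fusion theorem;
--   `FusionChain.mono`, `.symm`; `fusion_induction`: induction form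
-- * `control_of_local`, `hasNormalPComplement_of_local` (Frobenius), `hasNormalPComplement_of_normalizers`
import Cfsg.Agent.Lib.Transfer.Tate

set_option autoImplicit false

namespace Cfsg.Agent.Transfer

open Subgroup

variable {G : Type*} [Group G] {p : ℕ}

/-- `R ≤ P` and `N_P(R)` has index prime to `p` in `N_G(R)`. -/
def IsFullyNormalized (p : ℕ) (P R : Subgroup G) : Prop :=
  R ≤ P ∧ ¬ p ∣ (P ⊓ normalizer (R : Set G)).relIndex (normalizer (R : Set G))

theorem map_conj_normalizer (Q : Subgroup G) (g : G) :
    (normalizer (Q : Set G)).map (MulAut.conj g).toMonoidHom =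
      normalizer (Q.map (MulAut.conj g).toMonoidHom : Set G) := by
  exact map_equiv_normalizer_eq Q (MulAut.conj g)

theorem map_conj_one (Q : Subgroup G) : Q.map (MulAut.conj (1 : G)).toMonoidHom = Q :=
  map_conj_eq_iff_mem_normalizer.mpr (one_mem _)

theorem card_map_conj (Q : Subgroup G) (g : G) :
    Nat.card (Q.map (MulAut.conj g).toMonoidHom : Subgroup G) = Nat.card Q :=
  card_map_of_injective (MulAut.conj g).injective

theorem exists_fullyNormalized_conj [Finite G] [Fact p.Prime] (P : Sylow p G) {Q : Subgroup G}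
    (hQ : IsPGroup p Q) :
    ∃ a : G, IsFullyNormalized p (P : Subgroup G) (Q.map (MulAut.conj a).toMonoidHom) := by
  set N := normalizer (Q : Set G)
  obtain ⟨S, hQS⟩ := (hQ.of_equiv (subgroupOfEquivOfLe (le_normalizer (H := Q))).symm).exists_le_sylow
  obtain ⟨R, hR⟩ := (S.2.map N.subtype).exists_le_sylow
  obtain ⟨a, ha⟩ := MulAction.exists_smul_eq G R P
  refine ⟨a, ?_, ?_⟩
  · rw [← ha, sylow_coe_smul]
    refine map_mono (le_trans ?_ hR)
    exact fun x hx => ⟨⟨x, le_normalizer hx⟩, hQS (mem_subgroupOf.mpr hx), rfl⟩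
  · have hle : ((S : Subgroup N).map N.subtype).map (MulAut.conj a).toMonoidHom ≤
        (P : Subgroup G) ⊓ normalizer (Q.map (MulAut.conj a).toMonoidHom : Set G) := by
      rw [← ha, sylow_coe_smul, ← map_conj_normalizer]
      exact le_inf (map_mono hR) (map_mono (map_subtype_le _))
    intro hd
    refine S.not_dvd_index (hd.trans ?_)
    have h1 := relIndex_dvd_of_le_left (normalizer (Q.map (MulAut.conj a).toMonoidHom : Set G)) hle
    rw [← map_conj_normalizer] at h1 ⊢
    rw [relIndex_map_map_of_injective (f := (MulAut.conj a).toMonoidHom) ((S : Subgroup N).map N.subtype) N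
      (MulAut.conj a).injective] at h1
    exact h1.trans (dvd_of_eq
      (show (((S : Subgroup N).map N.subtype).comap N.subtype).index = (S : Subgroup N).index by
        rw [comap_map_eq_self_of_injective N.subtype_injective]))

/-- Chains of normalizers of fully normalized subgroups. -/
inductive FusionChain (p : ℕ) (P : Subgroup G) : Subgroup G → G → Prop
  | step {Q R : Subgroup G} {n : G} : Q ≤ R → IsFullyNormalized p P R →
      n ∈ normalizer (R : Set G) → FusionChain p P Q n
  | trans {Q : Subgroup G} {g h : G} : FusionChain p P Q g →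
      FusionChain p P (Q.map (MulAut.conj g).toMonoidHom) h → FusionChain p P Q (h * g)

theorem FusionChain.mono {P Q : Subgroup G} {g : G} (h : FusionChain p P Q g) :
    ∀ {Q' : Subgroup G}, Q' ≤ Q → FusionChain p P Q' g := by
  induction h with
  | step h1 h2 h3 => exact fun hle => .step (hle.trans h1) h2 h3
  | trans h1 h2 ih1 ih2 => exact fun hle => .trans (ih1 hle) (ih2 (map_mono hle))

theorem FusionChain.symm {P Q : Subgroup G} {g : G} (h : FusionChain p P Q g) :
    FusionChain p P (Q.map (MulAut.conj g).toMonoidHom) g⁻¹ := by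
  induction h with
  | @step Q R n h1 h2 h3 =>
    refine .step ?_ h2 (inv_mem h3)
    rw [← map_conj_eq_iff_mem_normalizer.mpr h3]
    exact map_mono h1
  | @trans Q g k h1 h2 ih1 ih2 =>
    rw [mul_inv_rev]
    rw [map_conj_map_conj] at ih2
    refine .trans ih2 ?_
    rw [map_conj_map_conj, inv_mul_cancel_left]
    exact ih1

/-- **Alperin's fusion theorem**: every conjugation between subgroups of `P` is a fusion chain. -/
theorem fusionChain [Finite G] [Fact p.Prime] (P : Sylow p G) :
    ∀ {Q : Subgroup G}, Q ≤ (P : Subgroup G) → ∀ {g : G},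
      Q.map (MulAut.conj g).toMonoidHom ≤ (P : Subgroup G) → FusionChain p (P : Subgroup G) Q g := by
  suffices H : ∀ d : ℕ, ∀ Q : Subgroup G, Nat.card (P : Subgroup G) - Nat.card Q = d →
      Q ≤ (P : Subgroup G) → ∀ g : G, Q.map (MulAut.conj g).toMonoidHom ≤ (P : Subgroup G) →
      FusionChain p (P : Subgroup G) Q g from fun {Q} hQ {g} hg => H _ Q rfl hQ g hg
  intro d
  induction d using Nat.strong_induction_on with
  | _ d ih =>
    intro Q hd hQ g hg
    by_cases hQP : Q = (P : Subgroup G)
    · subst hQP
      have hfn : IsFullyNormalized p (P : Subgroup G) (P : Subgroup G) := by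
        refine ⟨le_rfl, ?_⟩
        rw [inf_eq_left.mpr P.le_normalizer]
        exact fun h => P.not_dvd_index (h.trans (relIndex_dvd_index_of_le P.le_normalizer))
      exact .step le_rfl hfn (map_conj_eq_iff_mem_normalizer.mp
        (eq_of_le_of_card_ge hg (card_map_conj _ _).ge))
    -- it is enough to reach a fully normalized conjugate
    have key : ∀ Q' : Subgroup G, Q' ≤ (P : Subgroup G) → Nat.card Q' = Nat.card Q → ∀ a : G,
        IsFullyNormalized p (P : Subgroup G) (Q'.map (MulAut.conj a).toMonoidHom) →
        FusionChain p (P : Subgroup G) Q' a := by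
      intro Q' hQ' hcard a hU
      set U := Q'.map (MulAut.conj a).toMonoidHom
      set T := (P : Subgroup G) ⊓ normalizer (Q' : Set G)
      have hlt : Q' < T := by
        refine lt_of_le_of_ne (le_inf hQ' le_normalizer) fun he => hQP ?_
        have hpp : Group.IsNilpotent (P : Subgroup G) := P.2.isNilpotent
        have hne : Q'.subgroupOf (P : Subgroup G) = ⊤ := by
          refine normalizerCondition_iff_only_full_group_self_normalizing.mp
            (normalizerCondition_of_isNilpotent) _ (le_antisymm ?_ le_normalizer)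
          intro x hx
          refine mem_subgroupOf.mpr (he.ge ⟨x.2, mem_normalizer_iff.mpr fun y => ?_⟩)
          constructor
          · intro hy
            exact (mem_normalizer_iff.mp hx ⟨y, hQ' hy⟩).mp hy
          · intro hy
            have h4 : y ∈ (P : Subgroup G) := by
              have h5 := (P : Subgroup G).mul_mem ((P : Subgroup G).mul_mem ((P : Subgroup G).inv_mem x.2)
                (hQ' hy)) x.2
              simpa [mul_assoc] using h5
            exact (mem_normalizer_iff.mp hx ⟨y, h4⟩).mpr hy
        have h6 : (P : Subgroup G) ≤ Q' := subgroupOf_eq_top.mp hne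
        exact eq_of_le_of_card_ge hQ ((card_le_of_le h6).trans hcard.le)
      have hT : T.map (MulAut.conj a).toMonoidHom ≤ normalizer (U : Set G) := by
        rw [← map_conj_normalizer]
        exact map_mono inf_le_right
      obtain ⟨w, hw, hwT⟩ := exists_conj_le_of_not_dvd_relIndex (inf_le_right)
        (P.2.to_le inf_le_left) hU.2 hT ((P.2.to_le inf_le_left).map _)
      rw [map_conj_map_conj] at hwT
      have h1 : FusionChain p (P : Subgroup G) T (w * a) := by
        refine ih _ ?_ T rfl inf_le_left (w * a) (hwT.trans inf_le_left)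
        have h2 : Nat.card Q' < Nat.card T := Nat.lt_of_le_of_ne (card_le_of_le hlt.le)
          fun h => hlt.ne (eq_of_le_of_card_ge hlt.le h.ge)
        have h3 : Nat.card T ≤ Nat.card (P : Subgroup G) := card_le_of_le inf_le_left
        omega
      have h2 : FusionChain p (P : Subgroup G) (Q'.map (MulAut.conj (w * a)).toMonoidHom) w⁻¹ := by
        refine .step ?_ hU (inv_mem hw)
        rw [← map_conj_map_conj, map_conj_eq_iff_mem_normalizer.mpr hw]
      have := FusionChain.trans (h1.mono hlt.le) h2
      rwa [inv_mul_cancel_left] at this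
    obtain ⟨a, ha⟩ := exists_fullyNormalized_conj P (P.2.to_le hQ)
    have h1 := key Q hQ rfl a ha
    have h2 := key _ hg (card_map_conj Q g) (a * g⁻¹) (by
      rw [map_conj_map_conj, inv_mul_cancel_right]; exact ha)
    have h3 := h2.symm
    rw [map_conj_map_conj, inv_mul_cancel_right] at h3
    have := FusionChain.trans h1 h3
    rwa [mul_inv_rev, inv_inv, inv_mul_cancel_right] at this

/-- Induction form of the fusion theorem: a relation closed under composition which holds for elements of
normalizers of fully normalized subgroups containing `Q` holds for all conjugations inside `P`. -/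
theorem fusion_induction [Finite G] [Fact p.Prime] (P : Sylow p G) (Φ : Subgroup G → G → Prop)
    (hstep : ∀ Q R : Subgroup G, Q ≤ R → IsFullyNormalized p (P : Subgroup G) R →
      ∀ n ∈ normalizer (R : Set G), Φ Q n)
    (htrans : ∀ (Q : Subgroup G) (g h : G), Φ Q g → Φ (Q.map (MulAut.conj g).toMonoidHom) h → Φ Q (h * g))
    {Q : Subgroup G} {g : G} (hQ : Q ≤ (P : Subgroup G))
    (hg : Q.map (MulAut.conj g).toMonoidHom ≤ (P : Subgroup G)) : Φ Q g := by
  have h := fusionChain P hQ hg
  induction h with
  | step h1 h2 h3 => exact hstep _ _ h1 h2 _ h3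
  | @trans Q a b h1 h2 ih1 ih2 =>
    have hmid : Q.map (MulAut.conj a).toMonoidHom ≤ (P : Subgroup G) := by
      have : ∀ {Q : Subgroup G} {g : G}, FusionChain p (P : Subgroup G) Q g →
          Q ≤ (P : Subgroup G) ∧ Q.map (MulAut.conj g).toMonoidHom ≤ (P : Subgroup G) := by
        intro Q g h
        induction h with
        | step h1 h2 h3 =>
          exact ⟨h1.trans h2.1, (map_mono h1).trans ((map_conj_eq_iff_mem_normalizer.mpr h3).le.trans h2.1)⟩
        | trans h1 h2 ih1 ih2 => exact ⟨ih1.1, by rw [← map_conj_map_conj]; exact ih2.2⟩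
      exact (this h1).2
    refine htrans _ _ _ (ih1 hQ hmid) (ih2 hmid ?_)
    rw [map_conj_map_conj]
    exact hg

/-- If in each normalizer of a nontrivial fully normalized subgroup the elements of order prime to `p`
centralize it, then `P` controls its own strong fusion. -/
theorem self_strong_control_of_local [Finite G] [Fact p.Prime] (P : Sylow p G)
    (hloc : ∀ R : Subgroup G, IsFullyNormalized p (P : Subgroup G) R → R ≠ ⊥ →
      ∀ n ∈ normalizer (R : Set G), Nat.Coprime (orderOf n) p → n ∈ centralizer (R : Set G))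
    {Q : Subgroup G} {g : G} (hQ : Q ≤ (P : Subgroup G))
    (hg : Q.map (MulAut.conj g).toMonoidHom ≤ (P : Subgroup G)) :
    ∃ u ∈ (P : Subgroup G), ∀ q ∈ Q, u * q * u⁻¹ = g * q * g⁻¹ := by
  refine fusion_induction P (fun Q g => ∃ u ∈ (P : Subgroup G), ∀ q ∈ Q, u * q * u⁻¹ = g * q * g⁻¹)
    ?_ ?_ hQ hg
  · intro Q R hQR hR n hn
    by_cases hb : R = ⊥
    · refine ⟨1, one_mem _, fun q hq => ?_⟩
      have : q = 1 := mem_bot.mp (hb ▸ hQR hq)
      simp [this]
    set N := normalizer (R : Set G)
    have hidx : ¬ p ∣ (((P : Subgroup G) ⊓ N).subgroupOf N).index := hR.2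
    obtain ⟨k, hk, c, hc, hkc⟩ := mem_sup_of_normal_right.mp
      ((sup_pResidual_eq_top hidx).symm ▸ mem_top (⟨n, hn⟩ : N))
    have hcC : (c : G) ∈ centralizer (R : Set G) := by
      have h1 : (pResidual p N).map N.subtype ≤ centralizer (R : Set G) := by
        rw [map_pResidual_subtype]
        exact (closure_le _).mpr fun x hx => hloc R hR hb x hx.1 hx.2
      exact h1 ⟨c, hc, rfl⟩
    refine ⟨k, (mem_subgroupOf.mp hk).1, fun q hq => ?_⟩
    have h2 : (q : G) * c = c * q := mem_centralizer_iff.mp hcC q (hQR hq)
    have hn' : n = (k : G) * c := congrArg Subtype.val hkc.symm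
    rw [hn', show (k : G) * c * q * ((k : G) * c)⁻¹ = k * (c * q * (c : G)⁻¹) * (k : G)⁻¹ by group, ← h2,
      mul_inv_cancel_right]
  · rintro Q a b ⟨u, hu, h1⟩ ⟨v, hv, h2⟩
    refine ⟨v * u, mul_mem hv hu, fun q hq => ?_⟩
    have h3 := h2 (a * q * a⁻¹) ⟨q, hq, rfl⟩
    rw [← h1 q hq] at h3
    rw [show v * u * q * (v * u)⁻¹ = v * (u * q * u⁻¹) * v⁻¹ by group, h3, h1 q hq]
    group

theorem control_of_local [Finite G] [Fact p.Prime] (P : Sylow p G)
    (hloc : ∀ R : Subgroup G, IsFullyNormalized p (P : Subgroup G) R → R ≠ ⊥ →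
      ∀ n ∈ normalizer (R : Set G), Nat.Coprime (orderOf n) p → n ∈ centralizer (R : Set G)) :
    ∀ x ∈ (P : Subgroup G), ∀ g : G, g * x * g⁻¹ ∈ (P : Subgroup G) →
      ∃ u ∈ (P : Subgroup G), u * x * u⁻¹ = g * x * g⁻¹ := by
  intro x hx g hg
  obtain ⟨u, hu, h⟩ := self_strong_control_of_local P hloc (Q := zpowers x) (g := g) (zpowers_le.mpr hx)
    (by rw [MonoidHom.map_zpowers]; exact zpowers_le.mpr hg)
  exact ⟨u, hu, h x (mem_zpowers x)⟩

/-- **Frobenius' normal `p`-complement theorem**. -/
theorem hasNormalPComplement_of_local [Finite G] [Fact p.Prime] (P : Sylow p G)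
    (hloc : ∀ R : Subgroup G, IsFullyNormalized p (P : Subgroup G) R → R ≠ ⊥ →
      ∀ n ∈ normalizer (R : Set G), Nat.Coprime (orderOf n) p → n ∈ centralizer (R : Set G)) :
    HasNormalPComplement p G :=
  hasNormalPComplement_of_self_control P (control_of_local P hloc)

theorem hasNormalPComplement_of_normalizers [Finite G] [Fact p.Prime] (P : Sylow p G)
    (hloc : ∀ R : Subgroup G, IsFullyNormalized p (P : Subgroup G) R → R ≠ ⊥ →
      HasNormalPComplement p (normalizer (R : Set G))) :
    HasNormalPComplement p G := by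
  refine hasNormalPComplement_of_local P fun R hR hb n hn hco => ?_
  set N := normalizer (R : Set G)
  have h1 := mem_centralizer_of_coprime (hloc R hR hb) (Q := R.subgroupOf N)
    ((P.2.to_le hR.1).of_equiv (subgroupOfEquivOfLe le_normalizer).symm) (g := ⟨n, hn⟩)
    (mem_normalizer_iff.mpr fun h => mem_normalizer_iff.mp hn h) (by rwa [Subgroup.orderOf_mk])
  exact mem_centralizer_iff.mpr fun r hr =>
    congrArg Subtype.val (mem_centralizer_iff.mp h1 ⟨r, le_normalizer hr⟩ hr)

end Cfsg.Agent.Transfer
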