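-- Transfer into abelian Hall subgroups: disjointness from the centre, decomposition of a normal one.
--
-- Main results (namespace `Cfsg.Agent.Transfer`):
-- * `inf_commutator_inf_center_eq_bot`, `commutator_inf_center_eq_bot` (all Sylow subgroups abelian)
-- * `commutator_top_eq_of_normal`, `commutator_inf_sup_center_inf` (`A = (G' ∩ A) × (Z(G) ∩ A)`)
-- * `commutator_normalizer_inf_centralizer`, `commutator_normalizer_sup_centralizer`
--   (abelian Sylow `P`: `P = ⁅P, N(P)⁆ × C_P(N(P))`)
import Cfsg.Agent.Lib.Transfer.Focal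

set_option autoImplicit false

namespace Cfsg.Agent.Transfer

open Subgroup
open scoped commutatorElement

variable {G : Type*} [Group G] {p : ℕ}

open scoped IsMulCommutative in
theorem inf_commutator_inf_center_eq_bot [Finite G] (H : Subgroup G) (hc : IsMulCommutative H)
    (hHall : Nat.Coprime (Nat.card H) H.index) : H ⊓ commutator G ⊓ center G = ⊥ := by
  refine eq_bot_iff.mpr ?_
  rintro x ⟨⟨hxH, hxG⟩, hxZ⟩
  let f : G →* H := MonoidHom.transfer (MonoidHom.id H)
  have h1 : f x = 1 := Abelianization.commutator_subset_ker f hxG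
  have h2 : x ^ H.index = 1 := by
    have h3 := MonoidHom.transfer_eq_pow (MonoidHom.id H) x
      (fun k g _ => by
        rw [mul_assoc, ← (mem_center_iff.mp ((center G).pow_mem hxZ k) g), inv_mul_cancel_left])
    rw [h3] at h1
    exact congrArg Subtype.val h1
  have h4 : orderOf x ∣ Nat.card H := orderOf_dvd_natCard H hxH
  exact mem_bot.mpr (orderOf_eq_one_iff.mp
    (Nat.eq_one_of_dvd_coprimes hHall h4 (orderOf_dvd_of_pow_eq_one h2)))

theorem commutator_inf_center_eq_bot [Finite G]
    (h : ∀ p : ℕ, p.Prime → ∀ P : Sylow p G, IsMulCommutative P) : commutator G ⊓ center G = ⊥ := by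
  by_contra hne
  obtain ⟨q, hq, hd⟩ := Nat.exists_prime_and_dvd
    (fun h1 => hne ((card_eq_one (H := commutator G ⊓ center G)).mp h1))
  have := Fact.mk hq
  obtain ⟨x, hx⟩ := exists_prime_orderOf_dvd_card' q hd
  obtain ⟨P, hP⟩ := (IsPGroup.of_card (n := 1) (p := q) (G := zpowers (x : G))
    (by rw [pow_one, Nat.card_zpowers, Subgroup.orderOf_coe, hx])).exists_le_sylow
  have h1 := inf_commutator_inf_center_eq_bot (P : Subgroup G) (h q hq P) P.card_coprime_index
  have h2 : (x : G) ∈ (P : Subgroup G) ⊓ commutator G ⊓ center G := ⟨⟨hP (mem_zpowers _), x.2.1⟩, x.2.2⟩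
  rw [h1, mem_bot] at h2
  exact hq.ne_one (by rw [← hx, ← Subgroup.orderOf_coe, h2, orderOf_one])

theorem commutator_top_eq_of_normal [Finite G] (A : Subgroup G) [A.Normal]
    (hHall : Nat.Coprime (Nat.card A) A.index) : ⁅A, (⊤ : Subgroup G)⁆ = commutator G ⊓ A := by
  refine le_antisymm (le_inf (commutator_mono le_top le_rfl) (commutator_le_left A ⊤)) ?_
  rw [← focalSubgroup_eq_of_coprime A (coprime_index_relIndex_hall hHall)]
  exact (focalSubgroup_le_of_control A ⊤ fun x _ g _ => ⟨g, mem_top g, rfl⟩).trans inf_le_left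

theorem commutator_inf_sup_center_inf [Finite G] (A : Subgroup G) [A.Normal] (hc : IsMulCommutative A)
    (hHall : Nat.Coprime (Nat.card A) A.index) :
    (commutator G ⊓ A) ⊔ (center G ⊓ A) = A := by
  classical
  refine le_antisymm (sup_le inf_le_right inf_le_right) fun a ha => ?_
  have : Fintype (G ⧸ A) := Fintype.ofFinite _
  let : CommGroup A := { (inferInstance : Group A) with mul_comm := fun a b => mul_comm' a b }
  let φ : A := ∏ q : G ⧸ A, ⟨q.out * a * q.out⁻¹, ‹A.Normal›.conj_mem a ha _⟩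
  have hzc : (φ : G) ∈ center G := by
    refine mem_center_iff.mpr fun g => ?_
    let c : A →* A :=
      { toFun := fun x => ⟨g * x * g⁻¹, ‹A.Normal›.conj_mem _ x.2 g⟩
        map_one' := Subtype.ext (by simp)
        map_mul' := fun x y => Subtype.ext (by simp [mul_assoc]) }
    have hcφ : c φ = φ := by
      rw [map_prod]
      refine Fintype.prod_equiv (MulAction.toPerm g) _ _ fun q => Subtype.ext ?_
      change g * (q.out * a * q.out⁻¹) * g⁻¹ = (g • q).out * a * (g • q).out⁻¹
      have h1 : (g * q.out)⁻¹ * (g • q).out ∈ A := by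
        rw [← QuotientGroup.eq, QuotientGroup.out_eq', ← smul_eq_mul, MulAction.Quotient.coe_smul_out]
      have h2 : Commute ((g * q.out)⁻¹ * (g • q).out) a :=
        congrArg Subtype.val (mul_comm (⟨_, h1⟩ : A) ⟨a, ha⟩)
      calc g * (q.out * a * q.out⁻¹) * g⁻¹ = (g * q.out) * a * (g * q.out)⁻¹ := by group
        _ = (g * q.out) * (((g * q.out)⁻¹ * (g • q).out) * a * ((g * q.out)⁻¹ * (g • q).out)⁻¹) *
            (g * q.out)⁻¹ := by rw [h2.eq, mul_inv_cancel_right]
        _ = _ := by group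
    have h3 : g * (φ : G) * g⁻¹ = φ := congrArg Subtype.val hcφ
    exact mul_inv_eq_iff_eq_mul.mp h3
  have hdiv : ∀ q : G ⧸ A, (⟨a, ha⟩ : A) * (⟨q.out * a * q.out⁻¹, ‹A.Normal›.conj_mem a ha _⟩ : A)⁻¹ ∈
      (commutator G ⊓ A).subgroupOf A := by
    intro q
    rw [mem_subgroupOf, ← commutator_top_eq_of_normal A hHall]
    have h5 := commutator_mem_commutator ha (mem_top q.out)
    rw [commutatorElement_def] at h5
    simpa [mul_assoc] using h5
  have h4 : (⟨a, ha⟩ : A) ^ A.index * φ⁻¹ ∈ (commutator G ⊓ A).subgroupOf A := by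
    rw [index_eq_card, Nat.card_eq_fintype_card, ← Finset.card_univ, ← Finset.prod_const,
      ← Finset.prod_inv_distrib, ← Finset.prod_mul_distrib]
    exact Subgroup.prod_mem _ fun q _ => hdiv q
  have h6 : a ^ A.index ∈ (commutator G ⊓ A) ⊔ (center G ⊓ A) := by
    rw [show a ^ A.index = (a ^ A.index * (φ : G)⁻¹) * φ by group]
    exact mul_mem (mem_sup_left (mem_subgroupOf.mp h4)) (mem_sup_right ⟨hzc, φ.2⟩)
  exact mem_of_pow_mem_of_coprime (hHall.coprime_dvd_left (orderOf_dvd_natCard A ha))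
    (by rw [pow_orderOf_eq_one]; exact one_mem _) h6

/-- `⁅P, N(P)⁆ ∩ C(N(P)) = 1` for an abelian Sylow subgroup `P`. -/
theorem commutator_normalizer_inf_centralizer [Finite G] [Fact p.Prime] (P : Sylow p G)
    [IsMulCommutative P] :
    ⁅(P : Subgroup G), normalizer ((P : Subgroup G) : Set G)⁆ ⊓
      centralizer (normalizer ((P : Subgroup G) : Set G) : Set G) = ⊥ := by
  set N := normalizer ((P : Subgroup G) : Set G)
  let P' : Sylow p N := P.subtype P.le_normalizer
  refine eq_bot_iff.mpr ?_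
  rintro x ⟨hx, hxc⟩
  have hxP : x ∈ (P : Subgroup G) := commutator_normalizer_le _ hx
  have hxN : x ∈ N := P.le_normalizer hxP
  have hcomm : IsMulCommutative (P' : Subgroup N) :=
    ⟨⟨fun a b => Subtype.ext (Subtype.ext
      ((congrArg Subtype.val (mul_comm' (⟨(a : N), a.2⟩ : (P : Subgroup G)) ⟨(b : N), b.2⟩)) :))⟩⟩
  have h1 := inf_commutator_inf_center_eq_bot (P' : Subgroup N) hcomm P'.card_coprime_index
  have hxc' : x ∈ (commutator N).map N.subtype := by
    rw [Subgroup.map_subtype_commutator]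
    exact commutator_mono P.le_normalizer le_rfl hx
  obtain ⟨y, hy, rfl⟩ := hxc'
  have hyz : y ∈ center N := mem_center_iff.mpr fun g => Subtype.ext (mem_centralizer_iff.mp hxc g g.2)
  have h2 : y ∈ (P' : Subgroup N) ⊓ commutator N ⊓ center N :=
    ⟨⟨mem_subgroupOf.mpr hxP, hy⟩, hyz⟩
  rw [h1, mem_bot] at h2
  rw [mem_bot, h2]
  rfl

/-- `P = ⁅P, N(P)⁆ C_P(N(P))` for an abelian Sylow subgroup `P`. -/
theorem commutator_normalizer_sup_centralizer [Finite G] [Fact p.Prime] (P : Sylow p G)
    [IsMulCommutative P] :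
    ⁅(P : Subgroup G), normalizer ((P : Subgroup G) : Set G)⁆ ⊔
      ((P : Subgroup G) ⊓ centralizer (normalizer ((P : Subgroup G) : Set G) : Set G)) = P := by
  set N := normalizer ((P : Subgroup G) : Set G)
  refine le_antisymm (sup_le (commutator_normalizer_le _) inf_le_left) ?_
  let A : Subgroup N := (P : Subgroup G).subgroupOf N
  have hAn : A.Normal := normal_in_normalizer
  have hAc : IsMulCommutative A :=
    ⟨⟨fun a b => Subtype.ext (Subtype.ext
      ((congrArg Subtype.val (mul_comm' (⟨(a : N), a.2⟩ : (P : Subgroup G)) ⟨(b : N), b.2⟩)) :))⟩⟩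
  have hAH : Nat.Coprime (Nat.card A) A.index := (P.subtype P.le_normalizer).card_coprime_index
  have h1 := commutator_inf_sup_center_inf A hAc hAH
  rw [← commutator_top_eq_of_normal A hAH] at h1
  have h2 := congrArg (Subgroup.map N.subtype) h1
  rw [Subgroup.map_sup, map_commutator, ← MonoidHom.range_eq_map, range_subtype,
    map_subgroupOf_eq_of_le P.le_normalizer] at h2
  refine h2.symm.le.trans (sup_le_sup le_rfl ?_)
  rintro _ ⟨y, ⟨hy1, hy2⟩, rfl⟩
  exact ⟨hy2, mem_centralizer_iff.mpr fun g hg => congrArg Subtype.val (mem_center_iff.mp hy1 ⟨g, hg⟩)⟩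

end Cfsg.Agent.Transfer
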