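-- Normal p-complement criteria derived from transfer, Tate and Alperin.
--
-- Main results (namespace `Cfsg.Agent.Transfer`):
-- * `mem_of_forall_primePow`: membership is detected on the parts of prime power order
-- * `frattini_hasNormalPComplement` (Tate): `N ⊓ P ≤ Φ(P)` implies `N` has a normal `p`-complement
-- * `cyclic_subgroup_eq_bot_or`, `hasNormalPComplement_or_pResidual_eq_top_of_cyclic`
-- * `normalizer_le_centralizer_of_primePow`, `card_fixed_modEq`
import Cfsg.Agent.Lib.Transfer.Alperin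
import Cfsg.Agent.Lib.Transfer.AbelianHall

set_option autoImplicit false

namespace Cfsg.Agent.Transfer

open Subgroup

universe u

variable {G : Type u} [Group G] {p : ℕ}

theorem mem_of_forall_primePow [Finite G] {H : Subgroup G} {g : G}
    (h : ∀ (q : ℕ), q.Prime → ∀ y ∈ zpowers g, (∃ k, orderOf y = q ^ k) → y ∈ H) : g ∈ H := by
  have h1 : (H.subgroupOf (zpowers g)).index = 1 := by
    by_contra hne
    obtain ⟨q, hq, hd⟩ := Nat.exists_prime_and_dvd hne
    have := Fact.mk hq
    obtain ⟨S⟩ := (inferInstance : Nonempty (Sylow q (zpowers g)))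
    have hle : (S : Subgroup (zpowers g)) ≤ H.subgroupOf (zpowers g) := by
      intro y hy
      obtain ⟨k, hk⟩ := IsPGroup.iff_orderOf.mp S.2 ⟨y, hy⟩
      exact mem_subgroupOf.mpr (h q hq y y.2 ⟨k, by rw [Subgroup.orderOf_mk] at hk; rw [Subgroup.orderOf_coe, hk]⟩)
    exact S.not_dvd_index (hd.trans (index_dvd_of_le hle))
  exact subgroupOf_eq_top.mp (index_eq_one.mp h1) (mem_zpowers g)

theorem frattini_le_ker {P : Type*} [Group P] {A : Type*} [Group A] (hA : (Nat.card A).Prime)
    (δ : P →* A) : frattini P ≤ δ.ker := by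
  by_cases ht : δ.ker = ⊤
  · rw [ht]; exact le_top
  refine frattini_le_coatom ?_
  refine ⟨ht, fun K hK => ?_⟩
  have h1 : δ.ker.index = Nat.card A := by
    rw [index_ker]
    have : Nat.card δ.range ∣ Nat.card A := card_subgroup_dvd_card _
    rcases (Nat.dvd_prime hA).mp this with h | h
    · exact absurd (by rw [← index_eq_one, index_ker]; exact h) ht
    · exact h
  have h2 := relIndex_mul_index hK.le
  rw [h1] at h2
  rcases (Nat.dvd_prime hA).mp (Dvd.intro_left _ h2) with h | h
  · exact index_eq_one.mp h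
  · rw [h] at h2
    have h3 : δ.ker.relIndex K = 1 := Nat.eq_of_mul_eq_mul_right hA.pos (by rw [h2, one_mul])
    exact absurd (relIndex_eq_one.mp h3) hK.not_ge

/-- **Tate**: a normal subgroup meeting `P` inside `Φ(P)` has a normal `p`-complement. -/
theorem frattini_hasNormalPComplement [Finite G] [Fact p.Prime] (P : Sylow p G) (N : Subgroup G) [N.Normal]
    (h : N ⊓ (P : Subgroup G) ≤ (frattini P).map (P : Subgroup G).subtype) : HasNormalPComplement p N := by
  set G1 := (P : Subgroup G) ⊔ N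
  let P1 : Sylow p G1 := P.subtype le_sup_left
  set N1 := N.subgroupOf G1
  have hsurj : Function.Surjective ((QuotientGroup.mk' N1).comp (P1 : Subgroup G1).subtype) := by
    intro y
    induction y using QuotientGroup.induction_on with
    | H g =>
      obtain ⟨x, hx, n, hn, hg⟩ := mem_sup_of_normal_right.mp g.2
      refine ⟨⟨⟨x, mem_sup_left hx⟩, hx⟩, ?_⟩
      change (QuotientGroup.mk (⟨x, mem_sup_left hx⟩ : G1) : G1 ⧸ N1) = _
      rw [QuotientGroup.eq]
      refine mem_subgroupOf.mpr ?_
      rw [show (((⟨x, mem_sup_left hx⟩ : G1)⁻¹ * g : G1) : G) = x⁻¹ * (g : G) from rfl, ← hg,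
        inv_mul_cancel_left]
      exact hn
  have hT : (P1 : Subgroup G1) ⊓ pResidual p G1 = (pResidual p (P1 : Subgroup G1)).map
      (P1 : Subgroup G1).subtype := by
    refine tate_of_extend _ P1.not_dvd_index fun A _ hA δ => ?_
    let e : (P : Subgroup G) →* A := δ.comp
      ((subgroupOfEquivOfLe (le_sup_left : (P : Subgroup G) ≤ G1)).symm.toMonoidHom)
    have he := frattini_le_ker (hA.symm ▸ Fact.out : (Nat.card A).Prime) e
    have hker : ((QuotientGroup.mk' N1).comp (P1 : Subgroup G1).subtype).ker ≤ δ.ker := by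
      intro x hx
      have h1 : ((x : G1) : G) ∈ N :=
        mem_subgroupOf.mp ((QuotientGroup.eq_one_iff (N := N1) (x : G1)).mp hx)
      obtain ⟨y, hy, hyx⟩ := h ⟨h1, x.2⟩
      have h2 : e y = 1 := he hy
      have h3 : (subgroupOfEquivOfLe (le_sup_left : (P : Subgroup G) ≤ G1)).symm y = x :=
        Subtype.ext (Subtype.ext hyx)
      rw [MonoidHom.mem_ker, ← h3]
      exact h2
    refine ⟨(MonoidHom.liftOfSurjective _ hsurj ⟨δ, hker⟩).comp (QuotientGroup.mk' N1), fun x => ?_⟩
    exact MonoidHom.liftOfRightInverse_comp_apply _ _ (Function.rightInverse_surjInv hsurj) ⟨δ, hker⟩ x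
  have hb : pResidual p (P1 : Subgroup G1) = ⊥ :=
    le_bot_iff.mp ((pResidual_le_ker P1.2 (MonoidHom.id _)).trans (MonoidHom.ker_id).le)
  rw [hb, Subgroup.map_bot] at hT
  exact hasNormalPComplement_of_injective ((hasNormalPComplement_iff_inf_eq_bot P1).mpr hT)
    (inclusion le_sup_right) (inclusion_injective _)

/-- In a cyclic `p`-group one of two subgroups meeting trivially is trivial. -/
theorem cyclic_subgroup_eq_bot_or [Finite G] [Fact p.Prime] {P A B : Subgroup G} (hP : IsPGroup p P)
    (hc : IsCyclic P) (hA : A ≤ P) (hB : B ≤ P) (h : A ⊓ B = ⊥) : A = ⊥ ∨ B = ⊥ := by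
  classical
  have hp : p.Prime := Fact.out
  have hex : ∀ C : Subgroup G, C ≤ P → C ≠ ⊥ → ∃ x : P, (x : G) ∈ C ∧ orderOf x = p := by
    intro C hC hne
    obtain ⟨k, hk⟩ := IsPGroup.iff_card.mp (hP.to_le hC)
    have hk0 : k ≠ 0 := fun h0 => hne (card_eq_one.mp (by rw [hk, h0, pow_zero]))
    obtain ⟨x, hx⟩ := exists_prime_orderOf_dvd_card' p (G := C) (hk ▸ dvd_pow_self p hk0)
    exact ⟨⟨x, hC x.2⟩, x.2, by rw [Subgroup.orderOf_mk, Subgroup.orderOf_coe, hx]⟩
  by_contra hne
  rw [not_or] at hne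
  obtain ⟨a, haA, ha⟩ := hex A hA hne.1
  obtain ⟨b, hbB, hb⟩ := hex B hB hne.2
  have : Fintype P := Fintype.ofFinite _
  set S := Finset.univ.filter fun x : P => x ^ p = 1
  have hS : S.card ≤ p := IsCyclic.card_pow_eq_one_le hp.pos
  let T := Finset.univ.filter fun x : P => x ∈ zpowers a
  have hT : T.card = p := by
    rw [← ha, ← Nat.card_zpowers a, Nat.card_eq_fintype_card, ← Fintype.card_subtype]
  have hTS : T = S := Finset.eq_of_subset_of_card_le (fun x hx => by
    simp only [S, T, Finset.mem_filter, Finset.mem_univ, true_and] at hx ⊢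
    rw [← orderOf_dvd_iff_pow_eq_one, ← ha]
    exact orderOf_dvd_of_mem_zpowers hx) (hS.trans hT.ge)
  have hbS : b ∈ S := by simp [S, ← hb, pow_orderOf_eq_one]
  rw [← hTS] at hbS
  simp only [T, Finset.mem_filter, Finset.mem_univ, true_and] at hbS
  have hbA : (b : G) ∈ A := by
    obtain ⟨i, hi⟩ := hbS
    rw [← hi, coe_zpow]
    exact A.zpow_mem haA i
  have h1 : (b : G) = 1 := mem_bot.mp (h ▸ ⟨hbA, hbB⟩)
  exact hp.ne_one (by rw [← hb, ← Subgroup.orderOf_coe, h1, orderOf_one])

theorem commutator_eq_bot_iff_le_centralizer' {A B : Subgroup G} :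
    ⁅A, B⁆ = ⊥ ↔ B ≤ centralizer (A : Set G) := by
  rw [commutator_comm, commutator_eq_bot_iff_le_centralizer]

/-- A cyclic Sylow subgroup: normal `p`-complement or no proper `p`-quotient. -/
theorem hasNormalPComplement_or_pResidual_eq_top_of_cyclic [Finite G] [Fact p.Prime] (P : Sylow p G)
    (hc : IsCyclic (P : Subgroup G)) : HasNormalPComplement p G ∨ pResidual p G = ⊤ := by
  have : IsMulCommutative (P : Subgroup G) := IsCyclic.isMulCommutative
  rcases cyclic_subgroup_eq_bot_or P.2 hc
    (commutator_normalizer_le (P : Subgroup G))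
    (inf_le_left : (P : Subgroup G) ⊓ centralizer (normalizer ((P : Subgroup G) : Set G) : Set G) ≤ P)
    (le_bot_iff.mp ((inf_le_inf_left _ inf_le_right).trans
      (commutator_normalizer_inf_centralizer P).le)) with h | h
  · exact Or.inl (hasNormalPComplement_of_normalizer_le_centralizer P
      (commutator_eq_bot_iff_le_centralizer'.mp h))
  · right
    rw [pResidual_eq_top_iff P]
    have h1 := commutator_normalizer_sup_centralizer P
    rw [h, sup_bot_eq] at h1
    exact h1.symm.le.trans (commutator_mono le_top le_top)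

/-- A `q`-element normalizing the finite subgroup `T` fixes a subgroup of order congruent to `|T|` mod `q`. -/
theorem card_fixed_modEq [Finite G] {q : ℕ} [Fact q.Prime] (T : Subgroup G) {y : G}
    (hy : y ∈ normalizer (T : Set G)) {k : ℕ} (hk : orderOf y = q ^ k) :
    ∃ C : Subgroup G, C ≤ T ∧ (∀ x ∈ C, y * x * y⁻¹ = x) ∧ (∀ x ∈ T, y * x * y⁻¹ = x → x ∈ C) ∧
      Nat.card T ≡ Nat.card C [MOD q] := by
  set Y := zpowers y
  let f : Y →* MulAut T := T.normalizerMonoidHom.comp (inclusion (zpowers_le.mpr hy))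
  let : MulAction Y T := MulAction.compHom T f
  have hY : IsPGroup q Y := IsPGroup.of_card (n := k) (by rw [Nat.card_zpowers, hk])
  have hsmul : ∀ (z : Y) (x : T), ((z • x : T) : G) = z * x * (z : G)⁻¹ := fun z x => rfl
  have hfix : ∀ x : T, x ∈ MulAction.fixedPoints Y T ↔ (x : G) ∈ T ⊓ centralizer {y} := by
    intro x
    rw [MulAction.mem_fixedPoints, mem_inf, mem_centralizer_singleton_iff]
    constructor
    · intro h
      have h1 : y * (x : G) * y⁻¹ = x := congrArg Subtype.val (h ⟨y, mem_zpowers y⟩)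
      exact ⟨x.2, (mul_inv_eq_iff_eq_mul.mp h1).symm⟩
    · rintro ⟨-, h⟩ z
      refine Subtype.ext ?_
      obtain ⟨i, hi⟩ := z.2
      have h2 : Commute (x : G) (y ^ i) := Commute.zpow_right h i
      rw [hsmul, ← hi]
      change y ^ i * (x : G) * (y ^ i)⁻¹ = x
      rw [← h2.eq, mul_inv_cancel_right]
  refine ⟨T ⊓ centralizer {y}, inf_le_left, fun x hx => ?_, fun x hx h => ⟨hx, ?_⟩, ?_⟩
  · rw [(mem_centralizer_singleton_iff.mp hx.2).symm, mul_inv_cancel_right]
  · exact mem_centralizer_singleton_iff.mpr (mul_inv_eq_iff_eq_mul.mp h).symm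
  · refine (hY.card_modEq_card_fixedPoints T).trans (congrArg (· % q) ?_)
    exact Nat.card_congr
      { toFun := fun x => ⟨x.1, (hfix x.1).mp x.2⟩
        invFun := fun x => ⟨⟨x.1, x.2.1⟩, (hfix _).mpr x.2⟩
        left_inv := fun x => rfl
        right_inv := fun x => rfl }

/-- `N(P) ≤ C(P)` for abelian `P` can be tested on elements of prime power order prime to `p`. -/
theorem normalizer_le_centralizer_of_primePow [Finite G] [Fact p.Prime] (P : Sylow p G)
    [IsMulCommutative P]
    (h : ∀ q : ℕ, q.Prime → q ≠ p → q ∣ Nat.card G → ∀ y ∈ normalizer ((P : Subgroup G) : Set G),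
      (∃ k, orderOf y = q ^ k) → y ∈ centralizer ((P : Subgroup G) : Set G)) :
    normalizer ((P : Subgroup G) : Set G) ≤ centralizer ((P : Subgroup G) : Set G) := by
  intro n hn
  obtain ⟨y, hy, hco, he⟩ := exists_coprime_conj_eq P hn
  have hyN : y ∈ normalizer ((P : Subgroup G) : Set G) := (zpowers_le.mpr hn) hy
  have hyC : y ∈ centralizer ((P : Subgroup G) : Set G) := by
    refine mem_of_forall_primePow fun q hq z hz ⟨k, hk⟩ => ?_
    by_cases hk0 : k = 0
    · have hz1 : orderOf z = 1 := by rw [hk, hk0, pow_zero]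
      rw [orderOf_eq_one_iff.mp hz1]
      exact one_mem _
    have hd : q ∣ orderOf y := (hk ▸ dvd_pow_self q hk0).trans (orderOf_dvd_of_mem_zpowers hz)
    refine h q hq ?_ (hd.trans (orderOf_dvd_natCard y)) z ((zpowers_le.mpr hyN) hz) ⟨k, hk⟩
    intro hqp
    subst hqp
    exact hq.ne_one (Nat.eq_one_of_dvd_coprimes hco hd dvd_rfl)
  refine mem_centralizer_iff.mpr fun x hx => ?_
  have h1 := he x hx
  rw [← mem_centralizer_iff.mp hyC x hx, mul_inv_cancel_right] at h1
  exact eq_mul_inv_iff_mul_eq.mp h1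

end Cfsg.Agent.Transfer
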