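-- Dihedral 2-groups: subgroups, Klein four subgroups and their automizers.
--
-- Main results (namespace `Cfsg.Agent.Transfer`, `m = 2 ^ a`, `c = 2 ^ (a - 1)` the middle rotation):
-- * `isPGroup_mulAut_of_fixed_cyclic`, `isPGroup_mulAut_of_cyclic_char` (cyclic subgroup of index two)
-- * `dihedral_subgroup_cases`: automorphisms form a 2-group, or Klein four
-- * `dihedral_klein_shape`, `dihedralKlein`, `dihedralParity`, `dihedral_klein_conj`
-- * `card_automizer_dvd_six`, `transitive_of_three_dvd`
import Cfsg.Agent.Lib.Transfer.QuaternionFusion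

set_option autoImplicit false

namespace Cfsg.Agent.Transfer

open Subgroup

/-- If a cyclic subgroup `⟨r⟩` of index two and order `2^k` is invariant under all automorphisms then
the automorphism group is a 2-group. -/
theorem isPGroup_mulAut_of_fixed_cyclic {G : Type*} [Group G] [Finite G] {k : ℕ} (r : G)
    (hr : orderOf r = 2 ^ k) (hidx : (zpowers r).index = 2)
    (hfixr : ∀ α : MulAut G, α r ∈ zpowers r) : IsPGroup 2 (MulAut G) := by
  have := Fact.mk Nat.prime_two
  set C := zpowers r
  have hfix : ∀ (α : MulAut G) x, x ∈ C → α x ∈ C := by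
    rintro α x ⟨i, rfl⟩
    rw [map_zpow]
    exact C.zpow_mem (hfixr α) i
  have hfix' : ∀ (α : MulAut G) x, α x ∈ C → x ∈ C := fun α x h => by
    simpa using hfix α⁻¹ _ h
  let res : MulAut G →* MulAut C :=
    { toFun := fun α =>
        { toFun := fun x => ⟨α x, hfix α x x.2⟩
          invFun := fun x => ⟨α.symm x, hfix' α _ (by rw [MulEquiv.apply_symm_apply]; exact x.2)⟩
          left_inv := fun x => Subtype.ext (α.symm_apply_apply x)
          right_inv := fun x => Subtype.ext (α.apply_symm_apply x)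
          map_mul' := fun x y => Subtype.ext (map_mul α (x : G) y) }
      map_one' := rfl
      map_mul' := fun _ _ => rfl }
  have hC : IsPGroup 2 C := IsPGroup.of_card (n := k) (by rw [Nat.card_zpowers, hr])
  intro α
  obtain ⟨j, hj⟩ := isPGroup_mulAut_of_isCyclic hC (res α)
  refine ⟨j + k, ?_⟩
  rw [pow_add, pow_mul]
  set β := α ^ 2 ^ j
  have hβ : ∀ x ∈ C, β x = x := fun x hx => by
    have h := congrArg (fun f : MulAut C => ((f ⟨x, hx⟩ : C) : G)) hj
    rw [← map_pow] at h
    exact h
  refine MulEquiv.ext fun x => ?_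
  rw [MulAut.one_apply]
  by_cases hx : x ∈ C
  · suffices ∀ n : ℕ, (β ^ n) x = x from this _
    intro n
    induction n with
    | zero => rfl
    | succ n ih => rw [pow_succ', MulAut.mul_apply, ih, hβ x hx]
  · have hc : x⁻¹ * β x ∈ C := by
      rw [mul_mem_iff_of_index_two hidx, inv_mem_iff]
      exact iff_of_false hx fun h => hx (hfix' β x h)
    suffices ∀ n : ℕ, (β ^ n) x = x * (x⁻¹ * β x) ^ n by
      rw [this, ← hr, orderOf_dvd_iff_pow_eq_one.mp (orderOf_dvd_of_mem_zpowers hc), mul_one]
    intro n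
    induction n with
    | zero => simp
    | succ n ih =>
      rw [pow_succ' β, MulAut.mul_apply, ih, map_mul, hβ _ (pow_mem hc n), pow_succ', ← mul_assoc x,
        mul_inv_cancel_left]

/-- If every element outside a cyclic subgroup `⟨r⟩` of index two and order `2^k ≥ 4` squares to one then
the automorphism group is a 2-group. -/
theorem isPGroup_mulAut_of_cyclic_char {G : Type*} [Group G] [Finite G] {k : ℕ} (hk : 2 ≤ k) (r : G)
    (hr : orderOf r = 2 ^ k) (hidx : (zpowers r).index = 2)
    (hout : ∀ x : G, x ∉ zpowers r → x * x = 1) : IsPGroup 2 (MulAut G) := by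
  refine isPGroup_mulAut_of_fixed_cyclic r hr hidx fun α => ?_
  by_contra h
  have h2 : orderOf (α r) ∣ 2 := orderOf_dvd_of_pow_eq_one (by rw [sq]; exact hout _ h)
  rw [MulEquiv.orderOf_eq, hr] at h2
  have := Nat.le_of_dvd two_pos h2
  have : 2 ^ 2 ≤ 2 ^ k := Nat.pow_le_pow_right two_pos hk
  omega

/-- A subgroup of a dihedral 2-group has a 2-group of automorphisms or is a Klein four group. -/
theorem dihedral_subgroup_cases {m a : ℕ} (hm : m = 2 ^ a) (Q : Subgroup (DihedralGroup m)) :
    IsPGroup 2 (MulAut Q) ∨ IsKleinFour Q := by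
  have := Fact.mk Nat.prime_two
  have hnz : NeZero m := ⟨by rw [hm]; positivity⟩
  have hQp : IsPGroup 2 Q :=
    (IsPGroup.of_card (n := a + 1) (by rw [DihedralGroup.nat_card, hm, pow_succ']) :
      IsPGroup 2 (DihedralGroup m)).to_subgroup Q
  set A : Subgroup (DihedralGroup m) := zpowers (DihedralGroup.r 1)
  have hA : ∀ x, x ∈ A ↔ ∃ i, x = DihedralGroup.r i := by
    intro x
    constructor
    · rintro ⟨i, rfl⟩; exact ⟨_, DihedralGroup.r_one_zpow i⟩
    · rintro ⟨i, rfl⟩
      rw [← ZMod.natCast_zmod_val i, ← DihedralGroup.r_one_pow]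
      exact pow_mem (mem_zpowers _) _
  have hAi : A.index = 2 := by
    have h := A.card_mul_index
    rw [Nat.card_zpowers, DihedralGroup.orderOf_r_one, DihedralGroup.nat_card, mul_comm 2 m] at h
    exact Nat.eq_of_mul_eq_mul_left (Nat.pos_of_ne_zero (NeZero.ne m)) h
  have : IsCyclic A := isCyclic_iff_exists_zpowers_eq_top.mpr ⟨⟨_, mem_zpowers _⟩, by
    refine eq_top_iff.mpr fun x _ => ?_
    obtain ⟨j, hj⟩ := x.2
    exact ⟨j, Subtype.ext hj⟩⟩
  by_cases hQA : Q ≤ A
  · left
    have : IsCyclic Q := isCyclic_of_injective (inclusion hQA) (inclusion_injective _)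
    exact isPGroup_mulAut_of_isCyclic hQp
  obtain ⟨b, hbQ, hbA⟩ := SetLike.not_le_iff_exists.mp hQA
  have hout : ∀ x : DihedralGroup m, x ∉ A → x * x = 1 := by
    rintro (i | i) hx
    · exact absurd ((hA _).mpr ⟨i, rfl⟩) hx
    · exact DihedralGroup.sr_mul_self i
  have hAn : A.Normal := normal_of_index_eq_two hAi
  set C : Subgroup Q := A.subgroupOf Q
  have hCi : C.index = 2 := by
    rcases (Nat.dvd_prime Nat.prime_two).mp (hAi ▸ relIndex_dvd_index_of_normal A Q : A.relIndex Q ∣ 2) with h | h
    · exact absurd (relIndex_eq_one.mp h hbQ) hbA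
    · exact h
  let g : C →* A := (Q.subtype.comp C.subtype).codRestrict A fun x => mem_subgroupOf.mp x.2
  have : IsCyclic C := isCyclic_of_injective g fun x y h => Subtype.ext (Subtype.ext (congrArg Subtype.val h :))
  obtain ⟨r, hr⟩ := IsCyclic.exists_generator (α := C)
  have hrC : C = zpowers (r : Q) := by
    refine le_antisymm (fun x hx => ?_) (zpowers_le.mpr r.2)
    obtain ⟨n, hn⟩ := hr ⟨x, hx⟩
    exact ⟨n, congrArg Subtype.val hn⟩
  obtain ⟨k, hk⟩ := IsPGroup.iff_orderOf.mp hQp (r : Q)
  have hcardQ : Nat.card Q = 2 * 2 ^ k := by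
    rw [← C.card_mul_index, hCi, hrC, Nat.card_zpowers, hk, mul_comm]
  have houtQ : ∀ x : Q, x ∉ C → x * x = 1 := fun x hx => Subtype.ext (hout _ fun h => hx (mem_subgroupOf.mpr h))
  rcases Nat.lt_or_ge k 2 with hk2 | hk2
  · interval_cases k
    · left
      have : IsCyclic Q := isCyclic_of_prime_card (p := 2) (by rw [hcardQ]; rfl)
      exact isPGroup_mulAut_of_isCyclic hQp
    · right
      have hsq : ∀ x : Q, x * x = 1 := by
        intro x
        by_cases hx : x ∈ C
        · rw [hrC] at hx
          have := orderOf_dvd_of_mem_zpowers hx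
          rw [hk, pow_one, orderOf_dvd_iff_pow_eq_one, sq] at this
          exact this
        · exact houtQ x hx
      refine ⟨by rw [hcardQ]; rfl, ?_⟩
      rcases (Nat.dvd_prime Nat.prime_two).mp (Monoid.exponent_dvd_of_forall_pow_eq_one
        (fun x : Q => by rw [sq]; exact hsq x)) with h | h
      · exfalso
        rw [Monoid.exp_eq_one_iff] at h
        have := Nat.card_of_subsingleton (1 : Q)
        omega
      · exact h
  · exact Or.inl (isPGroup_mulAut_of_cyclic_char hk2 (r : Q) hk (hrC ▸ hCi) (fun x hx => houtQ x (hrC ▸ hx)))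

theorem zmod_add_self_eq_zero {a : ℕ} {i : ZMod (2 ^ (a + 1))} (h : i + i = 0) :
    i = 0 ∨ i = ((2 ^ a : ℕ) : ZMod (2 ^ (a + 1))) := by
  obtain ⟨x, rfl⟩ := ZMod.natCast_zmod_surjective i
  rw [← Nat.cast_add, ZMod.natCast_eq_zero_iff, pow_succ'] at h
  obtain ⟨b, hb⟩ := h
  have ha : x = 2 ^ a * b := by nlinarith
  rcases Nat.even_or_odd b with ⟨d, hd⟩ | ⟨d, hd⟩
  · left
    rw [ZMod.natCast_eq_zero_iff, ha, hd, pow_succ']
    exact ⟨d, by ring⟩
  · right
    have hh : x = 2 ^ a + d * 2 ^ (a + 1) := by rw [ha, hd, pow_succ']; ring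
    rw [hh, Nat.cast_add, Nat.cast_mul, ZMod.natCast_self, mul_zero, add_zero]

section Coordinates

variable (a : ℕ)

/-- The middle rotation index of `DihedralGroup (2 ^ (a + 2))`. -/
def midIndex : ZMod (2 ^ (a + 2)) := ((2 ^ (a + 1) : ℕ) : ZMod (2 ^ (a + 2)))

theorem midIndex_add_self : midIndex a + midIndex a = 0 := by
  rw [midIndex, ← Nat.cast_add, ZMod.natCast_eq_zero_iff]
  exact ⟨1, by rw [pow_succ 2 (a + 1)]; ring⟩

theorem midIndex_ne_zero : midIndex a ≠ 0 := by
  rw [midIndex, Ne, ZMod.natCast_eq_zero_iff]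
  intro h
  have := Nat.le_of_dvd (by positivity) h
  have : 2 ^ (a + 1) < 2 ^ (a + 2) := Nat.pow_lt_pow_right (by norm_num) (by omega)
  omega

/-- Parity of an index. -/
def idxParity : ZMod (2 ^ (a + 2)) →+* ZMod 2 :=
  ZMod.castHom (dvd_pow_self 2 (by omega : a + 2 ≠ 0)) (ZMod 2)

theorem idxParity_midIndex : idxParity a (midIndex a) = 0 := by
  rw [idxParity, midIndex, map_natCast, ZMod.natCast_eq_zero_iff]
  exact dvd_pow_self 2 (by omega)

/-- The Klein four subgroup through `sr i`. -/
def dihedralKlein (i : ZMod (2 ^ (a + 2))) : Subgroup (DihedralGroup (2 ^ (a + 2))) where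
  carrier := {x | x = 1 ∨ x = DihedralGroup.r (midIndex a) ∨ x = DihedralGroup.sr i ∨
    x = DihedralGroup.sr (i + midIndex a)}
  one_mem' := Or.inl rfl
  mul_mem' := by
    have h := midIndex_add_self a
    have h' : -midIndex a = midIndex a := neg_eq_of_add_eq_zero_right h
    rintro x y (rfl | rfl | rfl | rfl) (rfl | rfl | rfl | rfl) <;>
      simp [DihedralGroup.one_def, -DihedralGroup.r_zero, h, h', add_assoc, sub_eq_add_neg,
        add_left_comm, add_comm, neg_add_rev]
  inv_mem' := by
    have h' : -midIndex a = midIndex a := neg_eq_of_add_eq_zero_right (midIndex_add_self a)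
    rintro x (rfl | rfl | rfl | rfl) <;> simp [h']

theorem mem_dihedralKlein {i : ZMod (2 ^ (a + 2))} {x : DihedralGroup (2 ^ (a + 2))} :
    x ∈ dihedralKlein a i ↔ x = 1 ∨ x = DihedralGroup.r (midIndex a) ∨ x = DihedralGroup.sr i ∨
      x = DihedralGroup.sr (i + midIndex a) :=
  Iff.rfl

theorem dihedralKlein_isKleinFour (i : ZMod (2 ^ (a + 2))) : IsKleinFour (dihedralKlein a i) := by
  have hsq : ∀ x ∈ dihedralKlein a i, x * x = 1 := by
    rintro x (rfl | rfl | rfl | rfl)
    · simp
    · rw [DihedralGroup.r_mul_r, midIndex_add_self]; rfl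
    · exact DihedralGroup.sr_mul_self _
    · exact DihedralGroup.sr_mul_self _
  have hne := midIndex_ne_zero a
  have hcard : Nat.card (dihedralKlein a i) = 4 := by
    have h : (dihedralKlein a i : Set (DihedralGroup (2 ^ (a + 2)))) =
        {1, DihedralGroup.r (midIndex a), DihedralGroup.sr i, DihedralGroup.sr (i + midIndex a)} := by
      ext x; simp [mem_dihedralKlein]
    show Nat.card ((dihedralKlein a i : Set (DihedralGroup (2 ^ (a + 2)))) : Type) = 4
    rw [h, Nat.card_coe_set_eq]
    simp [DihedralGroup.one_def, -DihedralGroup.r_zero, Ne.symm hne, hne]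
  refine ⟨hcard, ?_⟩
  rcases (Nat.dvd_prime Nat.prime_two).mp (Monoid.exponent_dvd_of_forall_pow_eq_one
    (fun x : dihedralKlein a i => by rw [sq]; exact Subtype.ext (hsq _ x.2))) with h | h
  · exfalso
    rw [Monoid.exp_eq_one_iff] at h
    have := Nat.card_of_subsingleton (1 : dihedralKlein a i)
    omega
  · exact h

/-- Every Klein four subgroup is one of the `dihedralKlein`. -/
theorem dihedral_klein_shape (V : Subgroup (DihedralGroup (2 ^ (a + 2)))) (hV : IsKleinFour V) :
    ∃ i, V = dihedralKlein a i := by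
  have hinv : ∀ x ∈ V, x * x = 1 := fun x hx =>
    congrArg Subtype.val (IsKleinFour.mul_self (⟨x, hx⟩ : V))
  have hr : ∀ j, DihedralGroup.r j ∈ V → j = 0 ∨ j = midIndex a := fun j hj => by
    have h := hinv _ hj
    rw [DihedralGroup.r_mul_r, DihedralGroup.one_def, DihedralGroup.r.injEq] at h
    exact zmod_add_self_eq_zero h
  have hsub : ∀ i, DihedralGroup.sr i ∈ V → V ≤ dihedralKlein a i := by
    intro i hi x hx
    cases x with
    | r j =>
      rcases hr j hx with rfl | rfl
      · exact Or.inl DihedralGroup.one_def.symm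
      · exact Or.inr (Or.inl rfl)
    | sr j =>
      have h := V.mul_mem hi hx
      rw [DihedralGroup.sr_mul_sr] at h
      rcases hr _ h with h | h
      · exact Or.inr (Or.inr (Or.inl (by rw [sub_eq_zero.mp h])))
      · exact Or.inr (Or.inr (Or.inr (by rw [sub_eq_iff_eq_add'.mp h])))
  obtain ⟨i, hi⟩ : ∃ i, DihedralGroup.sr i ∈ V := by
    by_contra hne
    push Not at hne
    have h2 : (V : Set (DihedralGroup (2 ^ (a + 2)))) ⊆ {1, DihedralGroup.r (midIndex a)} := by
      intro x hx
      cases x with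
      | r j =>
        rcases hr j hx with rfl | rfl
        · exact Or.inl DihedralGroup.one_def.symm
        · exact Or.inr rfl
      | sr j => exact absurd hx (hne j)
    have h3 := Nat.card_mono (Set.toFinite _) h2
    rw [Nat.card_coe_set_eq ({1, DihedralGroup.r (midIndex a)} : Set (DihedralGroup (2 ^ (a + 2))))] at h3
    have h4 : ({1, DihedralGroup.r (midIndex a)} : Set (DihedralGroup (2 ^ (a + 2)))).ncard ≤ 2 :=
      (Set.ncard_insert_le _ _).trans (by simp)
    have h5 : Nat.card V = 4 := hV.card_four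
    exact absurd (h3.trans h4) (by rw [SetLike.coe_sort_coe, h5]; norm_num)
  exact ⟨i, eq_of_le_of_card_ge (hsub i hi)
    (by rw [(dihedralKlein_isKleinFour a i).card_four, hV.card_four])⟩

/-- The homomorphism to `ZMod 2` killing the reflections of parity `e`. -/
def dihedralParity (e : ZMod 2) : DihedralGroup (2 ^ (a + 2)) →* Multiplicative (ZMod 2) :=
  MonoidHom.mk' (fun x => Multiplicative.ofAdd (match x with
    | .r i => idxParity a i
    | .sr i => idxParity a i + e)) (by
    have h2 : ∀ u : ZMod 2, -u = u := by decide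
    have h3 : ∀ u : ZMod 2, u + u = 0 := by decide
    rintro (i | i) (j | j) <;> rw [← ofAdd_add] <;> congr 1
    · exact map_add _ i j
    · show idxParity a (j - i) + e = idxParity a i + (idxParity a j + e)
      rw [map_sub, sub_eq_add_neg, h2]; ring
    · show idxParity a (i + j) + e = idxParity a i + e + idxParity a j
      rw [map_add]; ring
    · show idxParity a (j - i) = idxParity a i + e + (idxParity a j + e)
      rw [map_sub, sub_eq_add_neg, h2]
      linear_combination -(h3 e))

theorem dihedralKlein_le_ker (i : ZMod (2 ^ (a + 2))) :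
    dihedralKlein a i ≤ (dihedralParity a (idxParity a i)).ker := by
  have h2 : ∀ u : ZMod 2, u + u = 0 := by decide
  rintro x (rfl | rfl | rfl | rfl) <;> rw [MonoidHom.mem_ker]
  · exact map_one _
  · exact congrArg Multiplicative.ofAdd (idxParity_midIndex a)
  · exact congrArg Multiplicative.ofAdd (h2 _)
  · refine congrArg Multiplicative.ofAdd ?_
    show idxParity a (i + midIndex a) + idxParity a i = 0
    rw [map_add, idxParity_midIndex, add_zero, h2]

theorem dihedralParity_r_one (e : ZMod 2) :
    dihedralParity a e (DihedralGroup.r 1) = Multiplicative.ofAdd 1 :=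
  congrArg Multiplicative.ofAdd (map_one (idxParity a))

/-- Klein subgroups of equal parity are conjugate. -/
theorem dihedral_klein_conj {i j : ZMod (2 ^ (a + 2))} (h : idxParity a i = idxParity a j) :
    ∃ d, (dihedralKlein a i).map (MulAut.conj d).toMonoidHom = dihedralKlein a j := by
  obtain ⟨t, ht⟩ : ∃ t : ZMod (2 ^ (a + 2)), i - j = t + t := by
    obtain ⟨x, hx⟩ := ZMod.natCast_zmod_surjective (i - j)
    have h0 : idxParity a (i - j) = 0 := by rw [map_sub, h, sub_self]
    rw [← hx, map_natCast, ZMod.natCast_eq_zero_iff] at h0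
    obtain ⟨y, rfl⟩ := h0
    exact ⟨y, by rw [← hx, ← Nat.cast_add, two_mul]⟩
  refine ⟨DihedralGroup.r t, eq_of_le_of_card_ge ?_ (by
    rw [card_map_conj, (dihedralKlein_isKleinFour a i).card_four, (dihedralKlein_isKleinFour a j).card_four])⟩
  rintro _ ⟨x, hx, rfl⟩
  change DihedralGroup.r t * x * (DihedralGroup.r t)⁻¹ ∈ _
  rw [DihedralGroup.inv_r]
  rcases hx with rfl | rfl | rfl | rfl
  · exact Or.inl (by rw [mul_one, DihedralGroup.r_mul_r, add_neg_cancel]; rfl)
  · exact Or.inr (Or.inl (by simp))
  · refine Or.inr (Or.inr (Or.inl ?_))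
    rw [DihedralGroup.r_mul_sr, DihedralGroup.sr_mul_r]
    congr 1
    linear_combination ht
  · refine Or.inr (Or.inr (Or.inr ?_))
    rw [DihedralGroup.r_mul_sr, DihedralGroup.sr_mul_r]
    congr 1
    linear_combination ht

/-- A rotation normalizing `dihedralKlein a i` and moving `sr i`. -/
theorem exists_swapping (i : ZMod (2 ^ (a + 2))) :
    ∃ d, d ∈ normalizer (dihedralKlein a i : Set (DihedralGroup (2 ^ (a + 2)))) ∧
      d * DihedralGroup.sr i * d⁻¹ ≠ DihedralGroup.sr i := by
  set t : ZMod (2 ^ (a + 2)) := ((2 ^ a : ℕ) : ZMod (2 ^ (a + 2)))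
  have ht : t + t = midIndex a := by
    rw [midIndex, ← Nat.cast_add, pow_succ' 2 a, two_mul]
  refine ⟨DihedralGroup.r t, ?_, ?_⟩
  · rw [← map_conj_eq_iff_mem_normalizer]
    refine eq_of_le_of_card_ge ?_ (card_map_conj _ _).ge
    rintro _ ⟨x, hx, rfl⟩
    change DihedralGroup.r t * x * (DihedralGroup.r t)⁻¹ ∈ _
    rw [DihedralGroup.inv_r]
    have hneg : -midIndex a = midIndex a := neg_eq_of_add_eq_zero_right (midIndex_add_self a)
    rcases hx with rfl | rfl | rfl | rfl
    · exact Or.inl (by rw [mul_one, DihedralGroup.r_mul_r, add_neg_cancel]; rfl)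
    · exact Or.inr (Or.inl (by simp))
    · refine Or.inr (Or.inr (Or.inr ?_))
      rw [DihedralGroup.r_mul_sr, DihedralGroup.sr_mul_r]
      congr 1
      linear_combination -ht + hneg
    · refine Or.inr (Or.inr (Or.inl ?_))
      rw [DihedralGroup.r_mul_sr, DihedralGroup.sr_mul_r]
      congr 1
      linear_combination -ht
  · rw [DihedralGroup.inv_r, DihedralGroup.r_mul_sr, DihedralGroup.sr_mul_r]
    intro h
    injection h with h'
    exact midIndex_ne_zero a (by linear_combination -ht - h')

end Coordinates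

/-! ### The automorphisms of a Klein four group -/

theorem card_mulAut_klein_dvd {U : Type*} [Group U] [Finite U] (hU : IsKleinFour U) :
    Nat.card (MulAut U) ∣ 6 := by
  let f : MulAut U →* Equiv.Perm {x : U // x ≠ 1} :=
    { toFun := fun α => α.toEquiv.subtypeEquiv fun x => (map_ne_one_iff α α.injective).symm
      map_one' := rfl
      map_mul' := fun _ _ => rfl }
  have hf : Function.Injective f := fun α β h => MulEquiv.ext fun x => by
    by_cases hx : x = 1
    · rw [hx, map_one, map_one]
    · exact congrArg Subtype.val (Equiv.congr_fun h ⟨x, hx⟩)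
  have h3 : Nat.card {x : U // x ≠ 1} = 3 := by
    classical
    have : Fintype U := Fintype.ofFinite U
    rw [Nat.card_eq_fintype_card, Fintype.card_subtype_compl, Fintype.card_subtype_eq,
      ← Nat.card_eq_fintype_card, hU.card_four]
  have h := card_dvd_of_injective f hf
  rwa [Nat.card_perm, h3] at h

variable {G : Type*} [Group G] [Finite G]

theorem card_automizer (U : Subgroup G) :
    Nat.card U.normalizerMonoidHom.range = (centralizer (U : Set G)).relIndex (normalizer (U : Set G)) := by
  rw [← index_ker, normalizerMonoidHom_ker]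
  rfl

theorem card_automizer_dvd_six (U : Subgroup G) (hU : IsKleinFour U) :
    (centralizer (U : Set G)).relIndex (normalizer (U : Set G)) ∣ 6 :=
  card_automizer U ▸ (card_subgroup_dvd_card _).trans (card_mulAut_klein_dvd hU)

/-- An automizer of order divisible by three is transitive on the involutions. -/
theorem transitive_of_three_dvd (U : Subgroup G) (hU : IsKleinFour U)
    (h : 3 ∣ (centralizer (U : Set G)).relIndex (normalizer (U : Set G))) {x y : G} (hx : x ∈ U)
    (hx1 : x ≠ 1) (hy : y ∈ U) (hy1 : y ≠ 1) : ∃ n ∈ normalizer (U : Set G), n * x * n⁻¹ = y := by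
  have := Fact.mk Nat.prime_three
  rw [← card_automizer] at h
  obtain ⟨⟨f, n, rfl⟩, hf⟩ := exists_prime_orderOf_dvd_card' 3 h
  rw [← Subgroup.orderOf_coe] at hf
  set f := U.normalizerMonoidHom n
  replace hf : orderOf f = 3 := hf
  have hnfix : ∀ u : U, u ≠ 1 → f u ≠ u := by
    intro u hu hfu
    have hf1 : f ≠ 1 := fun h => by rw [h, orderOf_one] at hf; norm_num at hf
    apply hf1
    have h3 : f ^ 3 = 1 := hf ▸ pow_orderOf_eq_one f
    refine MulEquiv.ext fun v => ?_
    rw [MulAut.one_apply]
    by_contra hv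
    have hv1 : v ≠ 1 := fun h => hv (h ▸ map_one f)
    have hvu : v ≠ u := fun h => hv (h ▸ hfu)
    have e1 : f v = u * v := IsKleinFour.eq_mul_of_ne_all hu hv1 hvu.symm
      (fun h => hv1 (f.injective (h.trans (map_one f).symm)))
      (fun h => hvu (f.injective (h.trans hfu.symm))) hv
    have e2 : f (f v) = v := by
      rw [e1, map_mul, hfu, e1, ← mul_assoc, IsKleinFour.mul_self, one_mul]
    have e3 : f (f (f v)) = v := by
      have := DFunLike.congr_fun h3 v
      rwa [pow_succ, pow_succ, pow_one, MulAut.mul_apply, MulAut.mul_apply, MulAut.one_apply] at this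
    exact hv ((congrArg f e2).symm.trans e3)
  set u : U := ⟨x, hx⟩
  have hu : u ≠ 1 := fun h => hx1 (congrArg Subtype.val h)
  have h1 : f u ≠ 1 := fun h => hu (f.injective (h.trans (map_one f).symm))
  have h2 : f u ≠ u := hnfix u hu
  have h4 : f (f u) ≠ f u := hnfix _ h1
  have h5 : f (f u) ≠ 1 := fun h => h1 (f.injective (h.trans (map_one f).symm))
  set v : U := ⟨y, hy⟩
  have hv : v ≠ 1 := fun h => hy1 (congrArg Subtype.val h)
  by_cases e1 : v = u
  · exact ⟨1, one_mem _, by rw [one_mul, inv_one, mul_one]; exact (congrArg Subtype.val e1).symm⟩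
  by_cases e2 : v = f u
  · exact ⟨n, n.2, (congrArg Subtype.val e2).symm⟩
  have e3 : v = f (f u) := by
    have h6 : f (f u) ≠ u := by
      intro h
      have h3 := DFunLike.congr_fun (hf ▸ pow_orderOf_eq_one f : f ^ 3 = 1) u
      rw [pow_succ, pow_succ, pow_one, MulAut.mul_apply, MulAut.mul_apply, MulAut.one_apply, h] at h3
      exact h2 h3
    rw [IsKleinFour.eq_mul_of_ne_all hu h1 h2.symm h5 h6 h4]
    exact IsKleinFour.eq_mul_of_ne_all hu h1 h2.symm hv e1 e2
  refine ⟨(n * n : normalizer (U : Set G)), (n * n).2, ?_⟩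
  rw [show (f (f u)) = U.normalizerMonoidHom (n * n) u by rw [map_mul]; rfl] at e3
  exact (congrArg Subtype.val e3).symm

end Cfsg.Agent.Transfer
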