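-- Fusion in groups with dihedral Sylow 2-subgroups.
--
-- Main results (namespace `Cfsg.Agent.Transfer`):
-- * `Agrees S U`: every element of `N(U)` acts on `U` like an element of `S`
-- * `agrees_of_isPGroup_mulAut`, `klein_or_isPGroup_mulAut`, `hasNormalPComplement_of_agrees`
-- * `klein_fusion`, `focal_le_ker_of_klein`, `agrees_of_small`, `exists_index_two_iff`
-- * coordinates: `kleinOf e i`, `exists_kleinOf`, `kleinOf_conj`
import Cfsg.Agent.Lib.Transfer.Dihedral

set_option autoImplicit false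

namespace Cfsg.Agent.Transfer

open Subgroup
open scoped commutatorElement

variable {G : Type*} [Group G] [Finite G]

/-- Every element of the normalizer of `U` acts on `U` like some element of `S`. -/
def Agrees (S U : Subgroup G) : Prop :=
  ∀ n ∈ normalizer (U : Set G), ∃ u ∈ S, ∀ q ∈ U, u * q * u⁻¹ = n * q * n⁻¹

theorem agrees_of_coprime_centralize {p : ℕ} [Fact p.Prime] {S R : Subgroup G} (hR : IsFullyNormalized p S R)
    (h : ∀ n ∈ normalizer (R : Set G), Nat.Coprime (orderOf n) p → n ∈ centralizer (R : Set G)) :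
    Agrees S R := by
  intro n hn
  set N := normalizer (R : Set G)
  obtain ⟨k, hk, c, hc, hkc⟩ := mem_sup_of_normal_right.mp
    ((sup_pResidual_eq_top (H := (S ⊓ N).subgroupOf N) hR.2).symm ▸ mem_top (⟨n, hn⟩ : N))
  have hcC : (c : G) ∈ centralizer (R : Set G) := by
    have h1 : (pResidual p N).map N.subtype ≤ centralizer (R : Set G) := by
      rw [map_pResidual_subtype]
      exact (closure_le _).mpr fun x hx => h x hx.1 hx.2
    exact h1 ⟨c, hc, rfl⟩
  refine ⟨k, (mem_subgroupOf.mp hk).1, fun q hq => ?_⟩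
  have h2 : (q : G) * c = c * q := mem_centralizer_iff.mp hcC q hq
  have hn' : n = (k : G) * c := congrArg Subtype.val hkc.symm
  rw [hn', show (k : G) * c * q * ((k : G) * c)⁻¹ = k * (c * q * (c : G)⁻¹) * (k : G)⁻¹ by group, ← h2,
    mul_inv_cancel_right]

theorem agrees_of_isPGroup_mulAut {S R : Subgroup G} (hR : IsFullyNormalized 2 S R)
    (h : IsPGroup 2 (MulAut R)) : Agrees S R :=
  haveI := Fact.mk Nat.prime_two
  agrees_of_coprime_centralize hR fun _ hn hco => centralizes_of_isPGroup_mulAut h hn hco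

theorem Agrees.centralizes {S U : Subgroup G} (hS : IsPGroup 2 S) (h : Agrees S U) {y : G}
    (hy : y ∈ normalizer (U : Set G)) (hco : Nat.Coprime (orderOf y) 2) :
    y ∈ centralizer (U : Set G) := by
  have := Fact.mk Nat.prime_two
  obtain ⟨u, hu, he⟩ := h y hy
  have hnu : u⁻¹ * y ∈ centralizer (U : Set G) := by
    refine mem_centralizer_iff.mpr fun q hq => (mul_inv_eq_iff_eq_mul.mp ?_).symm
    rw [show u⁻¹ * y * q * (u⁻¹ * y)⁻¹ = u⁻¹ * (y * q * y⁻¹) * u by group, ← he q hq]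
    group
  have huN : u ∈ normalizer (U : Set G) := by
    have := mul_mem hy (inv_mem (centralizer_le_normalizer _ hnu))
    rwa [mul_inv_rev, inv_inv, mul_inv_cancel_left] at this
  have heq : U.normalizerMonoidHom ⟨y, hy⟩ = U.normalizerMonoidHom ⟨u, huN⟩ :=
    MulEquiv.ext fun q => Subtype.ext (he q q.2).symm
  refine conj_eq_of_hom_eq_one (y := ⟨y, hy⟩) (orderOf_eq_one_iff.mp ?_)
  have h1 : orderOf (U.normalizerMonoidHom ⟨y, hy⟩) ∣ orderOf y :=
    (orderOf_map_dvd _ _).trans (by rw [Subgroup.orderOf_mk])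
  obtain ⟨k, hk⟩ := IsPGroup.iff_orderOf.mp hS ⟨u, hu⟩
  rw [Subgroup.orderOf_mk] at hk
  have h2 : orderOf (U.normalizerMonoidHom ⟨y, hy⟩) ∣ 2 ^ k := by
    rw [heq, ← hk]
    exact (orderOf_map_dvd _ _).trans (by rw [Subgroup.orderOf_mk])
  exact Nat.eq_one_of_dvd_coprimes (hco.pow_right k) h1 h2

theorem isKleinFour_congr {A B : Type*} [Group A] [Group B] (e : A ≃* B) (h : IsKleinFour A) :
    IsKleinFour B :=
  ⟨by rw [← Nat.card_congr e.toEquiv]; exact h.card_four,
    by rw [← Monoid.exponent_eq_of_mulEquiv e]; exact h.exponent_two⟩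

theorem isKleinFour_map {A B : Type*} [Group A] [Group B] {f : A →* B} (hf : Function.Injective f)
    {U : Subgroup A} (h : IsKleinFour U) : IsKleinFour (U.map f) :=
  isKleinFour_congr (U.equivMapOfInjective f hf) h

theorem exists_two_pow_of_dihedral (S : Sylow 2 G) {m : ℕ} (hm : m ≠ 0)
    (e : (S : Subgroup G) ≃* DihedralGroup m) : ∃ a, m = 2 ^ a := by
  have := Fact.mk Nat.prime_two
  obtain ⟨b, hb⟩ := IsPGroup.iff_card.mp S.2
  rw [Nat.card_congr e.toEquiv, DihedralGroup.nat_card] at hb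
  obtain ⟨a, -, ha⟩ := (Nat.dvd_prime_pow Nat.prime_two).mp (Dvd.intro_left 2 hb)
  exact ⟨a, ha⟩

/-- Subgroups of a dihedral Sylow 2-subgroup. -/
theorem klein_or_isPGroup_mulAut (S : Sylow 2 G) {m : ℕ} (hm : m ≠ 0)
    (e : (S : Subgroup G) ≃* DihedralGroup m) {R : Subgroup G} (hR : R ≤ (S : Subgroup G)) :
    IsPGroup 2 (MulAut R) ∨ IsKleinFour R := by
  obtain ⟨a, ha⟩ := exists_two_pow_of_dihedral S hm e
  set i : R →* DihedralGroup m := e.toMonoidHom.comp (inclusion hR)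
  have e1 : R ≃* i.range := MonoidHom.ofInjective (e.injective.comp (inclusion_injective hR))
  rcases dihedral_subgroup_cases ha i.range with h | h
  · exact Or.inl (isPGroup_mulAut_of_equiv e1 h)
  · exact Or.inr (isKleinFour_congr e1.symm h)

theorem hasNormalPComplement_of_agrees (S : Sylow 2 G) {m : ℕ} (hm : m ≠ 0)
    (e : (S : Subgroup G) ≃* DihedralGroup m)
    (h : ∀ U : Subgroup G, U ≤ (S : Subgroup G) → IsKleinFour U → Agrees (S : Subgroup G) U) :
    HasNormalPComplement 2 G := by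
  have := Fact.mk Nat.prime_two
  refine hasNormalPComplement_of_local S fun R hR _ n hn hco => ?_
  rcases klein_or_isPGroup_mulAut S hm e hR.1 with h1 | h1
  · exact centralizes_of_isPGroup_mulAut h1 hn hco
  · exact (h R hR.1 h1).centralizes S.2 hn hco

/-- Klein four subgroups of `S` conjugate in `G` are conjugate in `S`. -/
theorem klein_fusion (S : Sylow 2 G) {m : ℕ} (hm : m ≠ 0) (e : (S : Subgroup G) ≃* DihedralGroup m)
    {U : Subgroup G} (hU : IsKleinFour U) (hUS : U ≤ (S : Subgroup G)) {g : G}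
    (hg : U.map (MulAut.conj g).toMonoidHom ≤ (S : Subgroup G)) :
    ∃ u ∈ (S : Subgroup G), U.map (MulAut.conj g).toMonoidHom = U.map (MulAut.conj u).toMonoidHom := by
  have := Fact.mk Nat.prime_two
  refine fusion_induction S (fun Q g => IsKleinFour Q → ∃ u ∈ (S : Subgroup G),
    Q.map (MulAut.conj g).toMonoidHom = Q.map (MulAut.conj u).toMonoidHom) ?_ ?_ hUS hg hU
  · intro Q R hQR hR n hn hQ
    rcases klein_or_isPGroup_mulAut S hm e hR.1 with h1 | h1
    · obtain ⟨u, hu, he⟩ := agrees_of_isPGroup_mulAut hR h1 n hn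
      refine ⟨u, hu, ?_⟩
      ext x
      constructor
      · rintro ⟨q, hq, rfl⟩; exact ⟨q, hq, he q (hQR hq)⟩
      · rintro ⟨q, hq, rfl⟩; exact ⟨q, hq, (he q (hQR hq)).symm⟩
    · have hQR' : Q = R := eq_of_le_of_card_ge hQR (by rw [hQ.card_four, h1.card_four])
      refine ⟨1, one_mem _, ?_⟩
      rw [map_conj_one, hQR', map_conj_eq_iff_mem_normalizer.mpr hn]
  · intro Q a b h1 h2 hQ
    obtain ⟨u, hu, he⟩ := h1 hQ
    obtain ⟨v, hv, he2⟩ := h2 (isKleinFour_map (MulAut.conj a).injective hQ)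
    refine ⟨v * u, mul_mem hv hu, ?_⟩
    rw [← map_conj_map_conj, he2, he, map_conj_map_conj]

/-- If every Klein four subgroup of `S` either has automizer from `S` or lies in the kernel of `χ`,
then `χ` kills `G' ∩ S`. -/
theorem focal_le_ker_of_klein (S : Sylow 2 G) {m : ℕ} (hm : m ≠ 0)
    (e : (S : Subgroup G) ≃* DihedralGroup m) {A : Type*} [CommGroup A] (χ : (S : Subgroup G) →* A)
    (h : ∀ U : Subgroup G, U ≤ (S : Subgroup G) → IsKleinFour U →
      Agrees (S : Subgroup G) U ∨ U.subgroupOf (S : Subgroup G) ≤ χ.ker)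
    {x : G} (hxS : x ∈ (S : Subgroup G)) (hxG : x ∈ commutator G) : χ ⟨x, hxS⟩ = 1 := by
  have := Fact.mk Nat.prime_two
  have key : ∀ (q g : G) (hq : q ∈ (S : Subgroup G)) (hgq : g * q * g⁻¹ ∈ (S : Subgroup G)),
      χ ⟨g * q * g⁻¹, hgq⟩ = χ ⟨q, hq⟩ := by
    intro q g hq hgq
    refine (fusion_induction S (fun Q g => Q.map (MulAut.conj g).toMonoidHom ≤ (S : Subgroup G) ∧
      ∀ (q : G) (hq : q ∈ (S : Subgroup G)) (hgq : g * q * g⁻¹ ∈ (S : Subgroup G)), q ∈ Q →
        χ ⟨g * q * g⁻¹, hgq⟩ = χ ⟨q, hq⟩) ?_ ?_ (Q := zpowers q) (g := g) (zpowers_le.mpr hq)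
      (by rw [MonoidHom.map_zpowers]; exact zpowers_le.mpr hgq)).2 q hq hgq (mem_zpowers q)
    · intro Q R hQR hR n hn
      refine ⟨(map_mono hQR).trans ((map_conj_eq_iff_mem_normalizer.mpr hn).le.trans hR.1),
        fun q hq hnq hqQ => ?_⟩
      have conj_case : ∀ u ∈ (S : Subgroup G), u * q * u⁻¹ = n * q * n⁻¹ →
          χ ⟨n * q * n⁻¹, hnq⟩ = χ ⟨q, hq⟩ := by
        intro u hu he
        have h1 : (⟨n * q * n⁻¹, hnq⟩ : (S : Subgroup G)) = ⟨u, hu⟩ * ⟨q, hq⟩ * ⟨u, hu⟩⁻¹ :=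
          Subtype.ext he.symm
        rw [h1, map_mul, map_mul, map_inv, mul_comm (χ ⟨u, hu⟩), mul_inv_cancel_right]
      rcases klein_or_isPGroup_mulAut S hm e hR.1 with h1 | h1
      · obtain ⟨u, hu, he⟩ := agrees_of_isPGroup_mulAut hR h1 n hn
        exact conj_case u hu (he q (hQR hqQ))
      · rcases h R hR.1 h1 with h2 | h2
        · obtain ⟨u, hu, he⟩ := h2 n hn
          exact conj_case u hu (he q (hQR hqQ))
        · have e1 : χ ⟨q, hq⟩ = 1 := h2 (mem_subgroupOf.mpr (hQR hqQ))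
          have e2 : χ ⟨n * q * n⁻¹, hnq⟩ = 1 :=
            h2 (mem_subgroupOf.mpr ((mem_normalizer_iff.mp hn q).mp (hQR hqQ)))
          rw [e1, e2]
    · rintro Q a b ⟨ha, h1⟩ ⟨hb, h2⟩
      refine ⟨by rw [← map_conj_map_conj]; exact hb, fun q hq hbq hqQ => ?_⟩
      have hm1 : a * q * a⁻¹ ∈ Q.map (MulAut.conj a).toMonoidHom := ⟨q, hqQ, rfl⟩
      have hb1 : b * (a * q * a⁻¹) * b⁻¹ ∈ (S : Subgroup G) := hb ⟨_, hm1, rfl⟩
      rw [← h1 q hq (ha hm1) hqQ, ← h2 _ (ha hm1) hb1 hm1]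
      exact congrArg χ (Subtype.ext (by group))
  have hfoc : x ∈ (S : Subgroup G).focalSubgroup := by
    rw [focalSubgroup_eq_of_coprime _ (coprime_index_relIndex_sylow S)]
    exact ⟨hxG, hxS⟩
  have hle : (S : Subgroup G).focalSubgroup ≤ χ.ker.map (S : Subgroup G).subtype := by
    rw [Subgroup.focalSubgroup_def, closure_le]
    rintro _ ⟨hgH, w, hw, u, rfl⟩
    have hu : u * w⁻¹ * u⁻¹ ∈ (S : Subgroup G) := by
      have := (S : Subgroup G).mul_mem ((S : Subgroup G).inv_mem hw) hgH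
      simpa [commutatorElement_def, mul_assoc] using this
    refine ⟨⟨_, hgH⟩, ?_, rfl⟩
    have h1 : (⟨⁅w, u⁆, hgH⟩ : (S : Subgroup G)) = ⟨w, hw⟩ * ⟨u * w⁻¹ * u⁻¹, hu⟩ :=
      Subtype.ext (by simp [commutatorElement_def, mul_assoc])
    change χ _ = 1
    rw [h1, map_mul, key w⁻¹ u ((S : Subgroup G).inv_mem hw) hu, ← map_mul]
    convert map_one χ
    exact Subtype.ext (mul_inv_cancel w)
  obtain ⟨w, hw, hwx⟩ := hle hfoc
  rw [show (⟨x, hxS⟩ : (S : Subgroup G)) = w from Subtype.ext hwx.symm]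
  exact hw

theorem exists_index_two_iff : (∃ H : Subgroup G, H.index = 2) ↔ pResidual 2 G ≠ ⊤ := by
  have := Fact.mk Nat.prime_two
  constructor
  · rintro ⟨H, hH⟩ htop
    have : H.Normal := normal_of_index_eq_two hH
    have h1 := pResidual_le_of_index (p := 2) (N := H) (k := 1) (by rw [hH, pow_one])
    rw [htop, top_le_iff] at h1
    rw [h1, index_top] at hH
    norm_num at hH
  · intro hne
    obtain ⟨k, hk⟩ := exists_index_pResidual (G := G) (p := 2)
    obtain ⟨j, rfl⟩ : ∃ j, k = j + 1 := ⟨k - 1, by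
      rcases Nat.eq_zero_or_pos k with h | h
      · exact absurd (index_eq_one.mp (by rw [hk, h, pow_zero])) hne
      · omega⟩
    obtain ⟨K, hK⟩ := Sylow.exists_subgroup_card_pow_prime (G := G ⧸ pResidual 2 G) 2 (n := j)
      (by rw [← index_eq_card, hk]; exact pow_dvd_pow 2 (by omega))
    refine ⟨K.comap (QuotientGroup.mk' _), ?_⟩
    rw [index_comap_of_surjective _ (QuotientGroup.mk'_surjective _)]
    have h1 := K.card_mul_index
    rw [hK, ← index_eq_card, hk, pow_succ] at h1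
    exact Nat.eq_of_mul_eq_mul_left (by positivity) h1

theorem agrees_map_conj {S U : Subgroup G} (h : Agrees S U) {s : G} (hs : s ∈ S) :
    Agrees S (U.map (MulAut.conj s).toMonoidHom) := by
  intro n hn
  have hn' : s⁻¹ * n * s ∈ normalizer (U : Set G) := by
    rw [← map_conj_normalizer] at hn
    exact mem_map_conj_iff.mp hn
  obtain ⟨u, hu, he⟩ := h _ hn'
  refine ⟨s * u * s⁻¹, mul_mem (mul_mem hs hu) (inv_mem hs), ?_⟩
  rintro _ ⟨q, hq, rfl⟩
  change s * u * s⁻¹ * (s * q * s⁻¹) * (s * u * s⁻¹)⁻¹ = n * (s * q * s⁻¹) * n⁻¹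
  calc _ = s * (u * q * u⁻¹) * s⁻¹ := by group
    _ = _ := by rw [he q hq]; group

/-- If the automizer has order two and an element of `S` induces a nontrivial automorphism, then it agrees. -/
theorem agrees_of_small {S U : Subgroup G}
    (h2 : (centralizer (U : Set G)).relIndex (normalizer (U : Set G)) = 2) {u x : G} (hu : u ∈ S)
    (huN : u ∈ normalizer (U : Set G)) (hx : x ∈ U) (hux : u * x * u⁻¹ ≠ x) : Agrees S U := by
  have := Fact.mk Nat.prime_two
  intro n hn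
  set φ := U.normalizerMonoidHom
  set A := φ.range
  have hA : Nat.card A = 2 := (card_automizer U).trans h2
  have hne : φ.rangeRestrict ⟨u, huN⟩ ≠ 1 := fun h => by
    have h1 : φ ⟨u, huN⟩ = 1 := congrArg Subtype.val h
    exact hux (congrArg Subtype.val (DFunLike.congr_fun h1 ⟨x, hx⟩) :)
  obtain ⟨k, hk⟩ := mem_zpowers_of_prime_card (g' := φ.rangeRestrict ⟨n, hn⟩) hA hne
  refine ⟨u ^ k, S.zpow_mem hu k, fun q hq => ?_⟩
  have h1 : φ (⟨u, huN⟩ ^ k) = φ ⟨n, hn⟩ := by
    rw [map_zpow]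
    exact congrArg Subtype.val hk
  exact (congrArg Subtype.val (DFunLike.congr_fun h1 ⟨q, hq⟩) :)

theorem zmod_two_cases : ∀ v w : ZMod 2, v = w ∨ v = w + 1 := by decide

theorem ofAdd_one_ne : Multiplicative.ofAdd (1 : ZMod 2) ≠ 1 := by decide

/-! ### Coordinates -/

section Coordinates

variable {a : ℕ} {S : Subgroup G} (e : S ≃* DihedralGroup (2 ^ (a + 2)))

/-- The Klein four subgroup of `S` with coordinate `i`. -/
def kleinOf (i : ZMod (2 ^ (a + 2))) : Subgroup G :=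
  ((dihedralKlein a i).map e.symm.toMonoidHom).map S.subtype

omit [Finite G] in
theorem kleinOf_le (i : ZMod (2 ^ (a + 2))) : kleinOf e i ≤ S := map_subtype_le _

omit [Finite G] in
theorem kleinOf_isKleinFour (i : ZMod (2 ^ (a + 2))) : IsKleinFour (kleinOf e i) :=
  isKleinFour_map S.subtype_injective (isKleinFour_map e.symm.injective (dihedralKlein_isKleinFour a i))

omit [Finite G] in
theorem mem_kleinOf {i : ZMod (2 ^ (a + 2))} {x : G} (hx : x ∈ S) :
    x ∈ kleinOf e i ↔ e ⟨x, hx⟩ ∈ dihedralKlein a i := by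
  constructor
  · rintro ⟨_, ⟨d, hd, rfl⟩, he⟩
    rwa [show (⟨x, hx⟩ : S) = e.symm d from Subtype.ext he.symm, e.apply_symm_apply]
  · exact fun h => ⟨_, ⟨_, h, rfl⟩, congrArg Subtype.val (e.symm_apply_apply ⟨x, hx⟩)⟩

omit [Finite G] in
theorem exists_kleinOf {U : Subgroup G} (hU : IsKleinFour U) (hUS : U ≤ S) : ∃ i, U = kleinOf e i := by
  obtain ⟨i, hi⟩ := dihedral_klein_shape a ((U.subgroupOf S).map e.toMonoidHom)
    (isKleinFour_map e.injective (isKleinFour_congr (subgroupOfEquivOfLe hUS).symm hU))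
  refine ⟨i, le_antisymm (fun x hx => ?_) fun x hx => ?_⟩
  · rw [mem_kleinOf e (hUS hx), ← hi]
    exact ⟨⟨x, hUS hx⟩, hx, rfl⟩
  · have h := (mem_kleinOf e (kleinOf_le e i hx)).mp hx
    rw [← hi] at h
    obtain ⟨y, hy, he⟩ := h
    have he' : (y : G) = x := congrArg Subtype.val (e.injective he)
    rw [← he']
    exact hy

omit [Finite G] in
theorem kleinOf_conj {i j : ZMod (2 ^ (a + 2))} (h : idxParity a i = idxParity a j) :
    ∃ s ∈ S, (kleinOf e i).map (MulAut.conj s).toMonoidHom = kleinOf e j := by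
  obtain ⟨d, hd⟩ := dihedral_klein_conj a h
  refine ⟨e.symm d, (e.symm d).2, le_antisymm ?_ ?_⟩
  · rintro _ ⟨_, ⟨_, ⟨x, hx, rfl⟩, rfl⟩, rfl⟩
    refine ⟨e.symm (d * x * d⁻¹), ⟨_, hd.le ⟨x, hx, rfl⟩, rfl⟩, ?_⟩
    simp only [map_mul, map_inv]
    rfl
  · rintro _ ⟨_, ⟨y, hy, rfl⟩, rfl⟩
    obtain ⟨x, hx, rfl⟩ := hd.ge hy
    refine ⟨_, ⟨_, ⟨x, hx, rfl⟩, rfl⟩, ?_⟩
    change _ = ((e.symm (d * x * d⁻¹) : S) : G)
    simp only [map_mul, map_inv]
    rfl

end Coordinates

end Cfsg.Agent.Transfer
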