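-- Invariants of fusion in a Sylow subgroup, and class counting.
--
-- Main results (namespace `Cfsg.Agent.Transfer`):
-- * `conj_eq_self_of_coprime`, `centralizes_of_relIndex`, `exists_odd_of_dvd_relIndex`
-- * `fusion_invariant`: a character of `S` killing each non-agreeing local subgroup is invariant in `G`
-- * `commutator_le_ker_of_invariant`, `indexTwoHom`
-- * `exists_conj_mem_sylow`, `card_classes_eq_one`, `card_classes_eq_two`
import Cfsg.Agent.Lib.Transfer.DihedralFusion

set_option autoImplicit false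

namespace Cfsg.Agent.Transfer

open Subgroup
open scoped commutatorElement

variable {G : Type*} [Group G] [Finite G]

omit [Finite G] in
/-- An element of odd order moving `x` to `x * c` with `c` a fixed 2-element fixes `x`. -/
theorem conj_eq_self_of_coprime {y x c : G} {k : ℕ} (hco : Nat.Coprime (orderOf y) 2) (hc : c ^ 2 ^ k = 1)
    (hyc : y * c * y⁻¹ = c) (hyx : y * x * y⁻¹ = x * c) : y * x * y⁻¹ = x := by
  have h : ∀ m : ℕ, y ^ m * x * (y ^ m)⁻¹ = x * c ^ m := by
    intro m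
    induction m with
    | zero => simp
    | succ m ih =>
      rw [pow_succ' y, show y * y ^ m * x * (y * y ^ m)⁻¹ = y * (y ^ m * x * (y ^ m)⁻¹) * y⁻¹ by group, ih,
        show y * (x * c ^ m) * y⁻¹ = (y * x * y⁻¹) * (y * c ^ m * y⁻¹) by group, hyx, ← conj_pow, hyc,
        mul_assoc, ← pow_succ']
  have h1 : c ^ orderOf y = 1 := by simpa [pow_orderOf_eq_one] using (h (orderOf y)).symm
  have h2 : orderOf c = 1 :=
    Nat.eq_one_of_dvd_coprimes (hco.pow_right k) (orderOf_dvd_of_pow_eq_one h1) (orderOf_dvd_of_pow_eq_one hc)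
  rw [hyx, orderOf_eq_one_iff.mp h2, mul_one]

/-- If `R C(R)` has `p`-power index in `N(R)` then elements of order prime to `p` in `N(R)` centralize `R`. -/
theorem centralizes_of_relIndex {p : ℕ} [Fact p.Prime] {R : Subgroup G} (hR : IsPGroup p R) {k : ℕ}
    (h : (R ⊔ centralizer (R : Set G)).relIndex (normalizer (R : Set G)) = p ^ k) {y : G}
    (hy : y ∈ normalizer (R : Set G)) (hco : Nat.Coprime (orderOf y) p) : y ∈ centralizer (R : Set G) := by
  set N := normalizer (R : Set G)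
  set f := R.normalizerMonoidHom.rangeRestrict
  set C := (centralizer (R : Set G)).subgroupOf N
  set K := (R ⊔ centralizer (R : Set G)).subgroupOf N
  have hker : f.ker = C := by rw [MonoidHom.ker_rangeRestrict, normalizerMonoidHom_ker]
  have hmap : K.map f = (R.subgroupOf N).map f := by
    change ((R ⊔ centralizer (R : Set G)).subgroupOf N).map f = _
    rw [subgroupOf_sup le_normalizer (centralizer_le_normalizer _), Subgroup.map_sup, sup_eq_left,
      show ((centralizer (R : Set G)).subgroupOf N).map f = ⊥ from (map_eq_bot_iff C).mpr hker.ge]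
    exact bot_le
  have hidx : (K.map f).index = p ^ k := by
    refine (index_map_eq (H := K) (f := f) R.normalizerMonoidHom.rangeRestrict_surjective ?_).trans h
    exact hker.le.trans (comap_mono le_sup_right)
  have hK : IsPGroup p (K.map f) :=
    hmap ▸ (hR.of_equiv (subgroupOfEquivOfLe (le_normalizer (H := R))).symm).map f
  obtain ⟨j, hj⟩ := IsPGroup.iff_card.mp hK
  have hA : IsPGroup p R.normalizerMonoidHom.range :=
    IsPGroup.of_card (n := j + k) (by rw [pow_add, ← hj, ← hidx, card_mul_index])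
  refine conj_eq_of_hom_eq_one (y := ⟨y, hy⟩) ?_
  have h1 : f ⟨y, hy⟩ = 1 := map_eq_one_of_coprime hA f (by rwa [Subgroup.orderOf_mk])
  exact congrArg Subtype.val h1

/-- If a prime other than `p` divides the index of `R C(R)` in `N(R)` then some element of order prime to
`p` normalizes and does not centralize `R`. -/
theorem exists_odd_of_dvd_relIndex {p q : ℕ} [Fact p.Prime] {R : Subgroup G} (hq : q.Prime) (hpq : q ≠ p)
    (h : q ∣ (R ⊔ centralizer (R : Set G)).relIndex (normalizer (R : Set G))) :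
    ∃ y ∈ normalizer (R : Set G), Nat.Coprime (orderOf y) p ∧ y ∉ centralizer (R : Set G) := by
  by_contra hne
  simp only [not_exists, not_and, not_not] at hne
  set N := normalizer (R : Set G)
  have h1 : pResidual p N ≤ (R ⊔ centralizer (R : Set G)).subgroupOf N := by
    refine map_le_iff_le_comap.mp ?_
    rw [map_pResidual_subtype]
    exact (closure_le _).mpr fun x hx => mem_sup_right (hne x hx.1 hx.2)
  obtain ⟨k, hk⟩ := exists_index_pResidual (G := N) (p := p)
  have h2 : q ∣ p ^ k := h.trans (hk ▸ index_dvd_of_le h1)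
  exact hpq ((Nat.prime_dvd_prime_iff_eq hq Fact.out).mp (hq.dvd_of_dvd_pow h2))

/-- A character of `S` which is trivial on every fully normalized subgroup whose automizer does not come
from `S` is invariant under conjugation in `G`. -/
theorem fusion_invariant {p : ℕ} [Fact p.Prime] (S : Sylow p G) {A : Type*} [CommGroup A]
    (χ : (S : Subgroup G) →* A)
    (h : ∀ R : Subgroup G, IsFullyNormalized p (S : Subgroup G) R →
      Agrees (S : Subgroup G) R ∨ R.subgroupOf (S : Subgroup G) ≤ χ.ker)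
    (q g : G) (hq : q ∈ (S : Subgroup G)) (hgq : g * q * g⁻¹ ∈ (S : Subgroup G)) :
    χ ⟨g * q * g⁻¹, hgq⟩ = χ ⟨q, hq⟩ := by
  refine (fusion_induction S (fun Q g => Q.map (MulAut.conj g).toMonoidHom ≤ (S : Subgroup G) ∧
    ∀ (q : G) (hq : q ∈ (S : Subgroup G)) (hgq : g * q * g⁻¹ ∈ (S : Subgroup G)), q ∈ Q →
      χ ⟨g * q * g⁻¹, hgq⟩ = χ ⟨q, hq⟩) ?_ ?_ (Q := zpowers q) (g := g) (zpowers_le.mpr hq)
    (by rw [MonoidHom.map_zpowers]; exact zpowers_le.mpr hgq)).2 q hq hgq (mem_zpowers q)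
  · intro Q R hQR hR n hn
    refine ⟨(map_mono hQR).trans ((map_conj_eq_iff_mem_normalizer.mpr hn).le.trans hR.1),
      fun q hq hnq hqQ => ?_⟩
    rcases h R hR with h1 | h1
    · obtain ⟨u, hu, he⟩ := h1 n hn
      rw [show (⟨n * q * n⁻¹, hnq⟩ : (S : Subgroup G)) = ⟨u, hu⟩ * ⟨q, hq⟩ * ⟨u, hu⟩⁻¹ from
        Subtype.ext (he q (hQR hqQ)).symm, map_mul, map_mul, map_inv, mul_comm (χ ⟨u, hu⟩),
        mul_inv_cancel_right]
    · have e1 : χ ⟨q, hq⟩ = 1 := h1 (mem_subgroupOf.mpr (hQR hqQ))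
      have e2 : χ ⟨n * q * n⁻¹, hnq⟩ = 1 :=
        h1 (mem_subgroupOf.mpr ((mem_normalizer_iff.mp hn q).mp (hQR hqQ)))
      rw [e1, e2]
  · rintro Q a b ⟨ha, h1⟩ ⟨hb, h2⟩
    refine ⟨by rw [← map_conj_map_conj]; exact hb, fun q hq hbq hqQ => ?_⟩
    have hm1 : a * q * a⁻¹ ∈ Q.map (MulAut.conj a).toMonoidHom := ⟨q, hqQ, rfl⟩
    have hb1 : b * (a * q * a⁻¹) * b⁻¹ ∈ (S : Subgroup G) := hb ⟨_, hm1, rfl⟩
    rw [← h1 q hq (ha hm1) hqQ, ← h2 _ (ha hm1) hb1 hm1]
    exact congrArg χ (Subtype.ext (by group))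

/-- A fusion invariant character of `S` kills `G' ∩ S`. -/
theorem commutator_le_ker_of_invariant {p : ℕ} [Fact p.Prime] (S : Sylow p G) {A : Type*} [CommGroup A]
    (χ : (S : Subgroup G) →* A)
    (key : ∀ (q g : G) (hq : q ∈ (S : Subgroup G)) (hgq : g * q * g⁻¹ ∈ (S : Subgroup G)),
      χ ⟨g * q * g⁻¹, hgq⟩ = χ ⟨q, hq⟩) :
    (commutator G).subgroupOf (S : Subgroup G) ≤ χ.ker := by
  rintro ⟨x, hxS⟩ hxG
  have hfoc : x ∈ (S : Subgroup G).focalSubgroup := by
    rw [focalSubgroup_eq_of_coprime _ (coprime_index_relIndex_sylow S)]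
    exact ⟨hxG, hxS⟩
  have hle : (S : Subgroup G).focalSubgroup ≤ χ.ker.map (S : Subgroup G).subtype := by
    rw [Subgroup.focalSubgroup_def, closure_le]
    rintro _ ⟨hgH, w, hw, u, rfl⟩
    have hu : u * w⁻¹ * u⁻¹ ∈ (S : Subgroup G) := by
      have := (S : Subgroup G).mul_mem ((S : Subgroup G).inv_mem hw) hgH
      simpa [commutatorElement_def, mul_assoc] using this
    refine ⟨⟨_, hgH⟩, ?_, rfl⟩
    have h1 : (⟨⁅w, u⁆, hgH⟩ : (S : Subgroup G)) = ⟨w, hw⟩ * ⟨u * w⁻¹ * u⁻¹, hu⟩ :=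
      Subtype.ext (by simp [commutatorElement_def, mul_assoc])
    change χ _ = 1
    rw [h1, map_mul, key w⁻¹ u ((S : Subgroup G).inv_mem hw) hu, ← map_mul]
    convert map_one χ
    exact Subtype.ext (mul_inv_cancel w)
  obtain ⟨w, hw, hwx⟩ := hle hfoc
  rwa [show (⟨x, hxS⟩ : (S : Subgroup G)) = w from Subtype.ext hwx.symm]

open Classical in
/-- The character with kernel a given subgroup of index two. -/
noncomputable def indexTwoHom {S : Type*} [Group S] (M : Subgroup S) (h : M.index = 2) :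
    S →* Multiplicative (ZMod 2) where
  toFun x := if x ∈ M then 1 else Multiplicative.ofAdd 1
  map_one' := if_pos M.one_mem
  map_mul' x y := by
    have := mul_mem_iff_of_index_two h (a := x) (b := y)
    by_cases hx : x ∈ M <;> by_cases hy : y ∈ M <;> simp_all <;> decide

theorem indexTwoHom_ker {S : Type*} [Group S] (M : Subgroup S) (h : M.index = 2) :
    (indexTwoHom M h).ker = M := by
  classical
  ext x
  by_cases hx : x ∈ M <;> simp [MonoidHom.mem_ker, indexTwoHom, hx, ofAdd_one_ne]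

/-- A `p`-element is conjugate into a given Sylow subgroup. -/
theorem exists_conj_mem_sylow {p : ℕ} [Fact p.Prime] (S : Sylow p G) {t : G} {k : ℕ}
    (ht : orderOf t = p ^ k) : ∃ g : G, g * t * g⁻¹ ∈ (S : Subgroup G) := by
  obtain ⟨g, -, hg⟩ := exists_conj_le_of_not_dvd_relIndex (H := (⊤ : Subgroup G)) (Q := zpowers t) le_top S.2
    (by rw [relIndex_top_right]; exact S.not_dvd_index) le_top
    (IsPGroup.of_card (n := k) (by rw [Nat.card_zpowers, ht]))
  exact ⟨g, hg ⟨t, mem_zpowers t, rfl⟩⟩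

omit [Finite G] in
theorem card_classes_eq_one {k : ℕ} {x : G} (hx : orderOf x = k) (h : ∀ t, orderOf t = k → IsConj t x) :
    Nat.card {C : ConjClasses G // ∃ t : G, orderOf t = k ∧ ConjClasses.mk t = C} = 1 := by
  rw [← Set.coe_setOf, Nat.card_coe_set_eq, Set.ncard_eq_one]
  refine ⟨ConjClasses.mk x, Set.ext fun C => ⟨?_, ?_⟩⟩
  · rintro ⟨t, ht, rfl⟩
    exact ConjClasses.mk_eq_mk_iff_isConj.mpr (h t ht)
  · rintro rfl
    exact ⟨x, hx, rfl⟩

omit [Finite G] in
theorem card_classes_eq_two {k : ℕ} {x y : G} (hx : orderOf x = k) (hy : orderOf y = k) (hne : ¬ IsConj x y)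
    (h : ∀ t, orderOf t = k → IsConj t x ∨ IsConj t y) :
    Nat.card {C : ConjClasses G // ∃ t : G, orderOf t = k ∧ ConjClasses.mk t = C} = 2 := by
  rw [← Set.coe_setOf, Nat.card_coe_set_eq, Set.ncard_eq_two]
  refine ⟨ConjClasses.mk x, ConjClasses.mk y, fun e => hne (ConjClasses.mk_eq_mk_iff_isConj.mp e),
    Set.ext fun C => ⟨?_, ?_⟩⟩
  · rintro ⟨t, ht, rfl⟩
    rcases h t ht with h1 | h1
    · exact Or.inl (ConjClasses.mk_eq_mk_iff_isConj.mpr h1)
    · exact Or.inr (ConjClasses.mk_eq_mk_iff_isConj.mpr h1)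
  · rintro (rfl | rfl)
    · exact ⟨x, hx, rfl⟩
    · exact ⟨y, hy, rfl⟩

end Cfsg.Agent.Transfer
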