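-- Fusion controlled by centric subgroups.
--
-- Main results (namespace `Cfsg.Agent.Transfer`):
-- * `IsCentricIn S R`: `R ≤ S` and `C_S(R) ≤ R`
-- * `exists_odd_centric`: an odd automorphism of a fully normalized `R` extends to `R C_S(R)`
-- * `fusion_invariant_fun`, `character_invariant`, `hasNormalPComplement_of_centric`
import Cfsg.Agent.Lib.Transfer.FusionInvariant

set_option autoImplicit false

namespace Cfsg.Agent.Transfer

open Subgroup

variable {G : Type*} [Group G] {p : ℕ}

/-- `R ≤ S` contains its centralizer in `S`. -/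
def IsCentricIn (S R : Subgroup G) : Prop :=
  R ≤ S ∧ S ⊓ centralizer (R : Set G) ≤ R

theorem not_dvd_relIndex_inf [Finite G] [Fact p.Prime] {P C : Subgroup G} [C.Normal]
    (hP : ¬ p ∣ P.index) : ¬ p ∣ P.relIndex C := by
  intro h
  have h1 : P.relIndex C * C.index = (P ⊓ C).index := by
    rw [← inf_relIndex_right, relIndex_mul_index inf_le_right]
  have h2 : (P ⊓ C).index = C.relIndex P * P.index := by
    rw [← inf_relIndex_left, relIndex_mul_index inf_le_left]
  obtain ⟨m, hm⟩ := relIndex_dvd_index_of_normal C P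
  refine hP (h.trans ⟨m, ?_⟩)
  refine Nat.eq_of_mul_eq_mul_left (Nat.pos_of_ne_zero (index_ne_zero_of_finite (H := C.subgroupOf P) : C.relIndex P ≠ 0)) ?_
  change C.relIndex P * P.index = C.relIndex P * (P.relIndex C * m)
  rw [← h2, ← h1, hm]
  ring

/-- An element of order prime to `p` normalizing a fully normalized subgroup `R` acts on it like such
an element normalizing `R C_S(R)`. -/
theorem exists_odd_centric [Finite G] [Fact p.Prime] (S : Sylow p G) {R : Subgroup G}
    (hR : IsFullyNormalized p (S : Subgroup G) R) {y : G} (hy : y ∈ normalizer (R : Set G))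
    (hco : Nat.Coprime (orderOf y) p) :
    IsCentricIn (S : Subgroup G) (R ⊔ (S : Subgroup G) ⊓ centralizer (R : Set G)) ∧
      ∃ y', y' ∈ normalizer ((R ⊔ (S : Subgroup G) ⊓ centralizer (R : Set G) : Subgroup G) : Set G) ∧
        Nat.Coprime (orderOf y') p ∧ ∀ q ∈ R, y' * q * y'⁻¹ = y * q * y⁻¹ := by
  refine ⟨⟨sup_le hR.1 inf_le_left, ?_⟩, ?_⟩
  · refine le_trans (inf_le_inf_left _ (centralizer_le ?_)) le_sup_right
    exact SetLike.coe_subset_coe.mpr le_sup_left
  set N := normalizer (R : Set G)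
  set D := (S : Subgroup G) ⊓ centralizer (R : Set G)
  set C := (centralizer (R : Set G)).subgroupOf N
  haveI : C.Normal := by
    rw [show C = R.normalizerMonoidHom.ker from (normalizerMonoidHom_ker R).symm]
    infer_instance
  set P : Subgroup N := ((S : Subgroup G) ⊓ N).subgroupOf N
  have hPp : IsPGroup p P := (S.2.to_le (inf_le_left : (S : Subgroup G) ⊓ N ≤ _)).comap_of_injective N.subtype N.subtype_injective
  have hQi : ¬ p ∣ (P.subgroupOf C).index := not_dvd_relIndex_inf (P := P) (C := C) hR.2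
  have hQp : IsPGroup p (P.subgroupOf C) := hPp.comap_of_injective C.subtype C.subtype_injective
  have hsup := Sylow.normalizer_sup_eq_top (hQp.toSylow hQi)
  obtain ⟨m, hm, c, hc, hmc⟩ := mem_sup_of_normal_right.mp (hsup ▸ mem_top (⟨y, hy⟩ : N))
  have hact : ∀ q ∈ R, (m : G) * q * (m : G)⁻¹ = y * q * y⁻¹ := by
    intro q hq
    have h2 : q * (c : G) = c * q := mem_centralizer_iff.mp (mem_subgroupOf.mp hc) q hq
    rw [show y = (m : G) * c from (congrArg Subtype.val hmc).symm,
      show (m : G) * c * q * ((m : G) * c)⁻¹ = m * (c * q * (c : G)⁻¹) * (m : G)⁻¹ by group, ← h2,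
      mul_inv_cancel_right]
  have hmap : (P.subgroupOf C).map C.subtype = D.subgroupOf N := by
    rw [subgroupOf_map_subtype]
    ext x
    simp only [P, C, D, mem_inf, mem_subgroupOf]
    exact ⟨fun h => ⟨h.1.1, h.2⟩, fun h => ⟨⟨h.1, x.2⟩, h.2⟩⟩
  have hmD : (m : G) ∈ normalizer (D : Set G) := by
    rw [IsPGroup.toSylow_coe, hmap] at hm
    refine mem_normalizer_iff.mpr fun x => ?_
    constructor
    · intro hx
      have hxN : x ∈ N := centralizer_le_normalizer _ hx.2
      exact mem_subgroupOf.mp ((mem_normalizer_iff.mp hm ⟨x, hxN⟩).mp (mem_subgroupOf.mpr hx))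
    · intro hx
      have hxN : x ∈ N := by
        have := mul_mem (mul_mem (inv_mem m.2) (centralizer_le_normalizer _ hx.2)) m.2
        rwa [show (m : G)⁻¹ * (m * x * (m : G)⁻¹) * m = x by group] at this
      exact mem_subgroupOf.mp ((mem_normalizer_iff.mp hm ⟨x, hxN⟩).mpr (mem_subgroupOf.mpr hx))
  obtain ⟨a, b, hab, ha, hb, ⟨k, hk⟩, hbco⟩ := exists_pPart_mul (p := p) m
  have hbN' : (b : G) ∈ normalizer ((R ⊔ D : Subgroup G) : Set G) := by
    obtain ⟨i, hi⟩ := hb
    rw [← hi, SubgroupClass.coe_zpow]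
    refine zpow_mem (map_conj_eq_iff_mem_normalizer.mp ?_) i
    rw [Subgroup.map_sup, map_conj_eq_iff_mem_normalizer.mpr m.2, map_conj_eq_iff_mem_normalizer.mpr hmD]
  refine ⟨b, hbN', by rwa [Subgroup.orderOf_coe], fun q hq => ?_⟩
  set f := R.normalizerMonoidHom
  have hfm : f m = f ⟨y, hy⟩ := MulEquiv.ext fun r => Subtype.ext (hact r r.2)
  have hfa : f a = 1 := by
    refine orderOf_eq_one_iff.mp (Nat.eq_one_of_dvd_coprimes (hco.pow_right k) ?_
      ((orderOf_map_dvd f a).trans (hk ▸ dvd_rfl)))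
    obtain ⟨i, hi⟩ := ha
    have hmem : f a ∈ zpowers (f ⟨y, hy⟩) := ⟨i, by rw [← hfm, ← hi]; exact (map_zpow f m i).symm⟩
    exact (orderOf_dvd_of_mem_zpowers hmem).trans ((orderOf_map_dvd f _).trans (Subgroup.orderOf_mk y hy).dvd)
  have hfb : f b = f ⟨y, hy⟩ := by rw [← hfm, hab, map_mul, hfa, one_mul]
  exact congrArg Subtype.val (DFunLike.congr_fun hfb ⟨q, hq⟩)

/-- A function on `G` invariant under conjugation inside `S` and under elements of order prime to `p`
normalizing centric subgroups of `S` is invariant under all fusion in `S`. -/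
theorem fusion_invariant_fun [Finite G] [Fact p.Prime] (S : Sylow p G) {α : Type*} (f : G → α)
    (hS : ∀ u ∈ (S : Subgroup G), ∀ q ∈ (S : Subgroup G), f (u * q * u⁻¹) = f q)
    (hodd : ∀ R, IsCentricIn (S : Subgroup G) R → ∀ y ∈ normalizer (R : Set G), Nat.Coprime (orderOf y) p →
      ∀ q ∈ R, f (y * q * y⁻¹) = f q)
    {q g : G} (hq : q ∈ (S : Subgroup G)) (hgq : g * q * g⁻¹ ∈ (S : Subgroup G)) :
    f (g * q * g⁻¹) = f q := by
  refine (fusion_induction S (fun Q g => Q.map (MulAut.conj g).toMonoidHom ≤ (S : Subgroup G) ∧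
    ∀ q ∈ Q, f (g * q * g⁻¹) = f q) ?_ ?_ (Q := zpowers q) (g := g) (zpowers_le.mpr hq)
    (by rw [MonoidHom.map_zpowers]; exact zpowers_le.mpr hgq)).2 q (mem_zpowers q)
  · intro Q R hQR hR n hn
    refine ⟨(map_mono hQR).trans ((map_conj_eq_iff_mem_normalizer.mpr hn).le.trans hR.1), fun q hq => ?_⟩
    set N := normalizer (R : Set G)
    obtain ⟨k, hk, c, hc, hkc⟩ := mem_sup_of_normal_right.mp
      ((sup_pResidual_eq_top (H := ((S : Subgroup G) ⊓ N).subgroupOf N) hR.2).symm ▸ mem_top (⟨n, hn⟩ : N))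
    have hcl : (c : G) ∈ closure {x : G | x ∈ N ∧ Nat.Coprime (orderOf x) p} := by
      rw [← map_pResidual_subtype]
      exact ⟨c, hc, rfl⟩
    have key : ∀ c ∈ closure {x : G | x ∈ N ∧ Nat.Coprime (orderOf x) p},
        c ∈ N ∧ ∀ r ∈ R, f (c * r * c⁻¹) = f r := by
      intro c hc
      induction hc using closure_induction with
      | mem x hx =>
        refine ⟨hx.1, fun r hr => ?_⟩
        obtain ⟨hcen, y', hy', hco', he⟩ := exists_odd_centric S hR hx.1 hx.2
        rw [← he r hr]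
        exact hodd _ hcen y' hy' hco' r (mem_sup_left hr)
      | one => exact ⟨one_mem _, fun r _ => by rw [one_mul, inv_one, mul_one]⟩
      | mul x y _ _ ihx ihy =>
        refine ⟨mul_mem ihx.1 ihy.1, fun r hr => ?_⟩
        rw [show x * y * r * (x * y)⁻¹ = x * (y * r * y⁻¹) * x⁻¹ by group,
          ihx.2 _ ((mem_normalizer_iff.mp ihy.1 r).mp hr), ihy.2 r hr]
      | inv x _ ih =>
        refine ⟨inv_mem ih.1, fun r hr => ?_⟩
        have h := ih.2 (x⁻¹ * r * x) (by
          have := (mem_normalizer_iff.mp (inv_mem ih.1) r).mp hr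
          rwa [inv_inv] at this)
        rw [show x * (x⁻¹ * r * x) * x⁻¹ = r by group] at h
        rw [inv_inv, h]
    obtain ⟨hcN, hcf⟩ := key _ hcl
    rw [show n = (k : G) * c from (congrArg Subtype.val hkc).symm,
      show (k : G) * c * q * ((k : G) * c)⁻¹ = k * (c * q * (c : G)⁻¹) * (k : G)⁻¹ by group,
      hS k (mem_subgroupOf.mp hk).1 _ (hR.1 ((mem_normalizer_iff.mp hcN q).mp (hQR hq))), hcf q (hQR hq)]
  · rintro Q a b ⟨ha, h1⟩ ⟨hb, h2⟩
    refine ⟨by rw [← map_conj_map_conj]; exact hb, fun q hq => ?_⟩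
    rw [show b * a * q * (b * a)⁻¹ = b * (a * q * a⁻¹) * b⁻¹ by group, h2 (a * q * a⁻¹) ⟨q, hq, rfl⟩, h1 q hq]

/-- A character of `S` invariant under the odd automorphisms of centric subgroups is invariant in `G`. -/
theorem character_invariant [Finite G] [Fact p.Prime] (S : Sylow p G) {A : Type*} [CommGroup A]
    (χ : (S : Subgroup G) →* A)
    (hodd : ∀ R, IsCentricIn (S : Subgroup G) R → ∀ y ∈ normalizer (R : Set G), Nat.Coprime (orderOf y) p →
      ∀ q (hq : q ∈ (S : Subgroup G)) (hq' : y * q * y⁻¹ ∈ (S : Subgroup G)), q ∈ R →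
        χ ⟨y * q * y⁻¹, hq'⟩ = χ ⟨q, hq⟩)
    (q g : G) (hq : q ∈ (S : Subgroup G)) (hgq : g * q * g⁻¹ ∈ (S : Subgroup G)) :
    χ ⟨g * q * g⁻¹, hgq⟩ = χ ⟨q, hq⟩ := by
  classical
  have h := fusion_invariant_fun S (fun g => if h : g ∈ (S : Subgroup G) then χ ⟨g, h⟩ else 1)
    ?_ ?_ hq hgq
  · simpa [hq, hgq] using h
  · intro u hu r hr
    have hm := mul_mem (mul_mem hu hr) (inv_mem hu)
    simp only [hm, hr, dif_pos]
    rw [show (⟨u * r * u⁻¹, hm⟩ : (S : Subgroup G)) = ⟨u, hu⟩ * ⟨r, hr⟩ * ⟨u, hu⟩⁻¹ from rfl, map_mul,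
      map_mul, map_inv, mul_comm (χ ⟨u, hu⟩), mul_inv_cancel_right]
  · intro R hR y hy hco r hr
    have hr' := hR.1 hr
    have hy' := hR.1 ((mem_normalizer_iff.mp hy r).mp hr)
    simp only [hr', hy', dif_pos]
    exact hodd R hR y hy hco r hr' hy' hr

/-- If no centric subgroup of `S` has a nontrivial automorphism of order prime to `p` induced in `G`
then there is a normal `p`-complement. -/
theorem hasNormalPComplement_of_centric [Finite G] [Fact p.Prime] (S : Sylow p G)
    (h : ∀ R, IsCentricIn (S : Subgroup G) R → ∀ y ∈ normalizer (R : Set G), Nat.Coprime (orderOf y) p →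
      y ∈ centralizer (R : Set G)) : HasNormalPComplement p G := by
  refine hasNormalPComplement_of_local S fun R hR _ y hy hco => ?_
  obtain ⟨hcen, y', hy', hco', he⟩ := exists_odd_centric S hR hy hco
  refine mem_centralizer_iff.mpr fun q hq => (mul_inv_eq_iff_eq_mul.mp ?_).symm
  rw [← he q hq, ← mem_centralizer_iff.mp (h _ hcen y' hy' hco') q (mem_sup_left hq), mul_inv_cancel_right]

/-- The hyperfocal subgroup lies in the kernel of an invariant character. -/
theorem pResidual_le_ker_of_invariant [Finite G] [Fact p.Prime] (S : Sylow p G) {A : Type*} [CommGroup A]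
    (χ : (S : Subgroup G) →* A)
    (key : ∀ (q g : G) (hq : q ∈ (S : Subgroup G)) (hgq : g * q * g⁻¹ ∈ (S : Subgroup G)),
      χ ⟨g * q * g⁻¹, hgq⟩ = χ ⟨q, hq⟩) :
    (pResidual p G).subgroupOf (S : Subgroup G) ≤ χ.ker := by
  obtain ⟨N, hN, hNi, hNs⟩ := exists_normal_focal_complement (S : Subgroup G) (coprime_index_relIndex_sylow S)
  obtain ⟨k, hk⟩ : ∃ k, N.index = p ^ k := by
    rw [← relIndex_top_right N, ← hNs, sup_comm, relIndex_sup_right]
    obtain ⟨k, hk⟩ := S.2.index (N.subgroupOf (S : Subgroup G))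
    exact ⟨k, hk⟩
  intro x hx
  have hxN : (x : G) ∈ N := pResidual_le_of_index hk (mem_subgroupOf.mp hx)
  exact commutator_le_ker_of_invariant S χ key (mem_subgroupOf.mpr ((hNi.le ⟨hxN, x.2⟩).1))

/-- If an invariant character of `S` has kernel `M ≤ O^p(G)` then `O^p(G)` has the same index as `M` and
its Sylow subgroups are isomorphic to `M`. -/
theorem residual_of_kernel [Finite G] [Fact p.Prime] (S : Sylow p G) {A : Type*} [CommGroup A]
    (χ : (S : Subgroup G) →* A)
    (key : ∀ (q g : G) (hq : q ∈ (S : Subgroup G)) (hgq : g * q * g⁻¹ ∈ (S : Subgroup G)),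
      χ ⟨g * q * g⁻¹, hgq⟩ = χ ⟨q, hq⟩)
    (hle : χ.ker ≤ (pResidual p G).subgroupOf (S : Subgroup G)) :
    (pResidual p G).index = χ.ker.index ∧
      ∀ P : Sylow p (pResidual p G), Nonempty ((P : Subgroup (pResidual p G)) ≃* χ.ker) := by
  set O := pResidual p G
  haveI : O.Normal := pResidual_normal
  have heq : O.subgroupOf (S : Subgroup G) = χ.ker := le_antisymm (pResidual_le_ker_of_invariant S χ key) hle
  refine ⟨?_, fun P => ?_⟩
  · rw [← relIndex_top_right O, ← sylow_sup_eq_top S, relIndex_sup_right, ← heq]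
    rfl
  · have hp : IsPGroup p ((S : Subgroup G).subgroupOf O) :=
      S.2.comap_of_injective O.subtype O.subtype_injective
    have hnd : ¬ p ∣ ((S : Subgroup G).subgroupOf O).index :=
      not_dvd_relIndex_inf (C := O) S.not_dvd_index
    refine ⟨((P.equiv (hp.toSylow hnd)).trans ?_)⟩
    refine (equivMapOfInjective _ O.subtype O.subtype_injective).trans ?_
    refine (MulEquiv.subgroupCongr ?_).trans (equivMapOfInjective χ.ker _ (S : Subgroup G).subtype_injective).symm
    rw [IsPGroup.toSylow_coe, subgroupOf_map_subtype, ← heq, subgroupOf_map_subtype, inf_comm]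

/-- `O^p(G)` has no subgroup of index `p = 2`. -/
theorem index_ne_two_pResidual [Finite G] (H : Subgroup (pResidual 2 G)) : H.index ≠ 2 := by
  haveI := Fact.mk Nat.prime_two
  exact fun hH => exists_index_two_iff.mp ⟨H, hH⟩ (pResidual_pResidual (G := G) (p := 2))


theorem card_classes_eq_three {k : ℕ} {x y z : G} (hx : orderOf x = k) (hy : orderOf y = k)
    (hz : orderOf z = k) (h1 : ¬ IsConj x y) (h2 : ¬ IsConj x z) (h3 : ¬ IsConj y z)
    (h : ∀ t, orderOf t = k → IsConj t x ∨ IsConj t y ∨ IsConj t z) :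
    Nat.card {C : ConjClasses G // ∃ t : G, orderOf t = k ∧ ConjClasses.mk t = C} = 3 := by
  rw [← Set.coe_setOf, Nat.card_coe_set_eq, Set.ncard_eq_three]
  refine ⟨ConjClasses.mk x, ConjClasses.mk y, ConjClasses.mk z,
    fun e => h1 (ConjClasses.mk_eq_mk_iff_isConj.mp e), fun e => h2 (ConjClasses.mk_eq_mk_iff_isConj.mp e),
    fun e => h3 (ConjClasses.mk_eq_mk_iff_isConj.mp e), Set.ext fun C => ⟨?_, ?_⟩⟩
  · rintro ⟨t, ht, rfl⟩
    rcases h t ht with e | e | e
    · exact Or.inl (ConjClasses.mk_eq_mk_iff_isConj.mpr e)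
    · exact Or.inr (Or.inl (ConjClasses.mk_eq_mk_iff_isConj.mpr e))
    · exact Or.inr (Or.inr (ConjClasses.mk_eq_mk_iff_isConj.mpr e))
  · rintro (rfl | rfl | rfl)
    · exact ⟨x, hx, rfl⟩
    · exact ⟨y, hy, rfl⟩
    · exact ⟨z, hz, rfl⟩

end Cfsg.Agent.Transfer
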