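-- Nilpotent Hall subgroups: Wielandt conjugacy and normal complements.
--
-- Main results (namespace `Cfsg.Agent.Transfer`):
-- * `hasNormalPComplement_of_isNilpotent`, `exists_nilpotent_split`
-- * `nilpotent_hall_conj` (Wielandt: nilpotent subgroups of one Hall order are conjugate)
-- * `exists_normal_complement_of_no_fusion` (nilpotent Hall subgroup without fusion)
import Cfsg.Agent.Lib.Transfer.Alperin
import Cfsg.Agent.Lib.CN.Basic

set_option autoImplicit false

namespace Cfsg.Agent.Transfer

open Subgroup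

universe u

theorem hasNormalPComplement_of_isNilpotent {H : Type u} [Group H] [Finite H] [Group.IsNilpotent H]
    (p : ℕ) [Fact p.Prime] : HasNormalPComplement p H := by
  refine hasNormalPComplement_of_local default fun R hR _ n _ hco => mem_centralizer_iff.mpr fun r hr => ?_
  obtain ⟨k, hk⟩ := IsPGroup.iff_orderOf.mp ((default : Sylow p H).2.to_le hR.1) ⟨r, hr⟩
  rw [Subgroup.orderOf_mk] at hk
  exact (CN.commute_of_isNilpotent (hk ▸ (hco.pow_right k).symm)).eq

/-- A nilpotent `H` splits as its Sylow `p`-subgroup times a commuting subgroup of order prime to `p`. -/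
theorem exists_nilpotent_split {G : Type u} [Group G] [Finite G] {p : ℕ} [Fact p.Prime] (H : Subgroup G)
    [Group.IsNilpotent H] :
    ∃ Q K : Subgroup G, IsPGroup p Q ∧ (Nat.card K).Coprime p ∧ Q ⊔ K = H ∧
      Nat.card Q * Nat.card K = Nat.card H ∧ K ≤ centralizer (Q : Set G) := by
  obtain ⟨S⟩ := (inferInstance : Nonempty (Sylow p H))
  have hN := hasNormalPComplement_of_isNilpotent (H := H) p
  have hco := hasNormalPComplement_iff_coprime.mp hN
  have hc := (isComplement'_pResidual_iff S).mpr hco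
  refine ⟨(S : Subgroup H).map H.subtype, (pResidual p H).map H.subtype, S.2.map _, ?_, ?_, ?_, ?_⟩
  · rw [card_map_of_injective H.subtype_injective]
    exact hco
  · rw [← Subgroup.map_sup, sylow_sup_eq_top, ← MonoidHom.range_eq_map, range_subtype]
  · rw [card_map_of_injective H.subtype_injective, card_map_of_injective H.subtype_injective,
      mul_comm, hc.card_mul]
  · rintro _ ⟨k, hk, rfl⟩
    refine mem_centralizer_iff.mpr ?_
    rintro _ ⟨s, hs, rfl⟩
    obtain ⟨j, hj⟩ := IsPGroup.iff_orderOf.mp S.2 ⟨s, hs⟩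
    rw [Subgroup.orderOf_mk] at hj
    have hcs : (orderOf s).Coprime (orderOf k) := by
      rw [hj]; exact (((mem_pResidual_iff hN k).mp hk).pow_right j).symm
    exact congrArg Subtype.val (CN.commute_of_isNilpotent hcs).eq

/-- In a nilpotent Hall subgroup, the Sylow part is a Sylow subgroup of the whole group. -/
theorem exists_sylow_eq_of_hall {G : Type u} [Group G] [Finite G] {p : ℕ} [Fact p.Prime] {H Q K : Subgroup G}
    (hHall : Nat.Coprime (Nat.card H) H.index) (hp : p ∣ Nat.card H) (hQ : IsPGroup p Q)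
    (hK : (Nat.card K).Coprime p) (hle : Q ≤ H) (hcard : Nat.card Q * Nat.card K = Nat.card H) :
    ∃ P : Sylow p G, (P : Subgroup G) = Q := by
  refine ⟨hQ.toSylow ?_, rfl⟩
  have hp' : p.Prime := Fact.out
  have h1 : Q.index = Nat.card K * H.index := by
    have h2 := Q.card_mul_index
    rw [← H.card_mul_index, ← hcard, mul_assoc] at h2
    exact Nat.eq_of_mul_eq_mul_left Nat.card_pos h2
  rw [h1]
  intro hd
  rcases hp'.dvd_mul.mp hd with h | h
  · exact hp'.ne_one (Nat.eq_one_of_dvd_coprimes hK h dvd_rfl)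
  · exact hp'.ne_one (Nat.eq_one_of_dvd_coprimes hHall hp h)

/-- **Wielandt**: two nilpotent subgroups of the same Hall order are conjugate. -/
theorem nilpotent_hall_conj {G : Type u} [Group G] [Finite G] {H K : Subgroup G} [Group.IsNilpotent H]
    [Group.IsNilpotent K] (hcard : Nat.card H = Nat.card K) (hHall : Nat.Coprime (Nat.card H) H.index) :
    ∃ g : G, H.map (MulAut.conj g).toMonoidHom = K := by
  suffices key : ∀ n : ℕ, ∀ (G : Type u) [Group G] [Finite G] (H K : Subgroup G), Nat.card H = n →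
      Group.IsNilpotent H → Group.IsNilpotent K → Nat.card H = Nat.card K →
      Nat.Coprime (Nat.card H) H.index → ∃ g : G, H.map (MulAut.conj g).toMonoidHom = K from
    key _ G H K rfl inferInstance inferInstance hcard hHall
  intro n
  induction n using Nat.strong_induction_on with
  | _ n ih =>
    intro G _ _ H K hn hHn hKn hcard hHall
    by_cases h1 : Nat.card H = 1
    · refine ⟨1, ?_⟩
      rw [(card_eq_one (H := H)).mp h1, (card_eq_one (H := K)).mp (hcard.symm.trans h1), Subgroup.map_bot]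
    obtain ⟨p, hp, hpd⟩ := Nat.exists_prime_and_dvd h1
    have := Fact.mk hp
    obtain ⟨Q1, K1, hQ1, hK1, hs1, hc1, hcen1⟩ := exists_nilpotent_split (p := p) H
    obtain ⟨Q2, K2, hQ2, hK2, hs2, hc2, hcen2⟩ := exists_nilpotent_split (p := p) K
    obtain ⟨P1, hP1⟩ := exists_sylow_eq_of_hall hHall hpd hQ1 hK1 (hs1 ▸ le_sup_left) hc1
    have hKHall : Nat.Coprime (Nat.card K) K.index := by
      have : K.index = H.index := by
        refine Nat.eq_of_mul_eq_mul_left (Nat.card_pos (α := K)) ?_
        rw [K.card_mul_index, ← hcard, H.card_mul_index]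
      rw [this, ← hcard]
      exact hHall
    obtain ⟨P2, hP2⟩ := exists_sylow_eq_of_hall hKHall (hcard ▸ hpd) hQ2 hK2 (hs2 ▸ le_sup_left) hc2
    obtain ⟨g, hg⟩ := MulAction.exists_smul_eq G P1 P2
    have hQeq : Q1.map (MulAut.conj g).toMonoidHom = Q2 := by rw [← hP1, ← hP2, ← hg]; rfl
    set C := centralizer (Q2 : Set G)
    set K1' := K1.map (MulAut.conj g).toMonoidHom
    have hK1C : K1' ≤ C := by
      rintro _ ⟨k, hk, rfl⟩
      refine mem_centralizer_iff.mpr fun x hx => ?_
      obtain ⟨y, hy, rfl⟩ := hQeq.ge hx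
      exact ((MulAut.conj g).toMonoidHom.map_mul y k).symm.trans
        ((congrArg _ (mem_centralizer_iff.mp (hcen1 hk) y hy)).trans
          ((MulAut.conj g).toMonoidHom.map_mul k y))
    have hcardK1 : Nat.card K1' = Nat.card K1 := card_map_conj _ g
    have hcardK : Nat.card K1 = Nat.card K2 := by
      have hQQ : Nat.card Q1 = Nat.card Q2 := by rw [← hQeq, card_map_conj]
      refine Nat.eq_of_mul_eq_mul_left (Nat.card_pos (α := Q1)) ?_
      rw [hc1, hcard, ← hc2, hQQ]
    have hlt : Nat.card K1 < n := by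
      rw [← hn, ← hc1]
      refine lt_mul_left Nat.card_pos ?_
      rcases eq_or_ne (Nat.card Q1) 1 with h | h
      · exfalso
        rw [h, one_mul] at hc1
        exact hp.ne_one (Nat.eq_one_of_dvd_coprimes hK1 (hc1 ▸ hpd) dvd_rfl)
      · have := Nat.card_pos (α := Q1)
        omega
    have hn1 : Group.IsNilpotent (K1'.subgroupOf C) := by
      have h2 : Group.IsNilpotent K1 := CN.isNilpotent_of_le (hs1 ▸ le_sup_right : K1 ≤ H)
      have h3 : Group.IsNilpotent K1' := Group.nilpotent_of_mulEquiv (K1.equivMapOfInjective _ (MulAut.conj g).injective)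
      exact Group.nilpotent_of_mulEquiv (subgroupOfEquivOfLe hK1C).symm
    have hn2 : Group.IsNilpotent (K2.subgroupOf C) := by
      have h2 : Group.IsNilpotent K2 := CN.isNilpotent_of_le (hs2 ▸ le_sup_right : K2 ≤ K)
      exact Group.nilpotent_of_mulEquiv (subgroupOfEquivOfLe hcen2).symm
    obtain ⟨c, hc⟩ := ih (Nat.card (K1'.subgroupOf C))
      (by rw [Nat.card_congr (subgroupOfEquivOfLe hK1C).toEquiv, hcardK1]; exact hlt)
      C _ (K2.subgroupOf C) rfl hn1 hn2
      (by rw [Nat.card_congr (subgroupOfEquivOfLe hK1C).toEquiv, hcardK1, hcardK,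
        Nat.card_congr (subgroupOfEquivOfLe hcen2).toEquiv])
      (by
        rw [Nat.card_congr (subgroupOfEquivOfLe hK1C).toEquiv]
        have h2 : (K1'.subgroupOf C).index ∣ K1'.index := relIndex_dvd_index_of_le hK1C
        refine (Nat.Coprime.coprime_dvd_right h2 ?_)
        have h3 : K1'.index = Nat.card Q1 * H.index := by
          have h4 := K1'.card_mul_index
          rw [← H.card_mul_index, ← hc1, hcardK1, mul_comm (Nat.card Q1), mul_assoc] at h4
          exact Nat.eq_of_mul_eq_mul_left Nat.card_pos h4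
        rw [h3, hcardK1]
        obtain ⟨j, hj⟩ := IsPGroup.iff_card.mp hQ1
        exact Nat.Coprime.mul_right (hj ▸ hK1.pow_right j)
          (hHall.coprime_dvd_left (card_dvd_of_le (hs1 ▸ le_sup_right : K1 ≤ H))))
    have hc' : K1'.map (MulAut.conj (c : G)).toMonoidHom = K2 := by
      ext x
      constructor
      · rintro ⟨k, hk, rfl⟩
        exact mem_subgroupOf.mp (hc.le ⟨⟨k, hK1C hk⟩, mem_subgroupOf.mpr hk, rfl⟩)
      · intro hx
        obtain ⟨k, hk, he⟩ := hc.ge (mem_subgroupOf.mpr hx : (⟨x, hcen2 hx⟩ : C) ∈ K2.subgroupOf C)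
        exact ⟨k, mem_subgroupOf.mp hk, congrArg Subtype.val he⟩
    have hQc : Q2.map (MulAut.conj (c : G)).toMonoidHom = Q2 :=
      map_conj_eq_iff_mem_normalizer.mpr (centralizer_le_normalizer _ c.2)
    refine ⟨c * g, ?_⟩
    rw [← map_conj_map_conj, ← hs1, Subgroup.map_sup, Subgroup.map_sup, hQeq, hQc, hc', hs2]

/-- A nilpotent Hall subgroup in which no fusion happens has a normal complement. -/
theorem exists_normal_complement_of_no_fusion {G : Type u} [Group G] [Finite G] (H : Subgroup G)
    [Group.IsNilpotent H] (hHall : Nat.Coprime (Nat.card H) H.index)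
    (hfus : ∀ x ∈ H, ∀ g : G, g * x * g⁻¹ ∈ H → ∃ h ∈ H, h * x * h⁻¹ = g * x * g⁻¹) :
    ∃ N : Subgroup G, N.Normal ∧ N.IsComplement' H := by
  have hnpc : ∀ p ∈ (Nat.card H).primeFactors, (Nat.card (pResidual p G)).Coprime p := by
    intro p hp
    have := Fact.mk (Nat.prime_of_mem_primeFactors hp)
    obtain ⟨Q, K, hQ, hK, hs, hc, hcen⟩ := exists_nilpotent_split (p := p) H
    obtain ⟨P, hP⟩ := exists_sylow_eq_of_hall hHall (Nat.dvd_of_mem_primeFactors hp) hQ hK (hs ▸ le_sup_left) hc
    refine hasNormalPComplement_iff_coprime.mp (hasNormalPComplement_of_self_control P fun x hx g hg => ?_)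
    have hle : Q ≤ H := hs ▸ le_sup_left
    rw [hP] at hx hg ⊢
    obtain ⟨h, hh, he⟩ := hfus x (hle hx) g (hle hg)
    have hh' : h ∈ (↑(Q ⊔ K) : Set G) := hs.symm ▸ hh
    rw [coe_mul_of_right_le_normalizer_left Q K (hcen.trans (centralizer_le_normalizer _))] at hh'
    obtain ⟨u, hu, v, hv, rfl⟩ := hh'
    refine ⟨u, hu, ?_⟩
    rw [← he, show u * v * x * (u * v)⁻¹ = u * (v * x * v⁻¹) * u⁻¹ by group,
      ← mem_centralizer_iff.mp (hcen hv) x hx, mul_inv_cancel_right]
  set N : Subgroup G := ⨅ p ∈ (Nat.card H).primeFactors, pResidual p G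
  have hNle : ∀ p ∈ (Nat.card H).primeFactors, N ≤ pResidual p G := fun p hp => iInf₂_le p hp
  have hco : (Nat.card N).Coprime (Nat.card H) := by
    refine Nat.coprime_of_dvd fun q hq hqN hqH => ?_
    have hmem := Nat.mem_primeFactors.mpr ⟨hq, hqH, Nat.card_pos.ne'⟩
    exact hq.ne_one (Nat.eq_one_of_dvd_coprimes (hnpc q hmem) (hqN.trans (card_dvd_of_le (hNle q hmem))) dvd_rfl)
  have hn : N.Normal := normal_iInf_normal fun p => normal_iInf_normal fun _ => pResidual_normal
  refine ⟨N, hn, isComplement'_of_coprime ?_ hco⟩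
  have h1 : Nat.card N ∣ H.index := hco.dvd_of_dvd_mul_left (H.card_mul_index.symm ▸ card_subgroup_dvd_card N)
  have h2 : H.index.Coprime N.index := by
    refine Nat.coprime_of_dvd fun q hq hqH hqN => ?_
    have := Fact.mk hq
    obtain ⟨S⟩ := (inferInstance : Nonempty (Sylow q G))
    refine S.not_dvd_index (hqN.trans (index_dvd_of_le ?_))
    refine le_iInf₂ fun p hp x hx => mem_pResidual_of_coprime ?_
    obtain ⟨k, hk⟩ := IsPGroup.iff_orderOf.mp S.2 ⟨x, hx⟩
    rw [Subgroup.orderOf_mk] at hk
    rw [hk]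
    refine Nat.Coprime.pow_left k ((Nat.coprime_primes hq (Nat.prime_of_mem_primeFactors hp)).mpr fun hqp => ?_)
    subst hqp
    exact hq.ne_one (Nat.eq_one_of_dvd_coprimes hHall (Nat.dvd_of_mem_primeFactors hp) hqH)
  have h3 : H.index ∣ Nat.card N :=
    h2.dvd_of_dvd_mul_right (N.card_mul_index.symm ▸ index_dvd_card H)
  rw [Nat.dvd_antisymm h1 h3, mul_comm, H.card_mul_index]

/-- A Hall subgroup with `N(H) ≤ C(H)` has a normal complement. -/
theorem exists_normal_complement_of_normalizer_le_centralizer {G : Type u} [Group G] [Finite G]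
    (H : Subgroup G) (hHall : Nat.Coprime (Nat.card H) H.index)
    (h : normalizer (H : Set G) ≤ centralizer (H : Set G)) :
    ∃ N : Subgroup G, N.Normal ∧ N.IsComplement' H := by
  have hHC : H ≤ centralizer (H : Set G) := le_normalizer.trans h
  have hHn : Group.IsNilpotent H := by
    let : CommGroup H := { (inferInstance : Group H) with
      mul_comm := fun a b => Subtype.ext (mem_centralizer_iff.mp (hHC b.2) a a.2) }
    infer_instance
  refine exists_normal_complement_of_no_fusion H hHall fun x hx g hg => ⟨1, H.one_mem, ?_⟩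
  set C := centralizer ({g * x * g⁻¹} : Set G)
  have hH : H ≤ C := fun a ha =>
    mem_centralizer_singleton_iff.mpr (mem_centralizer_iff.mp (hHC hg) a ha)
  have hH' : H.map (MulAut.conj g).toMonoidHom ≤ C := by
    rintro _ ⟨a, ha, rfl⟩
    refine mem_centralizer_singleton_iff.mpr ?_
    exact ((MulAut.conj g).toMonoidHom.map_mul a x).symm.trans
      ((congrArg _ (mem_centralizer_iff.mp (hHC hx) a ha)).trans ((MulAut.conj g).toMonoidHom.map_mul x a))
  have n1 : Group.IsNilpotent (H.subgroupOf C) := Group.nilpotent_of_mulEquiv (subgroupOfEquivOfLe hH).symm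
  have n2 : Group.IsNilpotent ((H.map (MulAut.conj g).toMonoidHom).subgroupOf C) := by
    have : Group.IsNilpotent (H.map (MulAut.conj g).toMonoidHom) :=
      Group.nilpotent_of_mulEquiv (H.equivMapOfInjective _ (MulAut.conj g).injective)
    exact Group.nilpotent_of_mulEquiv (subgroupOfEquivOfLe hH').symm
  obtain ⟨c, hc⟩ := nilpotent_hall_conj (H := (H.map (MulAut.conj g).toMonoidHom).subgroupOf C)
    (K := H.subgroupOf C)
    (by rw [Nat.card_congr (subgroupOfEquivOfLe hH').toEquiv, Nat.card_congr (subgroupOfEquivOfLe hH).toEquiv,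
      card_map_conj])
    (by
      rw [Nat.card_congr (subgroupOfEquivOfLe hH').toEquiv, card_map_conj]
      refine Nat.Coprime.coprime_dvd_right (relIndex_dvd_index_of_le hH') ?_
      have h5 := (H.map (MulAut.conj g).toMonoidHom).card_mul_index
      rw [card_map_conj, ← H.card_mul_index] at h5
      rw [Nat.eq_of_mul_eq_mul_left Nat.card_pos h5]
      exact hHall)
  have hcg : (c : G) * g ∈ normalizer (H : Set G) := by
    refine map_conj_eq_iff_mem_normalizer.mp ?_
    rw [← map_conj_map_conj]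
    ext a
    constructor
    · rintro ⟨k, hk, rfl⟩
      exact mem_subgroupOf.mp (hc.le ⟨⟨k, hH' hk⟩, mem_subgroupOf.mpr hk, rfl⟩)
    · intro ha
      obtain ⟨k, hk, he⟩ := hc.ge (mem_subgroupOf.mpr ha : (⟨a, hH ha⟩ : C) ∈ H.subgroupOf C)
      exact ⟨k, mem_subgroupOf.mp hk, congrArg Subtype.val he⟩
  have h1 : (c : G) * g * x * ((c : G) * g)⁻¹ = x := by
    rw [← mem_centralizer_iff.mp (h hcg) x hx, mul_inv_cancel_right]
  have h2 : (c : G) * g * x * ((c : G) * g)⁻¹ = g * x * g⁻¹ := by
    rw [show (c : G) * g * x * ((c : G) * g)⁻¹ = c * (g * x * g⁻¹) * (c : G)⁻¹ by group,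
      mem_centralizer_singleton_iff.mp c.2, mul_inv_cancel_right]
  rw [one_mul, inv_one, mul_one, ← h2, h1]

end Cfsg.Agent.Transfer
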