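-- Fusion in groups with semidihedral Sylow 2-subgroups.
--
-- Main results (namespace `Cfsg.Agent.Transfer.SD`, `d : QDData S n`):
-- * `qd_subgroup_cases`, `qd_agrees_or`: only Klein four and `Q_8` subgroups can have odd automizers
-- * `klein_moves`, `quaternion_moves`: effect of an odd element on such a subgroup
-- * `dih_le_residual`, `quat_le_residual`, `residual_of_maximal`
-- * `conj_two_cases`, `conj_four_cases`: classes of elements of orders two and four
import Cfsg.Agent.Lib.Transfer.FusionInvariant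
import Cfsg.Agent.Lib.QDWreath.SemidihedralSmall

set_option autoImplicit false

namespace Cfsg.Agent.Transfer.SD

open Subgroup
open QDWreath QDWreath.QDData

section Abstract

variable {S : Type*} [Group S] {n : ℕ} (d : QDData S n)
include d

theorem quarter_even : ∃ p, tp n (n - 2) = 2 * p :=
  ⟨tp n (n - 3), (two_mul_tp n (n - 3) (n - 2) (by have := d.hn; omega)).symm⟩

theorem half_even : ∃ p, tp n (n - 1) = 2 * p := ⟨tp n (n - 2), d.half_eq_two_mul⟩

theorem even_mul_half (k : ZMod (2 ^ n)) : 2 * k * tp n (n - 1) = 0 := by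
  linear_combination k * half_mul_two d.one_le

theorem odd_mul_half (k : ZMod (2 ^ n)) : (2 * k + 1) * tp n (n - 1) = tp n (n - 1) := by
  linear_combination k * half_mul_two d.one_le

theorem half_ne_zero : tp n (n - 1) ≠ 0 := tp_ne_zero n (n - 1) (by have := d.hn; omega)

theorem quarter_mul_two_ne : 2 * tp n (n - 2) ≠ 0 := by rw [← d.half_eq_two_mul]; exact half_ne_zero d

theorem rexp_mul_quarter : d.rexp * tp n (n - 2) = -tp n (n - 2) := by
  obtain ⟨p, hp⟩ := quarter_even d
  rw [hp, d.rexp_mul_two]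

theorem orderOf_a_quarter : orderOf (d.a (tp n (n - 2))) = 4 := by
  have hm2 : 2 * tp n (n - 2) = tp n (n - 1) := d.half_eq_two_mul.symm
  have h : orderOf (d.a (tp n (n - 2))) = 2 ^ (1 + 1) := by
    refine orderOf_eq_prime_pow ?_ ?_
    · rw [pow_one, pow_two, d.a_mul_a, ← two_mul, hm2]; exact d.a_half_ne_one
    · rw [pow_succ 2 1, pow_one, pow_mul, pow_two, pow_two, d.a_mul_a, ← two_mul, hm2]
      exact d.a_sq_eq_one.2 (Or.inr rfl)
  simpa using h

theorem orderOf_eq_four_cases {g : S} (h : orderOf g = 4) :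
    g = d.a (tp n (n - 2)) ∨ g = d.a (-tp n (n - 2)) ∨ ∃ k, g = d.b (2 * k + 1) := by
  rcases d.cases g with ⟨i, rfl⟩ | ⟨i, rfl⟩
  · have h4 : (d.a i) ^ 4 = 1 := by rw [← h]; exact pow_orderOf_eq_one _
    have h2 : 2 * i ≠ 0 := by
      intro e
      have := orderOf_dvd_of_pow_eq_one (x := d.a i) (n := 2) (by rw [d.a_pow]; push_cast; rw [e, d.a_zero])
      rw [h] at this
      exact absurd this (by norm_num)
    rw [d.a_pow] at h4
    have h4' : 2 * (2 * i) = 0 := by
      have := d.a_injective (h4.trans d.a_zero.symm)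
      push_cast at this; linear_combination this
    rcases (two_mul_eq_zero d.one_le).1 h4' with e | e
    · exact absurd e h2
    · rw [d.half_eq_two_mul] at e
      rcases two_mul_eq_two_mul d.one_le e with e' | e'
      · exact Or.inl (by rw [e'])
      · exact Or.inr (Or.inl (congrArg d.a (by
          linear_combination e' + half_mul_two d.one_le - d.half_eq_two_mul)))
  · obtain ⟨k, rfl | rfl⟩ := even_or_odd i
    · rw [d.orderOf_b_even] at h; exact absurd h (by norm_num)
    · exact Or.inr (Or.inr ⟨k, rfl⟩)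

theorem card_dih : Nat.card d.dih = 2 ^ n := by
  obtain ⟨e⟩ := d.nonempty_dih_equiv
  rw [Nat.card_congr e.toEquiv, DihedralGroup.nat_card, d.two_mul_dihIndex]

theorem card_quat : Nat.card d.quat = 2 ^ n := by
  obtain ⟨e⟩ := d.nonempty_quat_equiv
  rw [Nat.card_congr e.toEquiv, Nat.card_eq_fintype_card, QuaternionGroup.card, ← d.two_mul_quatIndex]
  omega

theorem index_eq_two_of_card {M : Subgroup S} (h : Nat.card M = 2 ^ n) : M.index = 2 := by
  have h1 := M.card_mul_index
  rw [h, d.card, pow_succ] at h1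
  exact Nat.eq_of_mul_eq_mul_left (Nat.two_pow_pos n) h1

theorem index_dih : d.dih.index = 2 := index_eq_two_of_card d (card_dih d)

theorem index_quat : d.quat.index = 2 := index_eq_two_of_card d (card_quat d)

theorem isPGroup : IsPGroup 2 S := IsPGroup.of_card d.card

theorem isPGroup_mulAut : IsPGroup 2 (MulAut S) := by
  haveI := d.finite
  refine isPGroup_mulAut_of_fixed_cyclic d.x d.order_x ?_ fun α => ?_
  · exact index_eq_two_of_card d (by rw [Nat.card_zpowers, d.order_x])
  · have h : orderOf (α d.x) = 2 ^ n := by rw [MulEquiv.orderOf_eq, d.order_x]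
    have h8 : 2 ^ 3 ≤ 2 ^ n := Nat.pow_le_pow_right two_pos d.hn
    rcases d.cases (α d.x) with ⟨i, hi⟩ | ⟨i, hi⟩
    · rw [hi]
      exact ⟨i.val, zpow_natCast _ _⟩
    · obtain ⟨k, rfl | rfl⟩ := even_or_odd i
      · rw [hi, d.orderOf_b_even] at h; omega
      · rw [hi, d.orderOf_b_odd] at h; omega

theorem qd_subgroup_cases (R : Subgroup S) :
    IsPGroup 2 (MulAut R) ∨ IsKleinFour R ∨ Nonempty (R ≃* QuaternionGroup 2) := by
  haveI := d.finite
  rcases eq_top_or_exists_le_coatom R with rfl | ⟨M, hM, hRM⟩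
  · exact Or.inl (isPGroup_mulAut_of_equiv topEquiv (isPGroup_mulAut d))
  rcases d.eq_cyc_of_mem hM.1 (d.even_mem_of_isCoatom hM) with h | h | h
  · left
    haveI := d.isCyclic_cyc
    haveI : IsCyclic R := isCyclic_of_injective (inclusion (hRM.trans h)) (inclusion_injective _)
    exact isPGroup_mulAut_of_isCyclic ((isPGroup d).to_subgroup R)
  · have e := (R.comap d.dihHom).equivMapOfInjective d.dihHom d.dihHom_injective
    rw [map_comap_eq_self (show R ≤ d.dihHom.range from hRM.trans h)] at e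
    rcases dihedral_subgroup_cases rfl (R.comap d.dihHom) with h1 | h1
    · exact Or.inl (isPGroup_mulAut_of_equiv e.symm h1)
    · exact Or.inr (Or.inl (isKleinFour_congr e h1))
  · have e := (R.comap d.quatHom).equivMapOfInjective d.quatHom d.quatHom_injective
    rw [map_comap_eq_self (show R ≤ d.quatHom.range from hRM.trans h)] at e
    rcases quaternion_subgroup_cases rfl (R.comap d.quatHom) with h1 | h1
    · exact Or.inl (isPGroup_mulAut_of_equiv e.symm h1)
    · exact Or.inr (Or.inr (h1.map e.symm.trans))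

theorem klein_le_dih {T : Subgroup S} (hT : IsKleinFour T) : T ≤ d.dih := by
  obtain ⟨k, hk⟩ := d.klein_shape hT
  intro g hg
  obtain ⟨p, hp⟩ := half_even d
  obtain ⟨l, rfl | rfl⟩ := (hk g).1 hg
  · exact d.mem_dih.2 ⟨l * p, Or.inl (by rw [hp]; congr 1; ring)⟩
  · exact d.mem_dih.2 ⟨k + l * p, Or.inr (by rw [hp]; congr 1; ring)⟩

theorem quaternion_le_quat {Q : Subgroup S} (e : Q ≃* QuaternionGroup 2) : Q ≤ d.quat := by
  obtain ⟨k, hk⟩ := d.quaternion_shape e
  intro g hg
  obtain ⟨p, hp⟩ := quarter_even d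
  obtain ⟨l, rfl | rfl⟩ := (hk g).1 hg
  · exact d.mem_quat.2 ⟨l * p, Or.inl (by rw [hp]; congr 1; ring)⟩
  · exact d.mem_quat.2 ⟨k + l * p, Or.inr (by rw [hp]; congr 1; ring)⟩

theorem a_quarter_mem_dih : d.a (tp n (n - 2)) ∈ d.dih := by
  obtain ⟨p, hp⟩ := quarter_even d
  exact d.mem_dih.2 ⟨p, Or.inl (by rw [hp])⟩

theorem a_half_mem_quat : d.a (tp n (n - 1)) ∈ d.quat := by
  obtain ⟨p, hp⟩ := half_even d
  exact d.mem_quat.2 ⟨p, Or.inl (by rw [hp])⟩

theorem b_odd_notMem_dih (k : ZMod (2 ^ n)) : d.b (2 * k + 1) ∉ d.dih := by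
  rintro h
  obtain ⟨l, e | e⟩ := d.mem_dih.1 h
  · exact d.a_ne_b _ _ e.symm
  · exact two_mul_ne_odd d.one_le _ _ (d.b_injective e).symm

theorem b_even_notMem_quat (k : ZMod (2 ^ n)) : d.b (2 * k) ∉ d.quat := by
  rintro h
  obtain ⟨l, e | e⟩ := d.mem_quat.1 h
  · exact d.a_ne_b _ _ e.symm
  · exact two_mul_ne_odd d.one_le _ _ (d.b_injective e)

end Abstract

variable {G : Type*} [Group G] [Finite G] {S : Sylow 2 G} {n : ℕ} (d : QDData (S : Subgroup G) n)

omit [Finite G] in
theorem coe_conj (s x : (S : Subgroup G)) : ((s * x * s⁻¹ : (S : Subgroup G)) : G) = s * x * (s : G)⁻¹ := rfl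

omit [Finite G] in
theorem isConj_coe {x y : (S : Subgroup G)} (h : ∃ s, s * x * s⁻¹ = y) : IsConj (x : G) (y : G) := by
  obtain ⟨s, rfl⟩ := h
  exact isConj_iff.mpr ⟨s, rfl⟩

omit [Finite G] in
theorem centralizes_shape {U : Subgroup G} (hU : U ≤ (S : Subgroup G)) {q i : ZMod (2 ^ n)}
    (h : Shape d (U.subgroupOf (S : Subgroup G)) q i) {y : G} (hy : y ∈ normalizer (U : Set G))
    (hco : Nat.Coprime (orderOf y) 2) (hq : y * (d.a q : G) * y⁻¹ = d.a q) :
    y ∈ centralizer (U : Set G) := by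
  have ha : ∀ l, y * (d.a (l * q) : G) * y⁻¹ = d.a (l * q) := by
    intro l
    obtain ⟨l, rfl⟩ := ZMod.natCast_zmod_surjective l
    rw [← d.a_pow, SubgroupClass.coe_pow, ← conj_pow, hq]
  have hUi : (d.b i : G) ∈ U := by
    simpa using mem_subgroupOf.mp (h.b_mem 0)
  have h1 : y * (d.b i : G) * y⁻¹ ∈ U := (mem_normalizer_iff.mp hy _).mp hUi
  obtain ⟨l, hl | hl⟩ := (h ⟨_, hU h1⟩).1 (mem_subgroupOf.mpr h1)
  · have hl' : y * (d.b i : G) * y⁻¹ = d.a (l * q) := congrArg Subtype.val hl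
    have : (d.b i : G) = d.a (l * q) := mul_left_cancel (mul_right_cancel (hl'.trans (ha l).symm))
    exact absurd (Subtype.ext this).symm (d.a_ne_b _ _)
  have hl' : y * (d.b i : G) * y⁻¹ = d.b (i + l * q) := congrArg Subtype.val hl
  have hc : d.b (i + l * q) = d.b i * d.a (d.rexp * l * q) := by
    rw [d.b_mul_a]; congr 1
    linear_combination -(l * q) * d.rexp_sq
  have hb : y * (d.b i : G) * y⁻¹ = d.b i := by
    refine conj_eq_self_of_coprime (c := (d.a (d.rexp * l * q) : G)) (k := n) hco ?_ (ha _) ?_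
    · have : d.a (d.rexp * l * q) ^ 2 ^ n = 1 := by rw [d.a_pow, ZMod.natCast_self, zero_mul, d.a_zero]
      exact_mod_cast this
    · rw [hl', hc, Subgroup.coe_mul]
  refine mem_centralizer_iff.mpr fun x hx => (mul_inv_eq_iff_eq_mul.mp ?_).symm
  obtain ⟨m, hm | hm⟩ := (h ⟨x, hU hx⟩).1 (mem_subgroupOf.mpr hx)
  · rw [show x = (d.a (m * q) : G) from congrArg Subtype.val hm]
    exact ha m
  · have e : d.b (i + m * q) = d.a (m * q) * d.b i := by rw [d.a_mul_b, add_comm]
    rw [show x = (d.b (i + m * q) : G) from congrArg Subtype.val hm, e, Subgroup.coe_mul,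
      show y * ((d.a (m * q) : G) * d.b i) * y⁻¹ = (y * d.a (m * q) * y⁻¹) * (y * d.b i * y⁻¹) by group,
      ha, hb]

omit [Finite G] in
theorem klein_moves {U : Subgroup G} (hUK : IsKleinFour U) (hU : U ≤ (S : Subgroup G)) {y : G}
    (hy : y ∈ normalizer (U : Set G)) (hco : Nat.Coprime (orderOf y) 2) (hne : y ∉ centralizer (U : Set G)) :
    ∃ k, y * (d.a (tp n (n - 1)) : G) * y⁻¹ = d.b (2 * k) := by
  obtain ⟨k, hk⟩ := d.klein_shape (isKleinFour_congr (subgroupOfEquivOfLe hU).symm hUK)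
  have hz : (d.a (tp n (n - 1)) : G) ∈ U := by simpa using mem_subgroupOf.mp (hk.a_mem 1)
  have h1 : y * (d.a (tp n (n - 1)) : G) * y⁻¹ ∈ U := (mem_normalizer_iff.mp hy _).mp hz
  obtain ⟨l, hl | hl⟩ := (hk ⟨_, hU h1⟩).1 (mem_subgroupOf.mpr h1)
  · have hl' : y * (d.a (tp n (n - 1)) : G) * y⁻¹ = d.a (l * tp n (n - 1)) := congrArg Subtype.val hl
    exfalso
    obtain ⟨m, rfl | rfl⟩ := even_or_odd l
    · rw [even_mul_half d, d.a_zero, OneMemClass.coe_one, conj_eq_one_iff] at hl'
      exact d.a_half_ne_one (Subtype.ext hl')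
    · rw [odd_mul_half d] at hl'
      exact hne (centralizes_shape d hU hk hy hco hl')
  · obtain ⟨p, hp⟩ := half_even d
    exact ⟨k + l * p, (congrArg Subtype.val hl).trans (by rw [hp]; congr 2; ring)⟩

omit [Finite G] in
theorem quaternion_moves {U : Subgroup G} (e : U ≃* QuaternionGroup 2) (hU : U ≤ (S : Subgroup G)) {y : G}
    (hy : y ∈ normalizer (U : Set G)) (hco : Nat.Coprime (orderOf y) 2) (hne : y ∉ centralizer (U : Set G)) :
    ∃ k, y * (d.a (tp n (n - 2)) : G) * y⁻¹ = d.b (2 * k + 1) := by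
  obtain ⟨k, hk⟩ := d.quaternion_shape ((subgroupOfEquivOfLe hU).trans e)
  have hz : (d.a (tp n (n - 2)) : G) ∈ U := by simpa using mem_subgroupOf.mp (hk.a_mem 1)
  have h1 : y * (d.a (tp n (n - 2)) : G) * y⁻¹ ∈ U := (mem_normalizer_iff.mp hy _).mp hz
  obtain ⟨p, hp⟩ := quarter_even d
  obtain ⟨l, hl | hl⟩ := (hk ⟨_, hU h1⟩).1 (mem_subgroupOf.mpr h1)
  · have hl' : y * (d.a (tp n (n - 2)) : G) * y⁻¹ = d.a (l * tp n (n - 2)) := congrArg Subtype.val hl
    have hsq : d.a (tp n (n - 1)) = d.a (tp n (n - 2)) ^ 2 := by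
      rw [d.a_pow, d.half_eq_two_mul]; norm_num
    have hzf : y * (d.a (tp n (n - 1)) : G) * y⁻¹ = d.a (l * tp n (n - 1)) := by
      rw [hsq, SubgroupClass.coe_pow, ← conj_pow, hl', ← SubgroupClass.coe_pow, d.a_pow]
      congr 2
      rw [d.half_eq_two_mul]; push_cast; ring
    exfalso
    obtain ⟨m, rfl | rfl⟩ := even_or_odd l
    · rw [even_mul_half d, d.a_zero, OneMemClass.coe_one, conj_eq_one_iff] at hzf
      exact d.a_half_ne_one (Subtype.ext hzf)
    · have hc : ∀ j, y * (d.a (j * tp n (n - 2)) : G) * y⁻¹ = d.a ((2 * m + 1) * j * tp n (n - 2)) := by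
        intro j
        obtain ⟨j, rfl⟩ := ZMod.natCast_zmod_surjective j
        rw [← d.a_pow, SubgroupClass.coe_pow, ← conj_pow, hl', ← SubgroupClass.coe_pow, d.a_pow]
        congr 2
        ring
      refine hne (centralizes_shape d hU hk hy hco
        (conj_eq_self_of_coprime (c := (d.a (2 * m * tp n (n - 2)) : G)) (k := 2) hco ?_ ?_ ?_))
      · have : d.a (2 * m * tp n (n - 2)) ^ 2 ^ 2 = 1 := by
          rw [d.a_pow, ← d.a_zero]; congr 1; push_cast
          linear_combination -4 * m * d.half_eq_two_mul + 2 * m * half_mul_two d.one_le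
        exact_mod_cast this
      · rw [hc]
        congr 2
        linear_combination m * m * half_mul_two d.one_le - 2 * m * m * d.half_eq_two_mul
      · rw [hl', ← Subgroup.coe_mul, d.a_mul_a]
        congr 2
        ring
  · exact ⟨k + l * p, (congrArg Subtype.val hl).trans (by rw [hp]; congr 2; ring)⟩

omit [Finite G] in
theorem isConj_half_b {U : Subgroup G} (hUK : IsKleinFour U) (hU : U ≤ (S : Subgroup G)) {y : G}
    (hy : y ∈ normalizer (U : Set G)) (hco : Nat.Coprime (orderOf y) 2) (hne : y ∉ centralizer (U : Set G)) :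
    IsConj (d.a (tp n (n - 1)) : G) (d.b 0) := by
  obtain ⟨k, hk⟩ := klein_moves d hUK hU hy hco hne
  refine (isConj_iff.mpr ⟨y, hk⟩).trans (isConj_coe (S := S) ?_)
  obtain ⟨j, hj⟩ := d.exists_conj_b (2 * k) (-k)
  exact ⟨d.a j, by rw [hj]; congr 1; ring⟩

omit [Finite G] in
theorem isConj_quarter_b {U : Subgroup G} (e : U ≃* QuaternionGroup 2) (hU : U ≤ (S : Subgroup G)) {y : G}
    (hy : y ∈ normalizer (U : Set G)) (hco : Nat.Coprime (orderOf y) 2) (hne : y ∉ centralizer (U : Set G)) :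
    IsConj (d.a (tp n (n - 2)) : G) (d.b 1) := by
  obtain ⟨k, hk⟩ := quaternion_moves d e hU hy hco hne
  refine (isConj_iff.mpr ⟨y, hk⟩).trans (isConj_coe (S := S) ?_)
  obtain ⟨j, hj⟩ := d.exists_conj_b (2 * k + 1) (-k)
  exact ⟨d.a j, by rw [hj]; congr 1; ring⟩

theorem dih_le_residual {U : Subgroup G} (hUK : IsKleinFour U) (hU : U ≤ (S : Subgroup G)) {y : G}
    (hy : y ∈ normalizer (U : Set G)) (hco : Nat.Coprime (orderOf y) 2) (hne : y ∉ centralizer (U : Set G)) :
    d.dih ≤ (pResidual 2 G).subgroupOf (S : Subgroup G) := by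
  obtain ⟨k, hk⟩ := klein_moves d hUK hU hy hco hne
  have hyO : y ∈ pResidual 2 G := mem_pResidual_of_coprime hco
  set O := pResidual 2 G
  haveI : O.Normal := pResidual_normal
  obtain ⟨p, hp⟩ := half_even d
  have h1 : ∃ l, d.b (2 * l) ∈ O.subgroupOf (S : Subgroup G) := by
    refine ⟨k - p, mem_subgroupOf.mpr ?_⟩
    have e : d.b (2 * (k - p)) = (d.a (tp n (n - 1)))⁻¹ * d.b (2 * k) := by
      rw [d.a_inv, d.a_mul_b, hp]; congr 1; ring
    rw [e, Subgroup.coe_mul, InvMemClass.coe_inv, ← hk,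
      show (d.a (tp n (n - 1)) : G)⁻¹ * (y * d.a (tp n (n - 1)) * y⁻¹) =
        ((d.a (tp n (n - 1)) : G)⁻¹ * y * d.a (tp n (n - 1))) * y⁻¹ by group]
    exact mul_mem (Normal.conj_mem' inferInstance y hyO _) (inv_mem hyO)
  obtain ⟨l, hl⟩ := h1
  have hb : ∀ m, d.b (2 * m) ∈ O.subgroupOf (S : Subgroup G) := by
    intro m
    obtain ⟨j, hj⟩ := d.exists_conj_b (2 * l) (m - l)
    rw [show 2 * m = 2 * l + 2 * (m - l) by ring, ← hj]
    exact Normal.conj_mem inferInstance _ hl _
  intro g hg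
  obtain ⟨m, rfl | rfl⟩ := d.mem_dih.1 hg
  · have e : d.a (2 * m) = d.b (2 * m) * d.b (2 * 0) := by rw [d.b_mul_b, mul_zero, mul_zero, add_zero]
    rw [e]
    exact mul_mem (hb m) (hb 0)
  · exact hb m

theorem quat_le_residual {U : Subgroup G} (e : U ≃* QuaternionGroup 2) (hU : U ≤ (S : Subgroup G)) {y : G}
    (hy : y ∈ normalizer (U : Set G)) (hco : Nat.Coprime (orderOf y) 2) (hne : y ∉ centralizer (U : Set G)) :
    d.quat ≤ (pResidual 2 G).subgroupOf (S : Subgroup G) := by
  obtain ⟨k, hk⟩ := quaternion_moves d e hU hy hco hne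
  have hyO : y ∈ pResidual 2 G := mem_pResidual_of_coprime hco
  set O := pResidual 2 G
  haveI : O.Normal := pResidual_normal
  obtain ⟨p, hp⟩ := quarter_even d
  have h1 : ∃ l, d.b (2 * l + 1) ∈ O.subgroupOf (S : Subgroup G) := by
    refine ⟨k - p, mem_subgroupOf.mpr ?_⟩
    have e : d.b (2 * (k - p) + 1) = (d.a (tp n (n - 2)))⁻¹ * d.b (2 * k + 1) := by
      rw [d.a_inv, d.a_mul_b, hp]; congr 1; ring
    rw [e, Subgroup.coe_mul, InvMemClass.coe_inv, ← hk,
      show (d.a (tp n (n - 2)) : G)⁻¹ * (y * d.a (tp n (n - 2)) * y⁻¹) =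
        ((d.a (tp n (n - 2)) : G)⁻¹ * y * d.a (tp n (n - 2))) * y⁻¹ by group]
    exact mul_mem (Normal.conj_mem' inferInstance y hyO _) (inv_mem hyO)
  obtain ⟨l, hl⟩ := h1
  have hb : ∀ m, d.b (2 * m + 1) ∈ O.subgroupOf (S : Subgroup G) := by
    intro m
    obtain ⟨j, hj⟩ := d.exists_conj_b (2 * l + 1) (m - l)
    rw [show 2 * m + 1 = 2 * l + 1 + 2 * (m - l) by ring, ← hj]
    exact Normal.conj_mem inferInstance _ hl _
  intro g hg
  obtain ⟨m, rfl | rfl⟩ := d.mem_quat.1 hg
  · have e : d.a (2 * m) = d.b (2 * (m - tp n (n - 2)) + 1) * d.b (2 * 0 + 1) := by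
      rw [d.b_mul_b, d.rexp_mul_odd, d.half_eq_two_mul]; congr 1; ring
    rw [e]
    exact mul_mem (hb _) (hb 0)
  · exact hb m

theorem conj_two_cases {t : G} (ht : orderOf t = 2) :
    IsConj t (d.a (tp n (n - 1)) : G) ∨ IsConj t (d.b 0 : G) := by
  haveI := Fact.mk Nat.prime_two
  obtain ⟨g, hg⟩ := exists_conj_mem_sylow S (k := 1) ((pow_one 2).symm ▸ ht)
  have h1 : orderOf (⟨_, hg⟩ : (S : Subgroup G)) = 2 := by
    rw [Subgroup.orderOf_mk, ← ht, ← MulAut.conj_apply, MulEquiv.orderOf_eq]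
  have h2 : IsConj t (g * t * g⁻¹) := isConj_iff.mpr ⟨g, rfl⟩
  rcases d.orderOf_eq_two_cases h1 with e | ⟨k, e⟩
  · exact Or.inl (h2.trans (congrArg Subtype.val e ▸ IsConj.refl _))
  · refine Or.inr (h2.trans ?_)
    rw [show g * t * g⁻¹ = (d.b (2 * k) : G) from congrArg Subtype.val e]
    obtain ⟨j, hj⟩ := d.exists_conj_b (2 * k) (-k)
    exact isConj_coe (S := S) ⟨d.a j, by rw [hj]; congr 1; ring⟩

theorem conj_four_cases {t : G} (ht : orderOf t = 4) :
    IsConj t (d.a (tp n (n - 2)) : G) ∨ IsConj t (d.b 1 : G) := by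
  haveI := Fact.mk Nat.prime_two
  obtain ⟨g, hg⟩ := exists_conj_mem_sylow S (k := 2) (ht.trans (by norm_num))
  have h1 : orderOf (⟨_, hg⟩ : (S : Subgroup G)) = 4 := by
    rw [Subgroup.orderOf_mk, ← ht, ← MulAut.conj_apply, MulEquiv.orderOf_eq]
  have h2 : IsConj t (g * t * g⁻¹) := isConj_iff.mpr ⟨g, rfl⟩
  rcases orderOf_eq_four_cases d h1 with e | e | ⟨k, e⟩
  · exact Or.inl (h2.trans (congrArg Subtype.val e ▸ IsConj.refl _))
  · refine Or.inl (h2.trans ?_)
    rw [show g * t * g⁻¹ = (d.a (-tp n (n - 2)) : G) from congrArg Subtype.val e]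
    exact isConj_coe (S := S) ⟨d.b 0, by rw [d.conj_b_a, mul_neg, rexp_mul_quarter, neg_neg]⟩
  · refine Or.inr (h2.trans ?_)
    rw [show g * t * g⁻¹ = (d.b (2 * k + 1) : G) from congrArg Subtype.val e]
    obtain ⟨j, hj⟩ := d.exists_conj_b (2 * k + 1) (-k)
    exact isConj_coe (S := S) ⟨d.a j, by rw [hj]; congr 1; ring⟩

include d in
/-- Subgroups of `S` with an automizer not coming from `S`. -/
theorem qd_agrees_or {R : Subgroup G} (hR : IsFullyNormalized 2 (S : Subgroup G) R) :
    Agrees (S : Subgroup G) R ∨ IsKleinFour R ∨ Nonempty (R ≃* QuaternionGroup 2) := by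
  have e := subgroupOfEquivOfLe hR.1
  rcases qd_subgroup_cases d (R.subgroupOf (S : Subgroup G)) with h | h | h
  · exact Or.inl (agrees_of_isPGroup_mulAut hR (isPGroup_mulAut_of_equiv e.symm h))
  · exact Or.inr (Or.inl (isKleinFour_congr e h))
  · exact Or.inr (Or.inr (h.map e.symm.trans))

omit [Finite G] in
theorem exists_conj_eq_of_shape {T R : Subgroup G} (hT : T ≤ (S : Subgroup G)) (hR : R ≤ (S : Subgroup G))
    {q i j : ZMod (2 ^ n)} (h1 : Shape d (T.subgroupOf (S : Subgroup G)) q i)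
    (h2 : Shape d (R.subgroupOf (S : Subgroup G)) q j) (hpar : ∃ l, j = i + 2 * l) :
    ∃ g : G, T.map (MulAut.conj g).toMonoidHom = R := by
  obtain ⟨s, hs⟩ := h1.exists_conj h2 hpar
  have e : (MulAut.conj (s : G)).toMonoidHom.comp (S : Subgroup G).subtype =
      (S : Subgroup G).subtype.comp (MulAut.conj s).toMonoidHom := MonoidHom.ext fun _ => rfl
  refine ⟨s, ?_⟩
  rw [← map_subgroupOf_eq_of_le hT, map_map, e, ← map_map, hs, map_subgroupOf_eq_of_le hR]

omit [Finite G] in
/-- Absence of odd automorphisms passes to conjugates. -/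
theorem centralizes_conj {T : Subgroup G} {g : G}
    (h : ∀ y ∈ normalizer (T : Set G), Nat.Coprime (orderOf y) 2 → y ∈ centralizer (T : Set G)) {n : G}
    (hn : n ∈ normalizer (T.map (MulAut.conj g).toMonoidHom : Set G)) (hco : Nat.Coprime (orderOf n) 2) :
    n ∈ centralizer (T.map (MulAut.conj g).toMonoidHom : Set G) := by
  rw [← map_conj_normalizer] at hn
  have hn' := mem_map_conj_iff.mp hn
  have hc := h _ hn' (by
    rw [show g⁻¹ * n * g = MulAut.conj g⁻¹ n by simp, MulEquiv.orderOf_eq]; exact hco)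
  refine mem_centralizer_iff.mpr ?_
  rintro _ ⟨x, hx, rfl⟩
  have e := mem_centralizer_iff.mp hc x hx
  change g * x * g⁻¹ * n = n * (g * x * g⁻¹)
  calc g * x * g⁻¹ * n = g * (x * (g⁻¹ * n * g)) * g⁻¹ := by group
    _ = g * ((g⁻¹ * n * g) * x) * g⁻¹ := by rw [e]
    _ = _ := by group

include d in
theorem agrees_klein {T : Subgroup G} (hTK : IsKleinFour T) (hT : T ≤ (S : Subgroup G))
    (h : ∀ y ∈ normalizer (T : Set G), Nat.Coprime (orderOf y) 2 → y ∈ centralizer (T : Set G))
    {R : Subgroup G} (hR : IsFullyNormalized 2 (S : Subgroup G) R) (hRK : IsKleinFour R) :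
    Agrees (S : Subgroup G) R := by
  haveI := Fact.mk Nat.prime_two
  obtain ⟨i, hi⟩ := d.klein_shape (isKleinFour_congr (subgroupOfEquivOfLe hT).symm hTK)
  obtain ⟨j, hj⟩ := d.klein_shape (isKleinFour_congr (subgroupOfEquivOfLe hR.1).symm hRK)
  obtain ⟨g, rfl⟩ := exists_conj_eq_of_shape d hT hR.1 hi hj ⟨j - i, by ring⟩
  exact agrees_of_coprime_centralize hR fun y hy hco => centralizes_conj h hy hco

include d in
theorem agrees_quaternion {T : Subgroup G} (eT : T ≃* QuaternionGroup 2) (hT : T ≤ (S : Subgroup G))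
    (h : ∀ y ∈ normalizer (T : Set G), Nat.Coprime (orderOf y) 2 → y ∈ centralizer (T : Set G))
    {R : Subgroup G} (hR : IsFullyNormalized 2 (S : Subgroup G) R) (eR : R ≃* QuaternionGroup 2) :
    Agrees (S : Subgroup G) R := by
  haveI := Fact.mk Nat.prime_two
  obtain ⟨i, hi⟩ := d.quaternion_shape ((subgroupOfEquivOfLe hT).trans eT)
  obtain ⟨j, hj⟩ := d.quaternion_shape ((subgroupOfEquivOfLe hR.1).trans eR)
  obtain ⟨g, rfl⟩ := exists_conj_eq_of_shape d hT hR.1 hi hj ⟨j - i, by ring⟩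
  exact agrees_of_coprime_centralize hR fun y hy hco => centralizes_conj h hy hco

/-- Only one maximal subgroup of `S` lies in `O^2(G)`, which then has index two. -/
theorem residual_of_maximal {M : Subgroup (S : Subgroup G)} (hM : IsCoatom M)
    (hMi : M.index = 2) (hle : M ≤ (pResidual 2 G).subgroupOf (S : Subgroup G))
    (hker : (commutator G).subgroupOf (S : Subgroup G) ≤ M) :
    (pResidual 2 G).index = 2 ∧ (∀ H : Subgroup (pResidual 2 G), H.index ≠ 2) ∧
      ∀ P : Sylow 2 (pResidual 2 G), Nonempty ((P : Subgroup (pResidual 2 G)) ≃* M) := by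
  haveI := Fact.mk Nat.prime_two
  set O := pResidual 2 G
  haveI : O.Normal := pResidual_normal
  have hO : O ≠ ⊤ := by
    intro htop
    have h1 := (pResidual_eq_top_iff S).mp htop
    exact hM.1 (top_le_iff.mp fun x _ => hker (mem_subgroupOf.mpr (h1 x.2)))
  have heq : O.subgroupOf (S : Subgroup G) = M := by
    rcases eq_or_lt_of_le hle with h | h
    · exact h.symm
    · exfalso
      apply hO
      rw [← sylow_sup_eq_top S, sup_eq_right.mpr]
      exact subgroupOf_eq_top.mp (hM.2 _ h)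
  have hidx : O.index = 2 := by
    rw [← relIndex_top_right O, ← sylow_sup_eq_top S, relIndex_sup_right]
    change (O.subgroupOf (S : Subgroup G)).index = 2
    rw [heq, hMi]
  refine ⟨hidx, fun H hH => ?_, fun P => ?_⟩
  · exact exists_index_two_iff.mp ⟨H, hH⟩ (pResidual_pResidual (G := G) (p := 2))
  · have hnd : ¬ 2 ∣ ((S : Subgroup G).subgroupOf O).index := by
      intro h
      have h' : (S : Subgroup G).relIndex O * O.index = ((S : Subgroup G) ⊓ O).index := by
        rw [← inf_relIndex_right, relIndex_mul_index inf_le_right]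
      have h'' : ((S : Subgroup G) ⊓ O).index = (S : Subgroup G).index * 2 := by
        rw [← relIndex_mul_index (inf_le_left : (S : Subgroup G) ⊓ O ≤ (S : Subgroup G)), mul_comm,
          inf_relIndex_left]
        congr 1
        change (O.subgroupOf (S : Subgroup G)).index = 2
        rw [heq, hMi]
      rw [hidx, h''] at h'
      exact S.not_dvd_index (Nat.eq_of_mul_eq_mul_right two_pos h' ▸ h)
    have hp : IsPGroup 2 ((S : Subgroup G).subgroupOf O) :=
      S.2.comap_of_injective O.subtype O.subtype_injective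
    refine ⟨((P.equiv (hp.toSylow hnd)).trans ?_)⟩
    refine (equivMapOfInjective _ O.subtype O.subtype_injective).trans ?_
    refine (MulEquiv.subgroupCongr ?_).trans (equivMapOfInjective M _ (S : Subgroup G).subtype_injective).symm
    rw [IsPGroup.toSylow_coe, subgroupOf_map_subtype, ← heq, subgroupOf_map_subtype, inf_comm]

omit [Finite G] in
theorem klein_sup_centralizer {T : Subgroup G} (hT : IsKleinFour T) :
    T ⊔ centralizer (T : Set G) = centralizer (T : Set G) := by
  refine sup_eq_right.mpr fun x hx => mem_centralizer_iff.mpr fun y hy => ?_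
  have := hT.isMulCommutative.is_comm.comm (⟨y, hy⟩ : T) ⟨x, hx⟩
  exact congrArg Subtype.val this

/-- Elements of `S` separated by an invariant character are not conjugate in `G`. -/
theorem not_isConj_of_invariant {A : Type*} [CommGroup A] (χ : (S : Subgroup G) →* A)
    (key : ∀ (q g : G) (hq : q ∈ (S : Subgroup G)) (hgq : g * q * g⁻¹ ∈ (S : Subgroup G)),
      χ ⟨g * q * g⁻¹, hgq⟩ = χ ⟨q, hq⟩) {x y : (S : Subgroup G)} (h : χ x ≠ χ y) :
    ¬ IsConj (x : G) (y : G) := by
  intro hc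
  obtain ⟨g, hg⟩ := isConj_iff.mp hc
  refine h ((key x g x.2 (hg ▸ y.2)).symm.trans (congrArg χ (Subtype.ext hg)))

theorem klein_no_odd {T : Subgroup G} (hT : IsKleinFour T)
    (h : (centralizer (T : Set G)).relIndex (normalizer (T : Set G)) = 2) :
    ∀ y ∈ normalizer (T : Set G), Nat.Coprime (orderOf y) 2 → y ∈ centralizer (T : Set G) := by
  haveI := Fact.mk Nat.prime_two
  exact fun y hy hco => centralizes_of_relIndex (k := 1) (IsPGroup.of_card (n := 2) (by rw [hT.card_four]; rfl))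
    (by rw [klein_sup_centralizer hT, h, pow_one]) hy hco

theorem klein_odd {T : Subgroup G} (hT : IsKleinFour T)
    (h : (centralizer (T : Set G)).relIndex (normalizer (T : Set G)) = 6) :
    ∃ y ∈ normalizer (T : Set G), Nat.Coprime (orderOf y) 2 ∧ y ∉ centralizer (T : Set G) := by
  haveI := Fact.mk Nat.prime_two
  exact exists_odd_of_dvd_relIndex (q := 3) Nat.prime_three (by norm_num)
    (by rw [klein_sup_centralizer hT, h]; norm_num)

theorem quaternion_no_odd {Q : Subgroup G} (e : Q ≃* QuaternionGroup 2)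
    (h : (Q ⊔ centralizer (Q : Set G)).relIndex (normalizer (Q : Set G)) = 2) :
    ∀ y ∈ normalizer (Q : Set G), Nat.Coprime (orderOf y) 2 → y ∈ centralizer (Q : Set G) := by
  haveI := Fact.mk Nat.prime_two
  refine fun y hy hco => centralizes_of_relIndex (k := 1) (IsPGroup.of_card (n := 3) ?_)
    (by rw [h, pow_one]) hy hco
  rw [Nat.card_congr e.toEquiv, Nat.card_eq_fintype_card, QuaternionGroup.card]
  rfl

theorem quaternion_odd {Q : Subgroup G}
    (h : (Q ⊔ centralizer (Q : Set G)).relIndex (normalizer (Q : Set G)) = 6) :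
    ∃ y ∈ normalizer (Q : Set G), Nat.Coprime (orderOf y) 2 ∧ y ∉ centralizer (Q : Set G) := by
  haveI := Fact.mk Nat.prime_two
  exact exists_odd_of_dvd_relIndex (q := 3) Nat.prime_three (by norm_num) (by rw [h]; norm_num)

end Cfsg.Agent.Transfer.SD
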