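-- Fusion in groups with wreathed Sylow 2-subgroups.
--
-- Main results (namespace `Cfsg.Agent.Transfer.WR`, `d : WrData S n`):
-- * `centric_odd_cases`, `base_free_or`, `kpre_free_or`
-- * `base_odd`, `kpre_odd`: fusion and hyperfocal consequences of an odd automorphism
-- * `base_invariant`, `chi_invariant`, `center_fixed`: invariants when an automizer is a 2-group
-- * `quaternion_case`, `weaklyClosed_of_fixed`, `involution_conj_cases`
import Cfsg.Agent.Lib.Transfer.Centric
import Cfsg.Agent.Lib.Transfer.WreathedStructure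

set_option autoImplicit false

namespace Cfsg.Agent.Transfer.WR

open Subgroup
open QDWreath QDWreath.WrData

variable {G : Type*} [Group G] [Finite G]

/-- No element of odd order induces a nontrivial automorphism of `R`. -/
def OddFree (R : Subgroup G) : Prop :=
  ∀ y ∈ normalizer (R : Set G), Nat.Coprime (orderOf y) 2 → y ∈ centralizer (R : Set G)

omit [Finite G] in
theorem not_oddFree {R : Subgroup G}
    (h : ∃ y ∈ normalizer (R : Set G), Nat.Coprime (orderOf y) 2 ∧ y ∉ centralizer (R : Set G)) :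
    ¬ OddFree R := fun hf => by obtain ⟨y, hy, hco, hn⟩ := h; exact hn (hf y hy hco)

omit [Finite G] in
theorem exists_of_not_oddFree {R : Subgroup G} (h : ¬ OddFree R) :
    ∃ y ∈ normalizer (R : Set G), Nat.Coprime (orderOf y) 2 ∧ y ∉ centralizer (R : Set G) := by
  simpa only [OddFree, not_forall, exists_prop] using h

omit [Finite G] in
theorem sup_centralizer_of_comm {U : Subgroup G} (hU : IsMulCommutative U) :
    U ⊔ centralizer (U : Set G) = centralizer (U : Set G) := by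
  refine sup_eq_right.mpr fun x hx => mem_centralizer_iff.mpr fun y hy => ?_
  exact congrArg Subtype.val (hU.is_comm.comm (⟨y, hy⟩ : U) ⟨x, hx⟩)

theorem oddFree_of_relIndex {R : Subgroup G} (hR : IsPGroup 2 R)
    (h : (R ⊔ centralizer (R : Set G)).relIndex (normalizer (R : Set G)) = 2) : OddFree R := by
  have := Fact.mk Nat.prime_two
  exact fun y hy hco => centralizes_of_relIndex (k := 1) hR (by rw [h, pow_one]) hy hco

theorem not_oddFree_of_relIndex {R : Subgroup G}
    (h : (R ⊔ centralizer (R : Set G)).relIndex (normalizer (R : Set G)) = 6) : ¬ OddFree R := by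
  have := Fact.mk Nat.prime_two
  exact not_oddFree (exists_odd_of_dvd_relIndex (q := 3) Nat.prime_three (by norm_num) (by rw [h]; norm_num))

omit [Finite G] in
theorem oddFree_conj {R : Subgroup G} (h : OddFree R) (g : G) :
    OddFree (R.map (MulAut.conj g).toMonoidHom) := by
  intro n hn hco
  rw [← map_conj_normalizer] at hn
  have hn' := mem_map_conj_iff.mp hn
  have hc := h _ hn' (by
    rw [show g⁻¹ * n * g = MulAut.conj g⁻¹ n by simp, MulEquiv.orderOf_eq]; exact hco)
  refine mem_centralizer_iff.mpr ?_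
  rintro _ ⟨x, hx, rfl⟩
  have e := mem_centralizer_iff.mp hc x hx
  change g * x * g⁻¹ * n = n * (g * x * g⁻¹)
  calc g * x * g⁻¹ * n = g * (x * (g⁻¹ * n * g)) * g⁻¹ := by group
    _ = g * ((g⁻¹ * n * g) * x) * g⁻¹ := by rw [e]
    _ = _ := by group

variable {S : Sylow 2 G} {n : ℕ} (d : WrData (S : Subgroup G) n)

omit [Finite G] in
/-- The automorphism of a subgroup of `S` induced by a normalizing element of odd order. -/
theorem exists_aut {R : Subgroup G} (hR : R ≤ (S : Subgroup G)) {y : G} (hy : y ∈ normalizer (R : Set G))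
    (hco : Nat.Coprime (orderOf y) 2) :
    ∃ α : MulAut (R.subgroupOf (S : Subgroup G)), Nat.Coprime (orderOf α) 2 ∧
      ∀ x : R.subgroupOf (S : Subgroup G), ((α x : (S : Subgroup G)) : G) = y * ((x : (S : Subgroup G)) : G) * y⁻¹ := by
  refine ⟨MulAut.congr (subgroupOfEquivOfLe hR).symm (R.normalizerMonoidHom ⟨y, hy⟩),
    Nat.Coprime.coprime_dvd_left ?_ hco, fun x => ?_⟩
  · rw [MulEquiv.orderOf_eq]
    exact (orderOf_map_dvd _ _).trans (Subgroup.orderOf_mk y hy).dvd
  · rfl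

omit [Finite G] in
theorem centralizes_of_aut_eq_one {R : Subgroup G} (hR : R ≤ (S : Subgroup G)) {y : G}
    {α : MulAut (R.subgroupOf (S : Subgroup G))}
    (he : ∀ x : R.subgroupOf (S : Subgroup G), ((α x : (S : Subgroup G)) : G) = y * ((x : (S : Subgroup G)) : G) * y⁻¹)
    (h : α = 1) : y ∈ centralizer (R : Set G) := by
  refine mem_centralizer_iff.mpr fun q hq => (mul_inv_eq_iff_eq_mul.mp ?_).symm
  have := he ⟨⟨q, hR hq⟩, mem_subgroupOf.mpr hq⟩
  rw [h] at this
  exact this.symm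

include d in
/-- Centric subgroups with an odd automorphism. -/
theorem centric_odd_cases {R : Subgroup G} (hR : IsCentricIn (S : Subgroup G) R) :
    OddFree R ∨ R.subgroupOf (S : Subgroup G) = d.base ∨
      ∃ c, R.subgroupOf (S : Subgroup G) = kpre d (2 * c) := by
  have := Fact.mk Nat.prime_two
  have hc : centralizer (R.subgroupOf (S : Subgroup G) : Set (S : Subgroup G)) ≤ R.subgroupOf (S : Subgroup G) :=
    fun x hx => mem_subgroupOf.mpr (hR.2 ⟨x.2, mem_centralizer_iff.mpr fun q hq =>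
      congrArg Subtype.val (mem_centralizer_iff.mp hx ⟨q, hR.1 hq⟩ (mem_subgroupOf.mpr hq))⟩)
  rcases centric_cases d hc with h | h | h
  · exact Or.inl fun y hy hco =>
      centralizes_of_isPGroup_mulAut (isPGroup_mulAut_of_equiv (subgroupOfEquivOfLe hR.1).symm h) hy hco
  · exact Or.inr (Or.inl h)
  · exact Or.inr (Or.inr h)

omit [Finite G] in
theorem subgroupOf_base {U : Subgroup G} (hU : U ≤ (S : Subgroup G)) (hc : IsMulCommutative U)
    (hcard : Nat.card U = 2 ^ (2 * n)) : U.subgroupOf (S : Subgroup G) = d.base := by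
  refine d.eq_base_of_comm ⟨⟨fun x y => ?_⟩⟩
    (by rw [Nat.card_congr (subgroupOfEquivOfLe hU).toEquiv, hcard])
  apply (subgroupOfEquivOfLe hU).injective
  rw [map_mul, map_mul]
  exact hc.is_comm.comm _ _

omit [Finite G] in
theorem subgroupOf_kpre {Q : Subgroup G} (hQ : Q ≤ (S : Subgroup G)) (e : Q ≃* QuaternionGroup 2) :
    (Q ⊔ (Subgroup.center (S : Subgroup G)).map (S : Subgroup G).subtype) ≤ (S : Subgroup G) ∧
      ∃ c, (Q ⊔ (Subgroup.center (S : Subgroup G)).map (S : Subgroup G).subtype).subgroupOf (S : Subgroup G) =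
        kpre d (2 * c) := by
  refine ⟨sup_le hQ (map_subtype_le _), ?_⟩
  obtain ⟨c, hc, -⟩ := exists_kpre_of_quaternion d ((subgroupOfEquivOfLe hQ).trans e)
  refine ⟨c, ?_⟩
  rw [subgroupOf_sup hQ (map_subtype_le _), ← hc]
  congr 1
  exact comap_map_eq_self_of_injective (S : Subgroup G).subtype_injective _

omit [Finite G] in
theorem eq_of_subgroupOf {A B : Subgroup G} (hA : A ≤ (S : Subgroup G)) (hB : B ≤ (S : Subgroup G))
    (h : A.subgroupOf (S : Subgroup G) = B.subgroupOf (S : Subgroup G)) : A = B := by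
  rw [← map_subgroupOf_eq_of_le hA, h, map_subgroupOf_eq_of_le hB]

/-- When `⟨x, y⟩` has no odd automorphism, centric subgroups of the shape `base` are harmless. -/
theorem oddFree_base {U : Subgroup G} (hU : U ≤ (S : Subgroup G)) (hUb : U.subgroupOf (S : Subgroup G) = d.base)
    (hf : OddFree U) {R : Subgroup G} (hR : R ≤ (S : Subgroup G)) (hRb : R.subgroupOf (S : Subgroup G) = d.base) :
    OddFree R :=
  eq_of_subgroupOf hU hR (hUb.trans hRb.symm) ▸ hf

omit [Finite G] in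
theorem oddFree_kpre {X : Subgroup G} (hX : X ≤ (S : Subgroup G)) {c : ZMod (2 ^ n)}
    (hXk : X.subgroupOf (S : Subgroup G) = kpre d (2 * c)) (hf : OddFree X) {R : Subgroup G}
    (hR : R ≤ (S : Subgroup G)) {c' : ZMod (2 ^ n)} (hRk : R.subgroupOf (S : Subgroup G) = kpre d (2 * c')) :
    OddFree R := by
  obtain ⟨s, hs⟩ := exists_kpre_conj d c c'
  have e : (MulAut.conj (s : G)).toMonoidHom.comp (S : Subgroup G).subtype =
      (S : Subgroup G).subtype.comp (MulAut.conj s).toMonoidHom := MonoidHom.ext fun _ => rfl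
  have : X.map (MulAut.conj (s : G)).toMonoidHom = R := by
    rw [← map_subgroupOf_eq_of_le hX, map_map, e, ← map_map, hXk, hs, ← hRk, map_subgroupOf_eq_of_le hR]
  exact this ▸ oddFree_conj hf _

omit [Finite G] in
theorem isConj_coe {x y : (S : Subgroup G)} (h : ∃ s, s * x * s⁻¹ = y) : IsConj (x : G) (y : G) := by
  obtain ⟨s, rfl⟩ := h
  exact isConj_iff.mpr ⟨s, rfl⟩

/-- An odd automorphism of `⟨x, y⟩`: the two classes of its involutions fuse and it lies in `O^2(G)`. -/
theorem base_odd {U : Subgroup G} (hU : U ≤ (S : Subgroup G)) (hUb : U.subgroupOf (S : Subgroup G) = d.base)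
    (hf : ¬ OddFree U) :
    IsConj (d.a (tp n (n - 1)) (tp n (n - 1)) : G) (d.a (tp n (n - 1)) 0 : G) ∧
      d.base ≤ (pResidual 2 G).subgroupOf (S : Subgroup G) := by
  obtain ⟨y, hy, hco, hne⟩ := exists_of_not_oddFree hf
  have hyO : y ∈ pResidual 2 G := mem_pResidual_of_coprime hco
  haveI : (pResidual 2 G).Normal := pResidual_normal
  obtain ⟨α, hαco, hα⟩ := exists_aut hU hy hco
  rcases base_aut d hUb α hαco with h | ⟨hfus, hsurj⟩
  · exact absurd (centralizes_of_aut_eq_one hU hα h) hne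
  refine ⟨?_, fun x hx => ?_⟩
  · obtain ⟨u, hu⟩ : ∃ u : U.subgroupOf (S : Subgroup G),
        (u : (S : Subgroup G)) = d.a (tp n (n - 1)) (tp n (n - 1)) :=
      ⟨⟨_, hUb ▸ d.mem_base.mpr ⟨_, _, rfl⟩⟩, rfl⟩
    have h1 : IsConj (d.a (tp n (n - 1)) (tp n (n - 1)) : G) ((α u : (S : Subgroup G)) : G) := by
      rw [hα, hu]
      exact isConj_iff.mpr ⟨y, rfl⟩
    rcases hfus u hu with e | e
    · rwa [e] at h1
    · rw [e] at h1
      exact h1.trans (isConj_coe ⟨d.b 0 0, u2_conj d⟩)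
  · obtain ⟨g, hg⟩ := hsurj ⟨x, hUb ▸ hx⟩
    refine mem_subgroupOf.mpr ?_
    have := congrArg (fun z : U.subgroupOf (S : Subgroup G) => ((z : (S : Subgroup G)) : G)) hg
    simp only [Subgroup.coe_mul, InvMemClass.coe_inv, hα] at this
    rw [← this, mul_assoc y, mul_assoc y, mul_assoc ((g : (S : Subgroup G)) : G)]
    exact mul_mem hyO (by
      rw [← mul_assoc]
      exact Normal.conj_mem inferInstance _ (inv_mem hyO) _)

/-- An odd automorphism of `Q Z(S)`: `u₂` fuses with `v` and the quaternion maximal-class subgroup lies in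
`O^2(G)`. -/
theorem kpre_odd {X : Subgroup G} (hX : X ≤ (S : Subgroup G)) {c : ZMod (2 ^ n)}
    (hXk : X.subgroupOf (S : Subgroup G) = kpre d (2 * c)) (hf : ¬ OddFree X) :
    IsConj (d.a (tp n (n - 1)) 0 : G) (d.b 0 0 : G) ∧
      (chi d).ker ≤ (pResidual 2 G).subgroupOf (S : Subgroup G) := by
  obtain ⟨y, hy, hco, hne⟩ := exists_of_not_oddFree hf
  have hyO : y ∈ pResidual 2 G := mem_pResidual_of_coprime hco
  set O := pResidual 2 G
  haveI : O.Normal := pResidual_normal
  obtain ⟨α, hαco, hα⟩ := exists_aut hX hy hco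
  rcases (kpre_aut d hXk α hαco).2 with h | ⟨-, hmove, -⟩
  · exact absurd (centralizes_of_aut_eq_one hX hα h) hne
  obtain ⟨w, hw⟩ : ∃ w : X.subgroupOf (S : Subgroup G), (w : (S : Subgroup G)) = d.a (tp n (n - 1)) 0 :=
    ⟨⟨_, hXk ▸ u2_mem_kpre d _⟩, rfl⟩
  obtain ⟨k, hk⟩ := hmove w hw
  have hyw : y * (d.a (tp n (n - 1)) 0 : G) * y⁻¹ = d.b k (-k) := by rw [← hw, ← hk, hα]
  refine ⟨(isConj_iff.mpr ⟨y, hyw⟩).trans (isConj_coe ⟨_, v_conj d k⟩), ?_⟩
  have h1 : ∃ l, d.b l (tp n (n - 1) - l) ∈ O.subgroupOf (S : Subgroup G) := by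
    refine ⟨-tp n (n - 1) + k, mem_subgroupOf.mpr ?_⟩
    have e : d.b (-tp n (n - 1) + k) (tp n (n - 1) - (-tp n (n - 1) + k)) =
        (d.a (tp n (n - 1)) 0)⁻¹ * d.b k (-k) := by
      rw [d.a_inv, d.a_mul_b, d.b_inj]; exact ⟨rfl, by linear_combination half_mul d⟩
    rw [e, Subgroup.coe_mul, InvMemClass.coe_inv, ← hyw,
      show (d.a (tp n (n - 1)) 0 : G)⁻¹ * (y * d.a (tp n (n - 1)) 0 * y⁻¹) =
        ((d.a (tp n (n - 1)) 0 : G)⁻¹ * y * d.a (tp n (n - 1)) 0) * y⁻¹ by group]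
    exact mul_mem (Normal.conj_mem' inferInstance y hyO _) (inv_mem hyO)
  obtain ⟨l, hl⟩ := h1
  have hb : ∀ i, d.b i (tp n (n - 1) - i) ∈ O.subgroupOf (S : Subgroup G) := by
    intro i
    have e : d.a (i - l) 0 * d.b l (tp n (n - 1) - l) * (d.a (i - l) 0)⁻¹ = d.b i (tp n (n - 1) - i) := by
      rw [d.conj_a_b, d.b_inj]; exact ⟨by ring, by ring⟩
    rw [← e]
    exact Normal.conj_mem inferInstance _ hl _
  intro g hg
  obtain ⟨i, rfl | rfl⟩ := (mem_ker_chi d).mp hg
  · have e : d.a i (-i) = d.b (i - tp n (n - 1)) (tp n (n - 1) - (i - tp n (n - 1))) *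
        d.b 0 (tp n (n - 1) - 0) := by
      rw [d.b_mul_b, d.a_inj]; exact ⟨by ring, by linear_combination -half_mul d⟩
    rw [e]
    exact mul_mem (hb _) (hb 0)
  · exact hb i

/-- If `Q Z(S)` has no odd automorphism then the character with kernel `⟨x, y⟩` is invariant. -/
theorem base_invariant {X : Subgroup G} (hX : X ≤ (S : Subgroup G)) {c : ZMod (2 ^ n)}
    (hXk : X.subgroupOf (S : Subgroup G) = kpre d (2 * c)) (hf : OddFree X) (q g : G)
    (hq : q ∈ (S : Subgroup G)) (hgq : g * q * g⁻¹ ∈ (S : Subgroup G)) :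
    indexTwoHom d.base (base_index d) ⟨g * q * g⁻¹, hgq⟩ = indexTwoHom d.base (base_index d) ⟨q, hq⟩ := by
  have := Fact.mk Nat.prime_two
  refine character_invariant S _ (fun R hR y hy hco r hr hr' hrR => ?_) q g hq hgq
  have triv : OddFree R → indexTwoHom d.base (base_index d) ⟨y * r * y⁻¹, hr'⟩ =
      indexTwoHom d.base (base_index d) ⟨r, hr⟩ := fun h => by
    congr 1
    exact Subtype.ext (mul_inv_eq_iff_eq_mul.mpr (mem_centralizer_iff.mp (h y hy hco) r hrR).symm)
  rcases centric_odd_cases d hR with h | h | ⟨c', h⟩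
  · exact triv h
  · have e : ∀ s, (hs : s ∈ R) → indexTwoHom d.base (base_index d) ⟨s, hR.1 hs⟩ = 1 := fun s hs => by
      rw [← MonoidHom.mem_ker, indexTwoHom_ker, ← h]
      exact mem_subgroupOf.mpr hs
    rw [e r hrR, e _ ((mem_normalizer_iff.mp hy r).mp hrR)]
  · exact triv (oddFree_kpre d hX hXk hf hR.1 h)

/-- If `⟨x, y⟩` has no odd automorphism then the character with quaternion kernel is invariant. -/
theorem chi_invariant {U : Subgroup G} (hU : U ≤ (S : Subgroup G)) (hUb : U.subgroupOf (S : Subgroup G) = d.base)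
    (hf : OddFree U) (q g : G) (hq : q ∈ (S : Subgroup G)) (hgq : g * q * g⁻¹ ∈ (S : Subgroup G)) :
    chi d ⟨g * q * g⁻¹, hgq⟩ = chi d ⟨q, hq⟩ := by
  have := Fact.mk Nat.prime_two
  refine character_invariant S _ (fun R hR y hy hco r hr hr' hrR => ?_) q g hq hgq
  have triv : OddFree R → chi d ⟨y * r * y⁻¹, hr'⟩ = chi d ⟨r, hr⟩ := fun h => by
    congr 1
    exact Subtype.ext (mul_inv_eq_iff_eq_mul.mpr (mem_centralizer_iff.mp (h y hy hco) r hrR).symm)
  rcases centric_odd_cases d hR with h | h | ⟨c', h⟩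
  · exact triv h
  · exact triv (oddFree_base d hU hUb hf hR.1 h)
  · obtain ⟨α, hαco, hα⟩ := exists_aut hR.1 hy hco
    rcases (kpre_aut d h α hαco).2 with h1 | ⟨-, -, h1⟩
    · exact congrArg (chi d) (Subtype.ext (mul_inv_eq_iff_eq_mul.mpr
        (mem_centralizer_iff.mp (centralizes_of_aut_eq_one hR.1 hα h1) r hrR).symm))
    · have := h1 ⟨⟨r, hr⟩, mem_subgroupOf.mpr hrR⟩
      rwa [show (α ⟨⟨r, hr⟩, mem_subgroupOf.mpr hrR⟩ : (S : Subgroup G)) = ⟨y * r * y⁻¹, hr'⟩ from
        Subtype.ext (hα _)] at this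

open Classical in
/-- If `⟨x, y⟩` has no odd automorphism then no central element of `S` is conjugate to another element of `S`. -/
theorem center_fixed {U : Subgroup G} (hU : U ≤ (S : Subgroup G)) (hUb : U.subgroupOf (S : Subgroup G) = d.base)
    (hf : OddFree U) {q g : G} (hq : q ∈ (Subgroup.center (S : Subgroup G)).map (S : Subgroup G).subtype)
    (hgq : g * q * g⁻¹ ∈ (S : Subgroup G)) : g * q * g⁻¹ = q := by
  have := Fact.mk Nat.prime_two
  set W := (Subgroup.center (S : Subgroup G)).map (S : Subgroup G).subtype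
  have hW : ∀ w ∈ W, ∀ s ∈ (S : Subgroup G), s * w * s⁻¹ = w := by
    rintro _ ⟨w, hw, rfl⟩ s hs
    exact mul_inv_eq_iff_eq_mul.mpr (congrArg Subtype.val (Subgroup.mem_center_iff.mp hw ⟨s, hs⟩))
  have h := fusion_invariant_fun S (fun g => if g ∈ W then some g else none) ?_ ?_
    (map_subtype_le _ hq) hgq
  · simp only [hq, if_true] at h
    split_ifs at h with hm
    exact Option.some.inj h
  · intro u hu r hr
    by_cases h1 : r ∈ W
    · rw [hW r h1 u hu]
    · rw [if_neg h1, if_neg]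
      intro h2
      apply h1
      have h3 := hW _ h2 u hu
      have h4 : u * r * u⁻¹ = r := mul_left_cancel (mul_right_cancel h3)
      rwa [h4] at h2
  · intro R hR y hy hco r hr
    have hfix : ∀ w ∈ R, w ∈ W → y * w * y⁻¹ = w := by
      intro w hw hwW
      rcases centric_odd_cases d hR with h | h | ⟨c', h⟩
      · exact mul_inv_eq_iff_eq_mul.mpr (mem_centralizer_iff.mp (h y hy hco) w hw).symm
      · exact mul_inv_eq_iff_eq_mul.mpr
          (mem_centralizer_iff.mp (oddFree_base d hU hUb hf hR.1 h y hy hco) w hw).symm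
      · obtain ⟨α, hαco, hα⟩ := exists_aut hR.1 hy hco
        obtain ⟨z, hz, hzw⟩ := hwW
        have h2 := (kpre_aut d h α hαco).1 ⟨⟨w, hR.1 hw⟩, mem_subgroupOf.mpr hw⟩
          ((Subtype.ext hzw.symm : (⟨w, hR.1 hw⟩ : (S : Subgroup G)) = z) ▸ hz)
        rw [← hα ⟨⟨w, hR.1 hw⟩, mem_subgroupOf.mpr hw⟩, h2]
    by_cases h1 : r ∈ W
    · rw [hfix r hr h1]
    · rw [if_neg h1, if_neg]
      intro h2
      apply h1
      have hm := (mem_normalizer_iff.mp hy r).mp hr
      have h4 : y * r * y⁻¹ = r := mul_left_cancel (mul_right_cancel (hfix _ hm h2))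
      rwa [h4] at h2

/-- Weak closure of the subgroups of the centre. -/
theorem weaklyClosed_of_fixed
    (hfix : ∀ q ∈ (Subgroup.center (S : Subgroup G)).map (S : Subgroup G).subtype, ∀ g : G,
      g * q * g⁻¹ ∈ (S : Subgroup G) → g * q * g⁻¹ = q)
    {Z₀ : Subgroup G} (hZ : Z₀ ≤ (Subgroup.center (S : Subgroup G)).map (S : Subgroup G).subtype) :
    IsWeaklyClosed Z₀ (S : Subgroup G) := by
  refine ⟨hZ.trans (map_subtype_le _), fun g hg => ?_⟩
  ext x
  constructor
  · rintro ⟨w, hw, rfl⟩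
    have h : g * w * g⁻¹ = w := hfix w (hZ hw) g (hg ⟨w, hw, rfl⟩)
    change g * w * g⁻¹ ∈ Z₀
    rw [h]
    exact hw
  · intro hx
    exact ⟨x, hx, hfix x (hZ hx) g (hg ⟨x, hx, rfl⟩)⟩

theorem involution_conj_cases {t : G} (ht : orderOf t = 2) :
    IsConj t (d.a (tp n (n - 1)) (tp n (n - 1)) : G) ∨ IsConj t (d.a (tp n (n - 1)) 0 : G) ∨
      IsConj t (d.b 0 0 : G) := by
  haveI := Fact.mk Nat.prime_two
  obtain ⟨g, hg⟩ := exists_conj_mem_sylow S (k := 1) ((pow_one 2).symm ▸ ht)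
  have h1 : orderOf (⟨_, hg⟩ : (S : Subgroup G)) = 2 := by
    rw [Subgroup.orderOf_mk, ← ht, ← MulAut.conj_apply, MulEquiv.orderOf_eq]
  have h2 : IsConj t (g * t * g⁻¹) := isConj_iff.mpr ⟨g, rfl⟩
  rcases involution_cases d h1 with e | e | e | ⟨i, e⟩
  · exact Or.inl (h2.trans (congrArg Subtype.val e ▸ IsConj.refl _))
  · exact Or.inr (Or.inl (h2.trans (congrArg Subtype.val e ▸ IsConj.refl _)))
  · refine Or.inr (Or.inl (h2.trans ?_))
    rw [show g * t * g⁻¹ = (d.a 0 (tp n (n - 1)) : G) from congrArg Subtype.val e]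
    exact isConj_coe ⟨d.b 0 0, u2_conj d⟩
  · refine Or.inr (Or.inr (h2.trans ?_))
    rw [show g * t * g⁻¹ = (d.b i (-i) : G) from congrArg Subtype.val e]
    exact isConj_coe ⟨_, v_conj d i⟩

theorem not_isConj_center {U : Subgroup G} (hU : U ≤ (S : Subgroup G))
    (hUb : U.subgroupOf (S : Subgroup G) = d.base) (hf : OddFree U) {i : ZMod (2 ^ n)}
    {x : (S : Subgroup G)} (hx : x ≠ d.a i i) : ¬ IsConj (d.a i i : G) (x : G) := by
  intro h
  obtain ⟨g, hg⟩ := isConj_iff.mp h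
  refine hx (Subtype.ext ?_)
  rw [← hg]
  exact center_fixed d hU hUb hf ⟨_, d.mem_center.mpr ⟨i, rfl⟩, rfl⟩ (hg ▸ x.2)

theorem not_isConj_base {X : Subgroup G} (hX : X ≤ (S : Subgroup G)) {c : ZMod (2 ^ n)}
    (hXk : X.subgroupOf (S : Subgroup G) = kpre d (2 * c)) (hf : OddFree X) (i j k l : ZMod (2 ^ n)) :
    ¬ IsConj (d.a i j : G) (d.b k l : G) := by
  intro h
  obtain ⟨g, hg⟩ := isConj_iff.mp h
  have h1 := base_invariant d hX hXk hf _ g (d.a i j).2 (hg ▸ (d.b k l).2)
  rw [show (⟨g * (d.a i j : G) * g⁻¹, hg ▸ (d.b k l).2⟩ : (S : Subgroup G)) = d.b k l from Subtype.ext hg] at h1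
  have h2 : d.b k l ∈ (indexTwoHom d.base (base_index d)).ker := by
    rw [MonoidHom.mem_ker, h1, ← MonoidHom.mem_ker, indexTwoHom_ker]
    exact d.mem_base.mpr ⟨i, j, rfl⟩
  rw [indexTwoHom_ker] at h2
  obtain ⟨i', j', he⟩ := d.mem_base.mp h2
  exact d.a_ne_b _ _ _ _ he.symm

/-- The case in which exactly `Q Z(S)` has odd automorphisms. -/
theorem quaternion_case {U X : Subgroup G} (hU : U ≤ (S : Subgroup G))
    (hUb : U.subgroupOf (S : Subgroup G) = d.base) (hUf : OddFree U) (hX : X ≤ (S : Subgroup G))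
    {c : ZMod (2 ^ n)} (hXk : X.subgroupOf (S : Subgroup G) = kpre d (2 * c)) (hXf : ¬ OddFree X) :
    ∃ K : Subgroup G, K.Normal ∧ K.index = 2 ^ n ∧
      (∀ P : Sylow 2 K, ∃ m : ℕ, 1 ≤ m ∧ Nonempty ((P : Subgroup K) ≃* QuaternionGroup (2 ^ m))) ∧
      ∀ H : Subgroup K, H.index ≠ 2 := by
  have := Fact.mk Nat.prime_two
  obtain ⟨hidx, hsyl⟩ := residual_of_kernel S (chi d) (chi_invariant d hU hUb hUf) (kpre_odd d hX hXk hXf).2
  refine ⟨pResidual 2 G, pResidual_normal, hidx.trans (index_ker_chi d), fun P => ?_, index_ne_two_pResidual⟩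
  obtain ⟨e⟩ := hsyl P
  obtain ⟨e'⟩ := ker_chi_equiv d
  exact ⟨n - 1, by have := d.hn; omega, ⟨e.trans e'⟩⟩

end Cfsg.Agent.Transfer.WR
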