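-- Groups without subgroups of index two with semidihedral or wreathed Sylow 2-subgroups.
--
-- Main results (namespace `Cfsg.Agent.Transfer`):
-- * `qdMap`, `wrMap`: transport of coordinates
-- * `SD.exists_odd_klein`, `SD.exists_odd_quaternion`, `WR.not_oddFree_base`, `WR.not_oddFree_kpre`
-- * `SD.involutions_conj`, `WR.involutions_conj`
-- * `SD.centralizer_case`, `WR.centralizer_case`
import Cfsg.Agent.Lib.Transfer.SemidihedralFusion
import Cfsg.Agent.Lib.Transfer.WreathedFusion

set_option autoImplicit false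

namespace Cfsg.Agent.Transfer

open Subgroup
open QDWreath

/-- Transport of semidihedral coordinates. -/
def qdMap {S T : Type*} [Group S] [Group T] {n : ℕ} (d : QDData S n) (e : S ≃* T) : QDData T n where
  x := e d.x
  y := e d.y
  hn := d.hn
  card := (Nat.card_congr e.toEquiv).symm.trans d.card
  order_x := (e.orderOf_eq d.x).trans d.order_x
  order_y := (e.orderOf_eq d.y).trans d.order_y
  rel := by rw [← map_mul, ← map_inv, ← map_mul, d.rel, map_pow]

theorem qdMap_a {S T : Type*} [Group S] [Group T] {n : ℕ} (d : QDData S n) (e : S ≃* T) (i : ZMod (2 ^ n)) :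
    (qdMap d e).a i = e (d.a i) := (map_pow e d.x i.val).symm

/-- Transport of wreathed coordinates. -/
def wrMap {S T : Type*} [Group S] [Group T] {n : ℕ} (d : WrData S n) (e : S ≃* T) : WrData T n where
  x := e d.x
  y := e d.y
  z := e d.z
  hn := d.hn
  card := (Nat.card_congr e.toEquiv).symm.trans d.card
  order_x := (e.orderOf_eq d.x).trans d.order_x
  comm := by rw [← map_mul, ← map_mul, d.comm]
  disj := by
    have h : ∀ u : S, zpowers (e u) = (zpowers u).map e.toMonoidHom := fun u => (e.toMonoidHom.map_zpowers u).symm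
    rw [h, h, ← map_inf _ _ _ e.injective, d.disj, Subgroup.map_bot]
  order_z := (e.orderOf_eq d.z).trans d.order_z
  rel := by rw [← map_mul, ← map_inv, ← map_mul, d.rel]

theorem wrMap_a {S T : Type*} [Group S] [Group T] {n : ℕ} (d : WrData S n) (e : S ≃* T) (i j : ZMod (2 ^ n)) :
    (wrMap d e).a i j = e (d.a i j) := by
  rw [WrData.a, WrData.px, WrData.py, WrData.a, WrData.px, WrData.py, map_mul, map_pow, map_pow]
  rfl

variable {G : Type*} [Group G] [Finite G]

theorem not_index_two_of_invariant (S : Sylow 2 G) {A : Type*} [CommGroup A] (χ : (S : Subgroup G) →* A)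
    (key : ∀ (q g : G) (hq : q ∈ (S : Subgroup G)) (hgq : g * q * g⁻¹ ∈ (S : Subgroup G)),
      χ ⟨g * q * g⁻¹, hgq⟩ = χ ⟨q, hq⟩) {x : (S : Subgroup G)} (hx : x ∉ χ.ker) :
    ∃ H : Subgroup G, H.index = 2 := by
  have := Fact.mk Nat.prime_two
  refine exists_index_two_iff.mpr fun htop => hx (pResidual_le_ker_of_invariant S χ key ?_)
  rw [htop]
  exact mem_top _

/-- Moving a Sylow subgroup into the centralizer of a conjugate of one of its central elements. -/
theorem exists_sylow_centralizer (S : Sylow 2 G) {u : (S : Subgroup G)} (hu : u ∈ Subgroup.center (S : Subgroup G))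
    {x g : G} (hg : g * (u : G) * g⁻¹ = x) :
    ∃ (S' : Sylow 2 G) (e : (S : Subgroup G) ≃* (S' : Subgroup G)), (e u : G) = x ∧
      (S' : Subgroup G) ≤ centralizer ({x} : Set G) := by
  refine ⟨g • S, ((MulAut.conj g).subgroupMap (S : Subgroup G)).trans
    (MulEquiv.subgroupCongr (sylow_coe_smul S g).symm), hg, ?_⟩
  rw [sylow_coe_smul]
  rintro _ ⟨s, hs, rfl⟩
  refine mem_centralizer_singleton_iff.mpr ?_
  have h : s * (u : G) = u * s := congrArg Subtype.val (Subgroup.mem_center_iff.mp hu ⟨s, hs⟩)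
  rw [← hg]
  change g * s * g⁻¹ * (g * u * g⁻¹) = g * u * g⁻¹ * (g * s * g⁻¹)
  calc g * s * g⁻¹ * (g * u * g⁻¹) = g * (s * u) * g⁻¹ := by group
    _ = g * (u * s) * g⁻¹ := by rw [h]
    _ = _ := by group

namespace SD

open QDData

variable {S : Sylow 2 G} {n : ℕ} (d : QDData (S : Subgroup G) n)
include d

theorem exists_odd_klein (hG : ∀ H : Subgroup G, H.index ≠ 2) :
    ∃ R : Subgroup G, R ≤ (S : Subgroup G) ∧ IsKleinFour R ∧
      ∃ y ∈ normalizer (R : Set G), Nat.Coprime (orderOf y) 2 ∧ y ∉ centralizer (R : Set G) := by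
  have := Fact.mk Nat.prime_two
  by_contra hne
  simp only [not_exists, not_and, not_not] at hne
  set χ := indexTwoHom d.quat (index_quat d)
  have hker : χ.ker = d.quat := indexTwoHom_ker _ _
  have hinv : ∀ R, IsFullyNormalized 2 (S : Subgroup G) R →
      Agrees (S : Subgroup G) R ∨ R.subgroupOf (S : Subgroup G) ≤ χ.ker := by
    intro R hR
    rcases qd_agrees_or d hR with h | h | ⟨⟨e⟩⟩
    · exact Or.inl h
    · exact Or.inl (agrees_of_coprime_centralize hR fun y hy hco => hne R hR.1 h y hy hco)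
    · exact Or.inr (hker ▸ quaternion_le_quat d ((subgroupOfEquivOfLe hR.1).trans e))
  obtain ⟨H, hH⟩ := not_index_two_of_invariant S χ (fusion_invariant S χ hinv) (x := d.b (2 * 0))
    (by rw [hker]; exact b_even_notMem_quat d 0)
  exact hG H hH

theorem exists_odd_quaternion (hG : ∀ H : Subgroup G, H.index ≠ 2) :
    ∃ R : Subgroup G, R ≤ (S : Subgroup G) ∧ Nonempty (R ≃* QuaternionGroup 2) ∧
      ∃ y ∈ normalizer (R : Set G), Nat.Coprime (orderOf y) 2 ∧ y ∉ centralizer (R : Set G) := by
  have := Fact.mk Nat.prime_two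
  by_contra hne
  simp only [not_exists, not_and, not_not] at hne
  set χ := indexTwoHom d.dih (index_dih d)
  have hker : χ.ker = d.dih := indexTwoHom_ker _ _
  have hinv : ∀ R, IsFullyNormalized 2 (S : Subgroup G) R →
      Agrees (S : Subgroup G) R ∨ R.subgroupOf (S : Subgroup G) ≤ χ.ker := by
    intro R hR
    rcases qd_agrees_or d hR with h | h | h
    · exact Or.inl h
    · exact Or.inr (hker ▸ klein_le_dih d (isKleinFour_congr (subgroupOfEquivOfLe hR.1).symm h))
    · exact Or.inl (agrees_of_coprime_centralize hR fun y hy hco => hne R hR.1 h y hy hco)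
  obtain ⟨H, hH⟩ := not_index_two_of_invariant S χ (fusion_invariant S χ hinv) (x := d.b (2 * 0 + 1))
    (by rw [hker]; exact b_odd_notMem_dih d 0)
  exact hG H hH

theorem involutions_conj (hG : ∀ H : Subgroup G, H.index ≠ 2) {x : G} (hx : orderOf x = 2) :
    IsConj (d.a (tp n (n - 1)) : G) x := by
  obtain ⟨R, hR, hRK, y, hy, hco, hne⟩ := exists_odd_klein d hG
  rcases conj_two_cases d hx with h | h
  · exact h.symm
  · exact (isConj_half_b d hRK hR hy hco hne).trans h.symm

/-- The centralizer of the central involution. -/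
theorem centralizer_case (hG : ∀ H : Subgroup G, H.index ≠ 2) {x : G} (hx : (d.a (tp n (n - 1)) : G) = x)
    (hS : (S : Subgroup G) ≤ centralizer ({x} : Set G)) :
    Nat.card (S.subtype hS) = Nat.card S ∧
      (∃ K : Subgroup (centralizer ({x} : Set G)), K.Normal ∧ (∃ a : ℕ, K.index = 2 ^ a) ∧
        (∀ H : Subgroup K, H.index ≠ 2) ∧
        ∀ P : Sylow 2 K, ∃ m : ℕ, 1 ≤ m ∧ Nonempty ((P : Subgroup K) ≃* QuaternionGroup (2 ^ m))) ∧
      ∀ Z₀ : Subgroup (centralizer ({x} : Set G)),
        Z₀ ≤ (Subgroup.center (S.subtype hS : Subgroup (centralizer ({x} : Set G)))).map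
          (S.subtype hS : Subgroup (centralizer ({x} : Set G))).subtype →
        IsWeaklyClosed Z₀ (S.subtype hS : Subgroup (centralizer ({x} : Set G))) := by
  have := Fact.mk Nat.prime_two
  set C := centralizer ({x} : Set G)
  set R := S.subtype hS
  set e : (S : Subgroup G) ≃* (R : Subgroup C) := (subgroupOfEquivOfLe hS).symm
  set d' := qdMap d e
  refine ⟨Nat.card_congr e.symm.toEquiv, ?_, fun Z₀ hZ => ⟨hZ.trans (map_subtype_le _), fun g _ => ?_⟩⟩
  · have hz : ((d'.a (tp n (n - 1)) : (R : Subgroup C)) : C) ∈ Subgroup.center C := by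
      refine Subgroup.mem_center_iff.mpr fun c => Subtype.ext ?_
      rw [qdMap_a]
      change (c : G) * (d.a (tp n (n - 1)) : G) = (d.a (tp n (n - 1)) : G) * c
      rw [hx]
      exact mem_centralizer_singleton_iff.mp c.2
    have hKfree : ∀ T : Subgroup C, T ≤ (R : Subgroup C) → IsKleinFour T →
        ∀ y ∈ normalizer (T : Set C), Nat.Coprime (orderOf y) 2 → y ∈ centralizer (T : Set C) := by
      intro T hT hTK y hy hco
      by_contra hne
      obtain ⟨k, hk⟩ := klein_moves d' hTK hT hy hco hne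
      rw [Subgroup.mem_center_iff.mp hz y, mul_inv_cancel_right] at hk
      exact d'.a_ne_b _ _ (Subtype.ext hk)
    set χ := indexTwoHom d'.quat (index_quat d')
    have hker : χ.ker = d'.quat := indexTwoHom_ker _ _
    have hinv : ∀ T, IsFullyNormalized 2 (R : Subgroup C) T →
        Agrees (R : Subgroup C) T ∨ T.subgroupOf (R : Subgroup C) ≤ χ.ker := by
      intro T hT
      rcases qd_agrees_or d' hT with h | h | ⟨⟨e⟩⟩
      · exact Or.inl h
      · exact Or.inl (agrees_of_coprime_centralize hT fun y hy hco => hKfree T hT.1 h y hy hco)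
      · exact Or.inr (hker ▸ quaternion_le_quat d' ((subgroupOfEquivOfLe hT.1).trans e))
    obtain ⟨Q, hQ, ⟨eQ⟩, y, hy, hco, hne⟩ := exists_odd_quaternion d hG
    obtain ⟨k, hk⟩ := quaternion_moves d eQ hQ hy hco hne
    have hyC : y ∈ C := by
      refine mem_centralizer_singleton_iff.mpr (mul_inv_eq_iff_eq_mul.mp ?_)
      have h2 : d.a (tp n (n - 1)) = d.a (tp n (n - 2)) ^ 2 := by
        rw [d.a_pow, d.half_eq_two_mul]; norm_num
      have h3 : d.b (2 * k + 1) ^ 2 = d.a (tp n (n - 1)) := by rw [pow_two, d.b_odd_sq]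
      calc y * x * y⁻¹ = (y * (d.a (tp n (n - 2)) : G) * y⁻¹) ^ 2 := by
            rw [conj_pow, ← SubgroupClass.coe_pow, ← h2, hx]
        _ = x := by rw [hk, ← SubgroupClass.coe_pow, h3, hx]
    obtain ⟨hidx, hres, hsyl⟩ := residual_of_maximal d'.isCoatom_quat (index_quat d')
      (quat_le_residual d' ((subgroupOfEquivOfLe (hQ.trans hS)).trans eQ) (U := Q.subgroupOf C)
        (fun c hc => mem_subgroupOf.mpr (hQ (mem_subgroupOf.mp hc))) (y := ⟨y, hyC⟩)
        (mem_normalizer_iff.mpr fun c => by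
          simp only [mem_subgroupOf]
          exact mem_normalizer_iff.mp hy c)
        (by rwa [Subgroup.orderOf_mk])
        (fun h => hne (mem_centralizer_iff.mpr fun q hq => congrArg Subtype.val
          (mem_centralizer_iff.mp h ⟨q, hS (hQ hq)⟩ (mem_subgroupOf.mpr hq)))))
      (hker ▸ commutator_le_ker_of_invariant R χ (fusion_invariant R χ hinv))
    refine ⟨pResidual 2 C, pResidual_normal, ⟨1, by rw [hidx, pow_one]⟩, hres, fun P => ?_⟩
    obtain ⟨e1⟩ := hsyl P
    obtain ⟨e2⟩ := d'.nonempty_quat_equiv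
    exact ⟨n - 2, by have := d.hn; omega, ⟨e1.trans e2⟩⟩
  · ext c
    have hcen : ∀ c ∈ Z₀, g * c * g⁻¹ = c := by
      intro c hc
      obtain ⟨w, hw, rfl⟩ := hZ hc
      obtain ⟨s, rfl⟩ := e.surjective w
      have hs : s = 1 ∨ s = d.a (tp n (n - 1)) :=
        d.mem_center.mp (Subgroup.mem_center_iff.mpr fun t => e.injective (by
          rw [map_mul, map_mul]; exact Subgroup.mem_center_iff.mp hw (e t)))
      refine mul_inv_eq_iff_eq_mul.mpr (Subtype.ext ?_)
      change (g : G) * (s : G) = (s : G) * g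
      rcases hs with rfl | rfl
      · simp
      · rw [hx]; exact mem_centralizer_singleton_iff.mp g.2
    constructor
    · rintro ⟨w, hw, rfl⟩
      change g * w * g⁻¹ ∈ Z₀
      rwa [hcen w hw]
    · exact fun hc => ⟨c, hc, hcen c hc⟩

end SD

namespace WR

open WrData

variable {S : Sylow 2 G} {n : ℕ} (d : WrData (S : Subgroup G) n)
include d

theorem not_oddFree_base (hG : ∀ H : Subgroup G, H.index ≠ 2) :
    ¬ OddFree (d.base.map (S : Subgroup G).subtype) := by
  intro hf
  obtain ⟨H, hH⟩ := not_index_two_of_invariant S (chi d)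
    (chi_invariant d (map_subtype_le _) (comap_map_eq_self_of_injective (S : Subgroup G).subtype_injective _) hf)
    (x := d.a 1 0) (by rw [MonoidHom.mem_ker, chi_a, add_zero, ofAdd_eq_one]; exact d.nontrivial)
  exact hG H hH

theorem not_oddFree_kpre (hG : ∀ H : Subgroup G, H.index ≠ 2) :
    ¬ OddFree ((kpre d (2 * 0)).map (S : Subgroup G).subtype) := by
  intro hf
  obtain ⟨H, hH⟩ := not_index_two_of_invariant S (indexTwoHom d.base (base_index d))
    (base_invariant d (map_subtype_le _) (comap_map_eq_self_of_injective (S : Subgroup G).subtype_injective _) hf)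
    (x := d.b 0 0) (by
      rw [indexTwoHom_ker, d.mem_base]
      rintro ⟨i, j, h⟩
      exact d.a_ne_b _ _ _ _ h.symm)
  exact hG H hH

theorem involutions_conj (hG : ∀ H : Subgroup G, H.index ≠ 2) {x : G} (hx : orderOf x = 2) :
    IsConj (d.a (tp n (n - 1)) (tp n (n - 1)) : G) x := by
  obtain ⟨h12, -⟩ := base_odd d (map_subtype_le _)
    (comap_map_eq_self_of_injective (S : Subgroup G).subtype_injective _) (not_oddFree_base d hG)
  obtain ⟨h23, -⟩ := kpre_odd d (map_subtype_le _)
    (comap_map_eq_self_of_injective (S : Subgroup G).subtype_injective _) (not_oddFree_kpre d hG)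
  rcases involution_conj_cases d hx with h | h | h
  · exact h.symm
  · exact h12.trans h.symm
  · exact (h12.trans h23).trans h.symm

/-- The centralizer of the central involution. -/
theorem centralizer_case (hG : ∀ H : Subgroup G, H.index ≠ 2) {x : G}
    (hx : (d.a (tp n (n - 1)) (tp n (n - 1)) : G) = x) (hS : (S : Subgroup G) ≤ centralizer ({x} : Set G)) :
    Nat.card (S.subtype hS) = Nat.card S ∧
      (∃ K : Subgroup (centralizer ({x} : Set G)), K.Normal ∧ (∃ a : ℕ, K.index = 2 ^ a) ∧
        (∀ H : Subgroup K, H.index ≠ 2) ∧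
        ∀ P : Sylow 2 K, ∃ m : ℕ, 1 ≤ m ∧ Nonempty ((P : Subgroup K) ≃* QuaternionGroup (2 ^ m))) ∧
      ∀ Z₀ : Subgroup (centralizer ({x} : Set G)),
        Z₀ ≤ (Subgroup.center (S.subtype hS : Subgroup (centralizer ({x} : Set G)))).map
          (S.subtype hS : Subgroup (centralizer ({x} : Set G))).subtype →
        IsWeaklyClosed Z₀ (S.subtype hS : Subgroup (centralizer ({x} : Set G))) := by
  have := Fact.mk Nat.prime_two
  set C := centralizer ({x} : Set G)
  set R := S.subtype hS
  set e : (S : Subgroup G) ≃* (R : Subgroup C) := (subgroupOfEquivOfLe hS).symm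
  set d' := wrMap d e
  have hz : ∀ c : C, c * ((d'.a (tp n (n - 1)) (tp n (n - 1)) : (R : Subgroup C)) : C) * c⁻¹ =
      ((d'.a (tp n (n - 1)) (tp n (n - 1)) : (R : Subgroup C)) : C) := by
    intro c
    refine mul_inv_eq_iff_eq_mul.mpr (Subtype.ext ?_)
    rw [wrMap_a]
    change (c : G) * (d.a (tp n (n - 1)) (tp n (n - 1)) : G) = (d.a (tp n (n - 1)) (tp n (n - 1)) : G) * c
    rw [hx]
    exact mem_centralizer_singleton_iff.mp c.2
  set U' := d'.base.map (R : Subgroup C).subtype
  have hU' : U' ≤ (R : Subgroup C) := map_subtype_le _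
  have hUb : U'.subgroupOf (R : Subgroup C) = d'.base :=
    comap_map_eq_self_of_injective (R : Subgroup C).subtype_injective _
  have hUf : OddFree U' := by
    by_contra hf
    obtain ⟨g, hg⟩ := isConj_iff.mp (base_odd d' hU' hUb hf).1
    rw [hz g] at hg
    exact half_ne_zero d' (d'.a_inj.mp (Subtype.ext hg)).2
  set X := (kpre d (2 * 0)).map (S : Subgroup G).subtype
  have hX : X ≤ (S : Subgroup G) := map_subtype_le _
  have hXk : X.subgroupOf (S : Subgroup G) = kpre d (2 * 0) :=
    comap_map_eq_self_of_injective (S : Subgroup G).subtype_injective _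
  obtain ⟨y, hy, hco, hne⟩ := exists_of_not_oddFree (not_oddFree_kpre d hG)
  have hyC : y ∈ C := by
    obtain ⟨α, hαco, hα⟩ := exists_aut hX hy hco
    have hu : d.a (tp n (n - 1)) (tp n (n - 1)) ∈ X.subgroupOf (S : Subgroup G) :=
      hXk ▸ center_le_kpre d _ (d.mem_center.mpr ⟨_, rfl⟩)
    have h := (kpre_aut d hXk α hαco).1 ⟨_, hu⟩ (d.mem_center.mpr ⟨_, rfl⟩)
    have h' := hα ⟨_, hu⟩
    rw [h] at h'
    rw [hx] at h'
    exact mem_centralizer_singleton_iff.mpr (mul_inv_eq_iff_eq_mul.mp h'.symm)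
  have hX' : X.subgroupOf C ≤ (R : Subgroup C) := fun c hc => mem_subgroupOf.mpr (hX (mem_subgroupOf.mp hc))
  obtain ⟨c₀, hc₀⟩ : ∃ c₀, (X.subgroupOf C).subgroupOf (R : Subgroup C) = kpre d' (2 * c₀) := by
    refine ⟨0, ext fun r => ?_⟩
    obtain ⟨s, rfl⟩ := e.surjective r
    have h1 : e s ∈ (X.subgroupOf C).subgroupOf (R : Subgroup C) ↔ s ∈ kpre d (2 * 0) := by
      rw [← hXk]; exact Iff.rfl
    rw [h1]
    rcases d.cases s with ⟨k, l, rfl⟩ | ⟨k, l, rfl⟩
    · rw [a_mem_kpre, ← wrMap_a, a_mem_kpre]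
    · rw [b_mem_kpre, show e (d.b k l) = d'.b k l by rw [WrData.b, WrData.b, wrMap_a, map_mul]; rfl, b_mem_kpre]
  have hXf : ¬ OddFree (X.subgroupOf C) := by
    intro hf
    have hc := hf ⟨y, hyC⟩ (mem_normalizer_iff.mpr fun c => by
      simp only [mem_subgroupOf]
      exact mem_normalizer_iff.mp hy c) (by rwa [Subgroup.orderOf_mk])
    exact hne (mem_centralizer_iff.mpr fun q hq => congrArg Subtype.val
      (mem_centralizer_iff.mp hc ⟨q, hS (hX hq)⟩ (mem_subgroupOf.mpr hq)))
  refine ⟨Nat.card_congr e.symm.toEquiv, ?_, fun Z₀ hZ =>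
    weaklyClosed_of_fixed (fun q hq g hg => center_fixed d' hU' hUb hUf hq hg) hZ⟩
  obtain ⟨K, h1, h2, h3, h4⟩ := quaternion_case d' hU' hUb hUf hX' hc₀ hXf
  exact ⟨K, h1, ⟨n, h2⟩, h4, h3⟩

end WR

end Cfsg.Agent.Transfer
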