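-- Fusion in groups with (generalized) quaternion Sylow 2-subgroups.
--
-- Main results (namespace `Cfsg.Agent.Transfer`):
-- * `isPGroup_mulAut_of_isCyclic`, `quaternion_subgroup_cases`
-- * `centralizes_of_isPGroup_mulAut`
-- * `exists_slTwoThree_section`: a nontrivial odd action on a `Q_8` gives a section `SL(2,3)`
import Cfsg.Agent.Lib.Transfer.Criteria
import Cfsg.Agent.Lib.PGroup.CyclicMaximal
import Cfsg.Agent.S5112
import Cfsg.Agent.S0257
import Cfsg.Agent.S5997

set_option autoImplicit false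

namespace Cfsg.Agent.Transfer

open Subgroup

/-- The automorphism group of a cyclic 2-group is a 2-group. -/
theorem isPGroup_mulAut_of_isCyclic {C : Type*} [Group C] [Finite C] [IsCyclic C] (hC : IsPGroup 2 C) :
    IsPGroup 2 (MulAut C) := by
  have := Fact.mk Nat.prime_two
  obtain ⟨k, hk⟩ := IsPGroup.iff_card.mp hC
  cases k with
  | zero =>
    refine IsPGroup.of_card (n := 0) ?_
    rw [IsCyclic.card_mulAut, hk]
    rfl
  | succ k =>
    refine IsPGroup.of_card (n := k) ?_
    rw [IsCyclic.card_mulAut, hk, Nat.totient_prime_pow_succ Nat.prime_two]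
    omega

theorem isPGroup_mulAut_of_equiv {G H : Type*} [Group G] [Group H] {p : ℕ} (e : G ≃* H)
    (h : IsPGroup p (MulAut H)) : IsPGroup p (MulAut G) :=
  h.of_injective (MulAut.congr e).toMonoidHom (MulAut.congr e).injective

/-- A subgroup of a generalized quaternion group has a 2-group of automorphisms or is `Q_8`. -/
theorem quaternion_subgroup_cases {N n : ℕ} (hN : N = 2 ^ n) (Q : Subgroup (QuaternionGroup N)) :
    IsPGroup 2 (MulAut Q) ∨ Nonempty (Q ≃* QuaternionGroup 2) := by
  have := Fact.mk Nat.prime_two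
  have hnz : NeZero N := ⟨by rw [hN]; positivity⟩
  have hcardT : Nat.card (QuaternionGroup N) = 2 ^ (n + 2) := by
    rw [Nat.card_eq_fintype_card, QuaternionGroup.card, hN, pow_add]; ring
  have hQp : IsPGroup 2 Q := (IsPGroup.of_card hcardT).to_subgroup Q
  set A : Subgroup (QuaternionGroup N) := zpowers (QuaternionGroup.a 1)
  have hA : ∀ x, x ∈ A ↔ ∃ i, x = QuaternionGroup.a i := by
    intro x
    constructor
    · intro hx
      obtain ⟨m, -, rfl⟩ := Finset.mem_image.mp (((isOfFinOrder_of_finite _).mem_zpowers_iff_mem_range_orderOf).mp hx)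
      exact ⟨_, QuaternionGroup.a_one_pow m⟩
    · rintro ⟨i, rfl⟩
      rw [← ZMod.natCast_zmod_val i, ← QuaternionGroup.a_one_pow]
      exact pow_mem (mem_zpowers _) _
  have hAi : A.index = 2 := by
    have h := A.card_mul_index
    rw [Nat.card_zpowers, QuaternionGroup.orderOf_a_one, Nat.card_eq_fintype_card, QuaternionGroup.card] at h
    exact Nat.eq_of_mul_eq_mul_left (by have := NeZero.ne N; omega : 0 < 2 * N) (by rw [h]; ring)
  by_cases hQA : Q ≤ A
  · left
    have : IsCyclic (A : Subgroup (QuaternionGroup N)) :=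
      isCyclic_iff_exists_zpowers_eq_top.mpr ⟨⟨_, mem_zpowers _⟩, by
        refine eq_top_iff.mpr fun x _ => ?_
        obtain ⟨i, hi⟩ := x.2
        exact ⟨i, Subtype.ext hi⟩⟩
    have : IsCyclic Q := isCyclic_of_injective (inclusion hQA) (inclusion_injective _)
    exact isPGroup_mulAut_of_isCyclic hQp
  obtain ⟨b, hbQ, hbA⟩ := SetLike.not_le_iff_exists.mp hQA
  obtain ⟨i, rfl⟩ : ∃ i, b = QuaternionGroup.xa i := by
    cases b with
    | a i => exact absurd ((hA _).mpr ⟨i, rfl⟩) hbA
    | xa i => exact ⟨i, rfl⟩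
  set b : Q := ⟨QuaternionGroup.xa i, hbQ⟩
  have hb4 : orderOf b = 4 := by rw [← Subgroup.orderOf_coe]; exact QuaternionGroup.orderOf_xa i
  have hAn : A.Normal := normal_of_index_eq_two hAi
  set C : Subgroup Q := A.subgroupOf Q
  have hCi : C.index = 2 := by
    rcases (Nat.dvd_prime Nat.prime_two).mp (hAi ▸ relIndex_dvd_index_of_normal A Q : A.relIndex Q ∣ 2) with h | h
    · exact absurd (relIndex_eq_one.mp h hbQ) hbA
    · exact h
  have : IsCyclic A := isCyclic_iff_exists_zpowers_eq_top.mpr ⟨⟨_, mem_zpowers _⟩, by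
    refine eq_top_iff.mpr fun x _ => ?_
    obtain ⟨j, hj⟩ := x.2
    exact ⟨j, Subtype.ext hj⟩⟩
  let g : C →* A := (Q.subtype.comp C.subtype).codRestrict A fun x => mem_subgroupOf.mp x.2
  have : IsCyclic C := isCyclic_of_injective g fun x y h => Subtype.ext (Subtype.ext (congrArg Subtype.val h :))
  obtain ⟨r, hr⟩ := IsCyclic.exists_generator (α := C)
  have hrC : C = zpowers (r : Q) := by
    refine le_antisymm (fun x hx => ?_) (zpowers_le.mpr r.2)
    obtain ⟨m, hm⟩ := hr ⟨x, hx⟩
    exact ⟨m, congrArg Subtype.val hm⟩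
  obtain ⟨k, hk⟩ := IsPGroup.iff_orderOf.mp hQp (r : Q)
  have hcardQ : Nat.card Q = 2 * 2 ^ k := by
    rw [← C.card_mul_index, hCi, hrC, Nat.card_zpowers, hk, mul_comm]
  by_cases hk3 : 3 ≤ k
  · left
    refine S5112.aut_isPGroup hk3 (r : Q) hk (hrC ▸ hCi) fun x hx => Subtype.ext ?_
    have hxA : (x : QuaternionGroup N) ∉ A := fun h => hx (hrC ▸ mem_subgroupOf.mpr h)
    rw [coe_pow]
    cases hc : (x : QuaternionGroup N) with
    | a j => exact absurd ((hA _).mpr ⟨j, hc⟩) hxA
    | xa j => rw [← QuaternionGroup.orderOf_xa j, pow_orderOf_eq_one]; rfl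
  have hbC : b ∉ C := fun h => hbA (mem_subgroupOf.mp h)
  by_cases hk2 : k = 2
  · right
    subst hk2
    have hb2 : b ^ 2 ∈ C := sq_mem_of_index_two hCi b
    obtain ⟨j, hj⟩ := (hA _).mp (mem_subgroupOf.mp (r.2 : (r : Q) ∈ C))
    have hconj : b * (r : Q) * b⁻¹ = (r : Q)⁻¹ := by
      rw [mul_inv_eq_iff_eq_mul]
      refine Subtype.ext ?_
      change QuaternionGroup.xa i * ((r : Q) : QuaternionGroup N) = ((r : Q) : QuaternionGroup N)⁻¹ * QuaternionGroup.xa i
      rw [hj]
      change _ = QuaternionGroup.a (-j) * QuaternionGroup.xa i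
      rw [QuaternionGroup.xa_mul_a, QuaternionGroup.a_mul_xa, sub_neg_eq_add]
    have hbr : b ^ 2 = (r : Q) ^ 2 := by
      rw [hrC] at hb2
      obtain ⟨m, hm, hmb⟩ := Finset.mem_image.mp (((isOfFinOrder_of_finite _).mem_zpowers_iff_mem_range_orderOf).mp hb2)
      have ho : orderOf ((r : Q) ^ m) = 2 := by
        rw [hmb, orderOf_pow' b two_ne_zero, hb4]; rfl
      rw [orderOf_pow, hk] at ho
      rw [Finset.mem_range, hk] at hm
      rw [← hmb]
      interval_cases m <;> simp_all
    exact (PGroup.quaternionEquivOfGen (N := 2) (a := (r : Q)) (b := b) (by rw [hk]; rfl) hbr hconj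
      (hrC ▸ hbC) (by rw [hcardQ]; rfl)).map MulEquiv.symm
  · left
    have htop : zpowers b = ⊤ := by
      refine eq_top_of_card_eq _ (le_antisymm (card_le_card_group _) ?_)
      rw [Nat.card_zpowers, hb4, hcardQ]
      have : 2 ^ k ≤ 2 ^ 1 := Nat.pow_le_pow_right (by norm_num) (by omega)
      omega
    have : IsCyclic Q := isCyclic_iff_exists_zpowers_eq_top.mpr ⟨b, htop⟩
    exact isPGroup_mulAut_of_isCyclic hQp

variable {G : Type*} [Group G]

theorem conj_eq_of_hom_eq_one {Q : Subgroup G} {y : normalizer (Q : Set G)}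
    (h : Q.normalizerMonoidHom y = 1) : (y : G) ∈ centralizer (Q : Set G) := by
  have h1 : y ∈ Q.normalizerMonoidHom.ker := h
  rw [normalizerMonoidHom_ker] at h1
  exact mem_subgroupOf.mp h1

/-- An element of odd order normalizing `Q` centralizes it when `Aut Q` is a 2-group. -/
theorem centralizes_of_isPGroup_mulAut [Finite G] {Q : Subgroup G} (h : IsPGroup 2 (MulAut Q)) {y : G}
    (hy : y ∈ normalizer (Q : Set G)) (hco : Nat.Coprime (orderOf y) 2) : y ∈ centralizer (Q : Set G) := by
  have := Fact.mk Nat.prime_two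
  exact conj_eq_of_hom_eq_one (y := ⟨y, hy⟩)
    (map_eq_one_of_coprime h Q.normalizerMonoidHom (by rwa [Subgroup.orderOf_mk]))

/-- The automorphisms of order three of `Q_8` are conjugations inside `SL(2,3)`. -/
theorem quat_three_mem_sl : ∀ a b : QuaternionGroup 2, a * a = QuaternionGroup.a 2 →
    b * b = QuaternionGroup.a 2 → a * b ≠ b * a →
    let f : QuaternionGroup 2 → QuaternionGroup 2 := fun g =>
      match g with
      | QuaternionGroup.a k => a ^ k.val
      | QuaternionGroup.xa k => b * a ^ k.val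
    f^[3] (QuaternionGroup.a 1) = QuaternionGroup.a 1 → f^[3] (QuaternionGroup.xa 0) = QuaternionGroup.xa 0 →
    (a = QuaternionGroup.a 1 → b ≠ QuaternionGroup.xa 0) →
    ∃ s : Matrix.SpecialLinearGroup (Fin 2) (ZMod 3),
      s * S0257.quatMap (QuaternionGroup.a 1) = S0257.quatMap a * s ∧
      s * S0257.quatMap (QuaternionGroup.xa 0) = S0257.quatMap b * s ∧ s ≠ 1 ∧ s * s * s = 1 := by
  decide +kernel

/-- An automorphism of order three of `Q_8` is induced by an element of order three of `SL(2,3)`. -/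
theorem exists_sl_element (σ : MulAut (QuaternionGroup 2)) (h3 : σ ^ 3 = 1) (hne : σ ≠ 1) :
    ∃ s : Matrix.SpecialLinearGroup (Fin 2) (ZMod 3), orderOf s = 3 ∧
      ∀ x, S0257.quatMap (σ x) = s * S0257.quatMap x * s⁻¹ := by
  have key : ∀ g : QuaternionGroup 2, g * g = 1 → g = 1 ∨ g = QuaternionGroup.a 2 := by decide +kernel
  have key2 : (QuaternionGroup.a 2 : QuaternionGroup 2) * QuaternionGroup.a 2 = 1 := by decide +kernel
  have key3 : (QuaternionGroup.a 2 : QuaternionGroup 2) ≠ 1 := by decide +kernel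
  have hz : σ (QuaternionGroup.a 2) = QuaternionGroup.a 2 := by
    rcases key (σ (QuaternionGroup.a 2)) (by rw [← map_mul, key2, map_one]) with h | h
    · exact absurd (σ.injective (h.trans (map_one σ).symm)) key3
    · exact h
  set f : QuaternionGroup 2 → QuaternionGroup 2 := fun g =>
      match g with
      | QuaternionGroup.a k => σ (QuaternionGroup.a 1) ^ k.val
      | QuaternionGroup.xa k => σ (QuaternionGroup.xa 0) * σ (QuaternionGroup.a 1) ^ k.val with hfdef
  have hdec : ∀ g : QuaternionGroup 2, ∃ m : ℕ,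
      g = QuaternionGroup.a 1 ^ m ∨ g = QuaternionGroup.xa 0 * QuaternionGroup.a 1 ^ m := by
    intro g
    cases g with
    | a k => exact ⟨k.val, Or.inl (by rw [QuaternionGroup.a_one_pow, ZMod.natCast_zmod_val])⟩
    | xa k =>
      exact ⟨k.val, Or.inr (by rw [QuaternionGroup.a_one_pow, QuaternionGroup.xa_mul_a, zero_add, ZMod.natCast_zmod_val])⟩
  have hf : f = σ := by
    funext g
    cases g with
    | a k =>
      have hk : (QuaternionGroup.a k : QuaternionGroup 2) = QuaternionGroup.a 1 ^ k.val := by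
        rw [QuaternionGroup.a_one_pow, ZMod.natCast_zmod_val]
      rw [hk, map_pow, ← hk]
    | xa k =>
      have hk : (QuaternionGroup.xa k : QuaternionGroup 2) = QuaternionGroup.xa 0 * QuaternionGroup.a 1 ^ k.val := by
        rw [QuaternionGroup.a_one_pow, QuaternionGroup.xa_mul_a, zero_add, ZMod.natCast_zmod_val]
      rw [hk, map_mul, map_pow, ← hk]
  have hit : ∀ g, f^[3] g = g := by
    intro g
    rw [hf]
    have : σ (σ (σ g)) = g := by
      have h := DFunLike.congr_fun h3 g
      rwa [pow_succ, pow_succ, pow_one, MulAut.mul_apply, MulAut.mul_apply, MulAut.one_apply] at h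
    exact this
  obtain ⟨s, h1, h2, hs1, hs3⟩ := quat_three_mem_sl (σ (QuaternionGroup.a 1)) (σ (QuaternionGroup.xa 0))
    (by rw [← map_mul, show (QuaternionGroup.a 1 : QuaternionGroup 2) * QuaternionGroup.a 1 = QuaternionGroup.a 2
      from by decide +kernel, hz])
    (by rw [← map_mul, show (QuaternionGroup.xa 0 : QuaternionGroup 2) * QuaternionGroup.xa 0 = QuaternionGroup.a 2
      from by decide +kernel, hz])
    (by rw [← map_mul, ← map_mul]; exact fun h => absurd (σ.injective h) (by decide +kernel))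
    (hit _) (hit _)
    (fun ha hb => hne (MulEquiv.ext fun g => by
      obtain ⟨m, rfl | rfl⟩ := hdec g
      · rw [map_pow, ha]; rfl
      · rw [map_mul, map_pow, ha, hb]; rfl))
  have := Fact.mk Nat.prime_three
  refine ⟨s, orderOf_eq_prime (by rw [pow_succ, pow_succ, pow_one]; exact hs3) hs1, ?_⟩
  let φ : QuaternionGroup 2 →* Matrix.SpecialLinearGroup (Fin 2) (ZMod 3) :=
    MonoidHom.mk' S0257.quatMap S0257.quatMap_mul
  intro x
  change φ (σ x) = s * φ x * s⁻¹
  have e1 : φ (σ (QuaternionGroup.a 1)) = MulAut.conj s (φ (QuaternionGroup.a 1)) := by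
    rw [MulAut.conj_apply, eq_mul_inv_iff_mul_eq]; exact h1.symm
  have e2 : φ (σ (QuaternionGroup.xa 0)) = MulAut.conj s (φ (QuaternionGroup.xa 0)) := by
    rw [MulAut.conj_apply, eq_mul_inv_iff_mul_eq]; exact h2.symm
  obtain ⟨m, rfl | rfl⟩ := hdec x
  · rw [← MulAut.conj_apply]
    simp only [map_pow, e1]
  · rw [← MulAut.conj_apply]
    simp only [map_mul, map_pow, e1, e2]

/-- An element of odd order acting nontrivially on a `Q_8` gives a section isomorphic to `SL(2,3)`. -/
theorem exists_slTwoThree_section [Finite G] {Q : Subgroup G} (e : Q ≃* QuaternionGroup 2) {y : G}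
    (hy : y ∈ normalizer (Q : Set G)) (hco : Nat.Coprime (orderOf y) 2) (hnc : y ∉ centralizer (Q : Set G)) :
    ∃ (H K : Subgroup G) (_ : (K.subgroupOf H).Normal),
      Nonempty ((H ⧸ K.subgroupOf H) ≃* Matrix.SpecialLinearGroup (Fin 2) (ZMod 3)) := by
  set f : MulAut Q := Q.normalizerMonoidHom ⟨y, hy⟩
  set σ : MulAut (QuaternionGroup 2) := MulAut.congr e f
  have hσ12 : σ ^ 12 = 1 := by
    obtain ⟨h1, h2⟩ := S5997.mulAut_quat_pow_twelve σ
    refine MulEquiv.ext fun g => ?_
    obtain ⟨k, rfl | rfl⟩ := S5997.quat_decomp g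
    · rw [map_pow, h1]; rfl
    · rw [map_mul, map_pow, h1, h2]; rfl
  have hf12 : f ^ 12 = 1 := (MulAut.congr e).injective (by rw [map_pow, map_one]; exact hσ12)
  have hfne : f ≠ 1 := fun h => hnc (conj_eq_of_hom_eq_one (y := ⟨y, hy⟩) h)
  have hyf : orderOf f ∣ orderOf y :=
    (orderOf_map_dvd Q.normalizerMonoidHom (⟨y, hy⟩ : normalizer (Q : Set G))).trans (by rw [Subgroup.orderOf_mk])
  have hf3 : orderOf f = 3 := by
    have h1 : orderOf f ∣ 3 := by
      refine (Nat.Coprime.dvd_of_dvd_mul_left ((hco.coprime_dvd_left hyf).pow_right 2) ?_)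
      exact orderOf_dvd_of_pow_eq_one hf12
    rcases (Nat.dvd_prime Nat.prime_three).mp h1 with h | h
    · exact absurd (orderOf_eq_one_iff.mp h) hfne
    · exact h
  have h3y : 3 ∣ orderOf y := hf3 ▸ hyf
  obtain ⟨s, hs, hconj⟩ := exists_sl_element σ
    (by rw [show σ = MulAut.congr e f from rfl, ← map_pow, ← hf3, pow_orderOf_eq_one, map_one])
    (fun h => hfne ((MulAut.congr e).injective (h.trans (map_one _).symm)))
  let φ : QuaternionGroup 2 →* Matrix.SpecialLinearGroup (Fin 2) (ZMod 3) :=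
    MonoidHom.mk' S0257.quatMap S0257.quatMap_mul
  let ψQ : Q →* Matrix.SpecialLinearGroup (Fin 2) (ZMod 3) := φ.comp e.toMonoidHom
  have hψQ : Function.Injective ψQ := S0257.quatMap_injective.comp e.injective
  let act : Multiplicative ℤ →* MulAut Q := zpowersHom _ f
  have hf : ∀ q : Q, ((f q : Q) : G) = y * q * y⁻¹ := fun q => rfl
  let α : Q ⋊[act] Multiplicative ℤ →* G := SemidirectProduct.lift Q.subtype (zpowersHom _ y) (fun m' => by
    refine MonoidHom.ext fun q => ?_
    change (((f ^ Multiplicative.toAdd m') q : Q) : G) =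
      y ^ Multiplicative.toAdd m' * q * (y ^ Multiplicative.toAdd m')⁻¹
    generalize Multiplicative.toAdd m' = m
    rw [show f ^ m = Q.normalizerMonoidHom ((⟨y, hy⟩ : normalizer (Q : Set G)) ^ m) from (map_zpow _ _ _).symm]
    rfl)
  let β : Q ⋊[act] Multiplicative ℤ →* Matrix.SpecialLinearGroup (Fin 2) (ZMod 3) :=
    SemidirectProduct.lift ψQ (zpowersHom _ s) (fun m' => by
      refine MonoidHom.ext fun q => ?_
      change ψQ ((f ^ Multiplicative.toAdd m') q) =
        s ^ Multiplicative.toAdd m' * ψQ q * (s ^ Multiplicative.toAdd m')⁻¹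
      generalize Multiplicative.toAdd m' = m
      induction m using Int.induction_on generalizing q with
      | zero => simp
      | succ k ih =>
        have h1 : ∀ q, ψQ (f q) = s * ψQ q * s⁻¹ := fun q => by
          have h := hconj (e q)
          rwa [show σ (e q) = e (f q) by simp [σ]] at h
        rw [zpow_add_one, MulAut.mul_apply, ih, h1, zpow_add_one]
        group
      | pred k ih =>
        have h1 : ∀ q, ψQ (f q) = s * ψQ q * s⁻¹ := fun q => by
          have h := hconj (e q)
          rwa [show σ (e q) = e (f q) by simp [σ]] at h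
        have h2 : ψQ (f⁻¹ q) = s⁻¹ * ψQ q * s := by
          have h := h1 (f⁻¹ q)
          rw [MulAut.apply_inv_self] at h
          rw [h]
          group
        rw [zpow_sub_one, MulAut.mul_apply, ih, h2, zpow_sub_one]
        group)
  have hQcard : Nat.card Q = 8 := by
    rw [Nat.card_congr e.toEquiv, Nat.card_eq_fintype_card, QuaternionGroup.card]
  have hdisG : ∀ (q : Q) (m : ℤ), (q : G) * y ^ m = 1 → q = 1 ∧ y ^ m = 1 := by
    intro q m h
    have h1 : (q : G) = 1 := by
      have h8 : orderOf (q : G) ∣ 2 ^ 3 := by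
        rw [Subgroup.orderOf_coe, show (2 : ℕ) ^ 3 = 8 from rfl, ← hQcard]; exact orderOf_dvd_natCard q
      have hy' : orderOf (q : G) ∣ orderOf y := by
        rw [eq_inv_of_mul_eq_one_left h, orderOf_inv]
        exact orderOf_dvd_of_mem_zpowers (zpow_mem_zpowers y m)
      exact orderOf_eq_one_iff.mp (Nat.eq_one_of_dvd_coprimes (hco.pow_right 3).symm h8 hy')
    exact ⟨Subtype.ext h1, by rwa [h1, one_mul] at h⟩
  have hdisS : ∀ (q : Q) (m : ℤ), ψQ q * s ^ m = 1 → q = 1 ∧ s ^ m = 1 := by
    intro q m h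
    have h1 : ψQ q = 1 := by
      have h8 : orderOf (ψQ q) ∣ 8 := by
        rw [orderOf_injective ψQ hψQ, ← hQcard]; exact orderOf_dvd_natCard q
      have h3 : orderOf (ψQ q) ∣ 3 := by
        rw [eq_inv_of_mul_eq_one_left h, orderOf_inv]
        exact (orderOf_dvd_of_mem_zpowers (zpow_mem_zpowers s m)).trans (dvd_of_eq hs)
      exact orderOf_eq_one_iff.mp (Nat.eq_one_of_dvd_coprimes (by norm_num : Nat.Coprime 8 3) h8 h3)
    exact ⟨hψQ (h1.trans (map_one ψQ).symm), by rwa [h1, one_mul] at h⟩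
  have hker : α.rangeRestrict.ker ≤ β.ker := by
    intro x hx
    obtain ⟨h1, h2⟩ := hdisG x.left (Multiplicative.toAdd x.right) (congrArg Subtype.val hx)
    change ψQ x.left * s ^ Multiplicative.toAdd x.right = 1
    rw [h1, map_one, one_mul]
    refine orderOf_dvd_iff_zpow_eq_one.mp ?_
    rw [hs]
    exact (Int.natCast_dvd_natCast.mpr h3y).trans (orderOf_dvd_iff_zpow_eq_one.mpr h2)
  let H := α.range
  let K := zpowers (y ^ 3)
  let ψ : H →* Matrix.SpecialLinearGroup (Fin 2) (ZMod 3) :=
    MonoidHom.liftOfSurjective α.rangeRestrict α.rangeRestrict_surjective ⟨β, hker⟩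
  have hψ : ∀ x, ψ (α.rangeRestrict x) = β x :=
    MonoidHom.liftOfRightInverse_comp_apply α.rangeRestrict _
      (Function.rightInverse_surjInv α.rangeRestrict_surjective) ⟨β, hker⟩
  have hKker : K.subgroupOf H = ψ.ker := by
    ext h
    obtain ⟨x, rfl⟩ := α.rangeRestrict_surjective h
    rw [MonoidHom.mem_ker, hψ, mem_subgroupOf]
    constructor
    · rintro ⟨m, hm⟩
      have hm' : y ^ ((3 : ℤ) * m) = (x.left : G) * y ^ Multiplicative.toAdd x.right := by
        rw [zpow_mul, zpow_ofNat]; exact hm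
      obtain ⟨h1, h2⟩ := hdisG x.left (Multiplicative.toAdd x.right - 3 * m)
        (by rw [zpow_sub, ← mul_assoc, ← hm', mul_inv_cancel])
      change ψQ x.left * s ^ Multiplicative.toAdd x.right = 1
      rw [h1, map_one, one_mul]
      refine orderOf_dvd_iff_zpow_eq_one.mp ?_
      rw [hs]
      have h4 : (3 : ℤ) ∣ Multiplicative.toAdd x.right - 3 * m :=
        (Int.natCast_dvd_natCast.mpr h3y).trans (orderOf_dvd_iff_zpow_eq_one.mpr h2)
      exact (dvd_sub_left (dvd_mul_right 3 m)).mp h4
    · intro hx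
      obtain ⟨h1, h2⟩ := hdisS x.left (Multiplicative.toAdd x.right) hx
      obtain ⟨m, hm⟩ : (3 : ℤ) ∣ Multiplicative.toAdd x.right := by
        have := orderOf_dvd_iff_zpow_eq_one.mpr h2
        rwa [hs] at this
      refine ⟨m, ?_⟩
      change (y ^ 3) ^ m = (x.left : G) * y ^ Multiplicative.toAdd x.right
      rw [h1, coe_one, one_mul, hm, zpow_mul, zpow_ofNat]
  have hsurj : Function.Surjective ψ := by
    rw [← MonoidHom.range_eq_top]
    refine eq_top_of_card_eq _ (le_antisymm (card_le_card_group _) (Nat.le_of_dvd Nat.card_pos ?_))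
    have hSL : Nat.card (Matrix.SpecialLinearGroup (Fin 2) (ZMod 3)) = 8 * 3 := by
      rw [GLOrder.card_SL_two, Nat.card_zmod]; rfl
    rw [hSL]
    refine Nat.Coprime.mul_dvd_of_dvd_of_dvd (by norm_num) ?_ ?_
    · rw [← hQcard, Nat.card_congr (MonoidHom.ofInjective hψQ).toEquiv]
      refine card_dvd_of_le ?_
      rintro _ ⟨q, rfl⟩
      exact ⟨α.rangeRestrict (SemidirectProduct.inl q), (hψ _).trans (SemidirectProduct.lift_inl ..)⟩
    · refine (dvd_of_eq (hs.symm.trans (Nat.card_zpowers s).symm)).trans ?_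
      refine card_dvd_of_le (zpowers_le.mpr ⟨α.rangeRestrict (SemidirectProduct.inr (Multiplicative.ofAdd 1)), ?_⟩)
      rw [hψ, SemidirectProduct.lift_inr]
      simp
  have hn : (K.subgroupOf H).Normal := hKker ▸ MonoidHom.normal_ker ψ
  exact ⟨H, K, hn, ⟨(QuotientGroup.quotientMulEquivOfEq hKker).trans
    (QuotientGroup.quotientKerEquivOfSurjective ψ hsurj)⟩⟩

end Cfsg.Agent.Transfer
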