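-- Centric subgroups of wreathed 2-groups and their automorphisms of odd order.
--
-- Main results (namespace `Cfsg.Agent.Transfer.WR`, `d : WrData S n`):
-- * `kpre d c`: the preimage of a Klein four subgroup of `S / Z(S)`
-- * `quaternionHom`, `exists_kpre_of_quaternion`, `kpre_eq_sup`
-- * `centric_cases`: only `base` and `kpre (2 c)` can have automorphisms of odd order
-- * `base_aut`, `kpre_aut`: the effect of such automorphisms
import Cfsg.Agent.Lib.Transfer.Dihedral
import Cfsg.Agent.Lib.QDWreath.Wreathed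

set_option autoImplicit false

namespace Cfsg.Agent.Transfer.WR

open Subgroup
open QDWreath QDWreath.WrData

/-! ### Automorphisms of odd order -/

theorem aut_eq_self_of_coprime {X : Type*} [Group X] {α : MulAut X} {x c : X} {k : ℕ}
    (hco : Nat.Coprime (orderOf α) 2) (hc : c ^ 2 ^ k = 1) (hac : α c = c) (hax : α x = x * c) : α x = x := by
  have h : ∀ m : ℕ, (α ^ m) x = x * c ^ m := by
    intro m
    induction m with
    | zero => simp
    | succ m ih => rw [pow_succ' α, MulAut.mul_apply, ih, map_mul, map_pow, hax, hac, mul_assoc, ← pow_succ']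
  have h1 := h (orderOf α)
  rw [pow_orderOf_eq_one, MulAut.one_apply, left_eq_mul] at h1
  rw [hax, orderOf_eq_one_iff.mp
    (Nat.eq_one_of_dvd_coprimes (hco.pow_right k) (orderOf_dvd_of_pow_eq_one h1) (orderOf_dvd_of_pow_eq_one hc)),
    mul_one]

/-- An automorphism of odd order fixing the involutions of an invariant commutative 2-subgroup fixes it. -/
theorem fixes_of_fixes_involutions {X : Type*} [Group X] {α : MulAut X} (hco : Nat.Coprime (orderOf α) 2)
    (P : X → Prop) (hmul : ∀ x y, P x → P y → P (x * y)) (hinv : ∀ x, P x → P x⁻¹)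
    (hcomm : ∀ x y, P x → P y → x * y = y * x) (hfix : ∀ x, P x → P (α x))
    (h2 : ∀ x, P x → x * x = 1 → α x = x) {m : ℕ} : ∀ {x}, P x → x ^ 2 ^ m = 1 → α x = x := by
  induction m with
  | zero => intro x _ h; rw [pow_zero, pow_one] at h; rw [h, map_one]
  | succ m ih =>
    intro x hx hm
    set c := x⁻¹ * α x
    have hc : P c := hmul _ _ (hinv _ hx) (hfix _ hx)
    have hP : ∀ k : ℕ, P (x ^ (k + 1)) := fun k => by
      induction k with
      | zero => simpa using hx
      | succ k ih => rw [pow_succ]; exact hmul _ _ ih hx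
    have hy : α (x ^ 2 ^ m) = x ^ 2 ^ m := by
      refine h2 _ ?_ (by rw [← pow_two, ← pow_mul, ← pow_succ]; exact hm)
      have := hP (2 ^ m - 1)
      rwa [Nat.sub_add_cancel Nat.one_le_two_pow] at this
    have hcm : c ^ 2 ^ m = 1 := by
      rw [(show Commute x⁻¹ (α x) from hcomm _ _ (hinv _ hx) (hfix _ hx)).mul_pow, ← map_pow, hy, inv_pow,
        inv_mul_cancel]
    exact aut_eq_self_of_coprime hco hcm (ih hc hcm) (mul_inv_cancel_left _ _).symm

theorem isPGroup_mulAut_of_coprime {X : Type*} [Group X] [Finite X]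
    (h : ∀ α : MulAut X, Nat.Coprime (orderOf α) 2 → α = 1) : IsPGroup 2 (MulAut X) := by
  have := Fact.mk Nat.prime_two
  refine IsPGroup.iff_orderOf.mpr fun α => ?_
  obtain ⟨β, γ, hab, -, -, hk, hco⟩ := exists_pPart_mul (p := 2) α
  rw [hab, h γ hco, mul_one]
  exact hk

/-- The action induced on the image of an invariant map. -/
theorem aut_fixes_image {X V : Type*} [Group X] [Group V] [Finite V] (π : X →* V) (hπ : Function.Surjective π)
    {α : MulAut X} (hker : ∀ x, π x = 1 ↔ π (α x) = 1) (hV : IsPGroup 2 (MulAut V))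
    (hco : Nat.Coprime (orderOf α) 2) (x : X) : π (α x) = π x := by
  have := Fact.mk Nat.prime_two
  have hker' : ∀ a b, π a = π b ↔ π (α a) = π (α b) := by
    intro a b
    rw [← div_eq_one, ← map_div, hker, map_div, map_div, div_eq_one]
  let s := Function.surjInv hπ
  have hs : ∀ v, π (s v) = v := Function.surjInv_eq hπ
  have hsm : ∀ a, π (α (s (π a))) = π (α a) := fun a => (hker' _ _).mp (hs _)
  let β : MulAut V := MulEquiv.ofBijective
    (MonoidHom.mk' (fun v => π (α (s v))) fun v w => by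
      rw [← map_mul, ← map_mul]
      exact (hker' _ _).mp (by rw [hs, map_mul, hs, hs]))
    (by
      refine Finite.injective_iff_bijective.mp fun v w h => ?_
      have := (hker' (s v) (s w)).mpr h
      rwa [hs, hs] at this)
  have hβ : ∀ (m : ℕ) a, (β ^ m) (π a) = π ((α ^ m) a) := by
    intro m
    induction m with
    | zero => exact fun a => rfl
    | succ m ih =>
      intro a
      rw [pow_succ', pow_succ', MulAut.mul_apply, MulAut.mul_apply, ih]
      exact hsm _
  have h1 : β = 1 := by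
    obtain ⟨j, hj⟩ := hV β
    refine orderOf_eq_one_iff.mp (Nat.eq_one_of_dvd_coprimes (hco.pow_right j) ?_ (orderOf_dvd_of_pow_eq_one hj))
    refine orderOf_dvd_of_pow_eq_one (MulEquiv.ext fun v => ?_)
    rw [← hs v, hβ, pow_orderOf_eq_one]
    rfl
  have := hβ 1 x
  rw [pow_one, pow_one, h1] at this
  exact this.symm

section Abstract

variable {S : Type*} [Group S] {n : ℕ} (d : WrData S n)
include d

theorem half_mul : tp n (n - 1) * 2 = 0 := half_mul_two d.one_le

theorem half_eq_two_mul : tp n (n - 1) = 2 * tp n (n - 2) :=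
  (two_mul_tp n (n - 2) (n - 1) (by have := d.hn; omega)).symm

theorem half_ne_zero : tp n (n - 1) ≠ 0 := tp_ne_zero n (n - 1) (by have := d.hn; omega)

theorem two_mul_eq {i : ZMod (2 ^ n)} : 2 * i = 0 ↔ i = 0 ∨ i = tp n (n - 1) := two_mul_eq_zero d.one_le

theorem a_self_pow (i j : ZMod (2 ^ n)) (k : ℕ) : d.a i j ^ k = d.a (k * i) (k * j) := by
  induction k with
  | zero => simp
  | succ k ih => rw [pow_succ, ih, d.a_mul_a, d.a_inj]; push_cast; exact ⟨by ring, by ring⟩

theorem orderOf_u1 : orderOf (d.a (tp n (n - 1)) (tp n (n - 1))) = 2 := by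
  refine QDWreath.WrData.orderOf_eq_two.mpr ⟨?_, fun h => ?_⟩
  · rw [d.a_mul_a, ← two_mul, mul_comm, half_mul d, d.a_zero]
  · exact half_ne_zero d (d.a_inj.mp (h.trans d.a_zero.symm)).1

theorem orderOf_u2 : orderOf (d.a (tp n (n - 1)) 0) = 2 := by
  refine QDWreath.WrData.orderOf_eq_two.mpr ⟨?_, fun h => ?_⟩
  · rw [d.a_mul_a, ← two_mul, mul_comm, half_mul d, add_zero, d.a_zero]
  · exact half_ne_zero d (d.a_inj.mp (h.trans d.a_zero.symm)).1

theorem orderOf_v (i : ZMod (2 ^ n)) : orderOf (d.b i (-i)) = 2 :=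
  QDWreath.WrData.orderOf_eq_two.mpr ⟨d.sq_eq_one.mpr (Or.inr ⟨i, rfl⟩), d.b_ne_one _ _⟩

theorem involution_cases {g : S} (h : orderOf g = 2) :
    g = d.a (tp n (n - 1)) (tp n (n - 1)) ∨ g = d.a (tp n (n - 1)) 0 ∨ g = d.a 0 (tp n (n - 1)) ∨
      ∃ i, g = d.b i (-i) := by
  obtain ⟨h1, h2⟩ := QDWreath.WrData.orderOf_eq_two.mp h
  rcases d.sq_eq_one.mp h1 with ⟨i, j, rfl, hi | hi, hj | hj⟩ | ⟨i, rfl⟩
  · exact absurd (by rw [hi, hj, d.a_zero]) h2
  · exact Or.inr (Or.inr (Or.inl (by rw [hi, hj])))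
  · exact Or.inr (Or.inl (by rw [hi, hj]))
  · exact Or.inl (by rw [hi, hj])
  · exact Or.inr (Or.inr (Or.inr ⟨i, rfl⟩))

theorem u2_conj : d.b 0 0 * d.a 0 (tp n (n - 1)) * (d.b 0 0)⁻¹ = d.a (tp n (n - 1)) 0 := d.conj_b_a _ _ _ _

theorem v_conj (i : ZMod (2 ^ n)) : d.a (-i) 0 * d.b i (-i) * (d.a (-i) 0)⁻¹ = d.b 0 0 := by
  rw [d.conj_a_b, d.b_inj]; exact ⟨by ring, by ring⟩

theorem base_index : d.base.index = 2 := by
  have h := d.base.card_mul_index
  rw [d.card_base, d.card, pow_succ] at h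
  exact Nat.eq_of_mul_eq_mul_left (Nat.two_pow_pos _) h

theorem isPGroup : IsPGroup 2 S := IsPGroup.of_card d.card

theorem pow_two_pow (g : S) : g ^ 2 ^ (2 * n + 1) = 1 := by
  rw [← d.card]; exact pow_card_eq_one'

/-- The preimage of a Klein four subgroup of `S / Z(S)`. -/
def kpre (c : ZMod (2 ^ n)) : Subgroup S where
  carrier := {g | ∃ k l, (g = d.a k l ∧ 2 * (k - l) = 0) ∨ (g = d.b k l ∧ 2 * (l - k - c) = 0)}
  one_mem' := ⟨0, 0, Or.inl ⟨d.a_zero.symm, by ring⟩⟩
  mul_mem' := by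
    rintro _ _ ⟨k, l, ⟨rfl, h⟩ | ⟨rfl, h⟩⟩ ⟨k', l', ⟨rfl, h'⟩ | ⟨rfl, h'⟩⟩
    · exact ⟨_, _, Or.inl ⟨d.a_mul_a .., by linear_combination h + h'⟩⟩
    · exact ⟨_, _, Or.inr ⟨d.a_mul_b .., by linear_combination h' - h⟩⟩
    · exact ⟨_, _, Or.inr ⟨d.b_mul_a .., by linear_combination h + h'⟩⟩
    · exact ⟨_, _, Or.inl ⟨d.b_mul_b .., by linear_combination h' - h⟩⟩
  inv_mem' := by
    rintro _ ⟨k, l, ⟨rfl, h⟩ | ⟨rfl, h⟩⟩
    · exact ⟨_, _, Or.inl ⟨d.a_inv .., by linear_combination -h⟩⟩
    · exact ⟨_, _, Or.inr ⟨d.b_inv .., by linear_combination h⟩⟩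

theorem a_mem_kpre {c k l : ZMod (2 ^ n)} : d.a k l ∈ kpre d c ↔ 2 * (k - l) = 0 := by
  refine ⟨?_, fun h => ⟨k, l, Or.inl ⟨rfl, h⟩⟩⟩
  rintro ⟨k', l', ⟨he, h⟩ | ⟨he, -⟩⟩
  · obtain ⟨rfl, rfl⟩ := d.a_inj.mp he; exact h
  · exact absurd he (d.a_ne_b _ _ _ _)

theorem b_mem_kpre {c k l : ZMod (2 ^ n)} : d.b k l ∈ kpre d c ↔ 2 * (l - k - c) = 0 := by
  refine ⟨?_, fun h => ⟨k, l, Or.inr ⟨rfl, h⟩⟩⟩
  rintro ⟨k', l', ⟨he, -⟩ | ⟨he, h⟩⟩
  · exact absurd he.symm (d.a_ne_b _ _ _ _)
  · obtain ⟨rfl, rfl⟩ := d.b_inj.mp he; exact h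

theorem center_le_kpre (c : ZMod (2 ^ n)) : Subgroup.center S ≤ kpre d c := by
  intro g hg
  obtain ⟨i, rfl⟩ := d.mem_center.mp hg
  exact (a_mem_kpre d).mpr (by ring)

theorem u2_mem_kpre (c : ZMod (2 ^ n)) : d.a (tp n (n - 1)) 0 ∈ kpre d c :=
  (a_mem_kpre d).mpr (by linear_combination half_mul d)

theorem b0_mem_kpre (c : ZMod (2 ^ n)) : d.b 0 c ∈ kpre d c := (b_mem_kpre d).mpr (by ring)

theorem mem_center_of_commute {c : ZMod (2 ^ n)} {g : S} (h : ∀ x ∈ kpre d c, x * g = g * x) :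
    g ∈ Subgroup.center S := by
  rcases d.cases g with ⟨k, l, rfl⟩ | ⟨k, l, rfl⟩
  · have h1 := h _ (b0_mem_kpre d c)
    rw [d.b_mul_a, d.a_mul_b, d.b_inj] at h1
    exact d.mem_center.mpr ⟨k, by rw [show l = k by linear_combination h1.1]⟩
  · have h1 := h _ (u2_mem_kpre d c)
    rw [d.a_mul_b, d.b_mul_a, d.b_inj] at h1
    exact absurd (by linear_combination h1.1) (half_ne_zero d)

theorem kpre_conj (c p r : ZMod (2 ^ n)) :
    (kpre d c).map (MulAut.conj (d.a p r)).toMonoidHom = kpre d (c - 2 * (p - r)) := by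
  ext g
  rw [mem_map_conj_iff]
  rcases d.cases g with ⟨k, l, rfl⟩ | ⟨k, l, rfl⟩
  · rw [d.a_inv, d.a_mul_a, d.a_mul_a, a_mem_kpre, a_mem_kpre]
    constructor <;> intro h <;> linear_combination h
  · rw [d.a_inv, d.a_mul_b, d.b_mul_a, b_mem_kpre, b_mem_kpre]
    constructor <;> intro h <;> linear_combination h

theorem exists_kpre_conj (c c' : ZMod (2 ^ n)) :
    ∃ s, (kpre d (2 * c)).map (MulAut.conj s).toMonoidHom = kpre d (2 * c') := by
  refine ⟨d.a (c - c') 0, ?_⟩
  rw [kpre_conj]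
  congr 1
  ring

theorem kpre_not_comm (c : ZMod (2 ^ n)) : ¬ IsMulCommutative (kpre d c) := by
  intro h
  have h1 : d.a (tp n (n - 1)) 0 ∈ Subgroup.center S := by
    refine mem_center_of_commute d (c := c) fun x hx => ?_
    exact congrArg Subtype.val (h.is_comm.comm (⟨x, hx⟩ : kpre d c) ⟨_, u2_mem_kpre d c⟩)
  obtain ⟨i, hi⟩ := d.mem_center.mp h1
  obtain ⟨h2, h3⟩ := d.a_inj.mp hi
  exact half_ne_zero d (h2.trans h3.symm)

theorem centralizer_kpre_le (c : ZMod (2 ^ n)) :
    centralizer (kpre d c : Set S) ≤ kpre d c := fun _ hg =>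
  center_le_kpre d c (mem_center_of_commute d (mem_centralizer_iff.mp hg))

theorem relIndex_normalizer_kpre (c : ZMod (2 ^ n)) :
    (kpre d (2 * c)).relIndex (normalizer (kpre d (2 * c) : Set S)) = 2 := by
  haveI := d.finite
  have hh := half_eq_two_mul d
  have h2 := half_mul d
  have hnorm : ∀ p r, d.a p r ∈ normalizer (kpre d (2 * c) : Set S) ↔ 2 * (2 * (p - r)) = 0 := by
    intro p r
    rw [← map_conj_eq_iff_mem_normalizer, kpre_conj]
    constructor
    · intro h
      have h1 := b0_mem_kpre d (2 * c - 2 * (p - r))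
      rw [h, b_mem_kpre] at h1
      linear_combination -h1
    · intro h
      ext g
      rcases d.cases g with ⟨k, l, rfl⟩ | ⟨k, l, rfl⟩
      · rw [a_mem_kpre, a_mem_kpre]
      · rw [b_mem_kpre, b_mem_kpre]
        constructor <;> intro h'
        · linear_combination h' - h
        · linear_combination h' + h
  rw [relIndex_eq_two_iff]
  refine ⟨d.a (tp n (n - 2)) 0, (hnorm _ _).mpr (by linear_combination h2 - 2 * hh), fun g hg => ?_⟩
  have hb : ∀ k l, d.b k l = d.a k (l - 2 * c) * d.b 0 (2 * c) := by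
    intro k l; rw [d.a_mul_b, d.b_inj]; exact ⟨by ring, by ring⟩
  have main : ∀ p r, d.a p r ∈ normalizer (kpre d (2 * c) : Set S) →
      Xor (d.a (p + tp n (n - 2)) r ∈ kpre d (2 * c)) (d.a p r ∈ kpre d (2 * c)) := by
    intro p r h
    rw [a_mem_kpre, a_mem_kpre]
    rw [hnorm] at h
    rcases (two_mul_eq d).mp h with h' | h'
    · refine Or.inr ⟨h', fun h'' => half_ne_zero d ?_⟩
      linear_combination hh + h'' - h'
    · refine Or.inl ⟨by linear_combination h' - hh + h2, fun h'' => half_ne_zero d ?_⟩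
      linear_combination h'' - h'
  rcases d.cases g with ⟨p, r, rfl⟩ | ⟨p, r, rfl⟩
  · rw [d.a_mul_a, add_zero]
    exact main p r hg
  · have hb0 : d.b 0 (2 * c) ∈ kpre d (2 * c) := b0_mem_kpre d _
    rw [hb p r, Subgroup.mul_mem_cancel_right _ (le_normalizer hb0)] at hg
    have e : d.b p r * d.a (tp n (n - 2)) 0 = d.a p (r - 2 * c + tp n (n - 2)) * d.b 0 (2 * c) := by
      rw [d.b_mul_a, d.a_mul_b, d.b_inj]; exact ⟨by ring, by ring⟩
    rw [e, Subgroup.mul_mem_cancel_right _ hb0, hb p r, Subgroup.mul_mem_cancel_right _ hb0]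
    have h := main p _ hg
    have e2 : d.a p (r - 2 * c + tp n (n - 2)) ∈ kpre d (2 * c) ↔
        d.a (p + tp n (n - 2)) (r - 2 * c) ∈ kpre d (2 * c) := by
      rw [a_mem_kpre, a_mem_kpre]
      constructor <;> intro h'
      · linear_combination h' - 2 * hh + h2
      · linear_combination h' + 2 * hh - h2
    rwa [e2]

open Classical in
/-- The character `a i j ↦ i + j`, `b i j ↦ i + j + 2^(n-1)`, whose kernel is generalized quaternion. -/
noncomputable def chi : S →* Multiplicative (ZMod (2 ^ n)) :=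
  MonoidHom.mk'
    (fun g => Multiplicative.ofAdd (if h : ∃ i j, g = d.a i j then h.choose + h.choose_spec.choose
      else if h' : ∃ i j, g = d.b i j then h'.choose + h'.choose_spec.choose + tp n (n - 1) else 0))
    (by
      intro g h
      have ea : ∀ i j (H : ∃ i' j', d.a i j = d.a i' j'),
          H.choose + H.choose_spec.choose = i + j := by
        intro i j H
        obtain ⟨e1, e2⟩ := d.a_inj.1 H.choose_spec.choose_spec
        rw [← e2, ← e1]
      have eb : ∀ i j (H : ∃ i' j', d.b i j = d.b i' j'),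
          H.choose + H.choose_spec.choose = i + j := by
        intro i j H
        obtain ⟨e1, e2⟩ := d.b_inj.1 H.choose_spec.choose_spec
        rw [← e2, ← e1]
      have hab : ∀ i j, ¬ ∃ i' j', d.b i j = d.a i' j' := fun i j ⟨i', j', e⟩ =>
        d.a_ne_b i' j' i j e.symm
      rw [← ofAdd_add]
      congr 1
      rcases d.cases g with ⟨i, j, rfl⟩ | ⟨i, j, rfl⟩ <;>
        rcases d.cases h with ⟨k, l, rfl⟩ | ⟨k, l, rfl⟩ <;>
        simp only [a_mul_a, a_mul_b, b_mul_a, b_mul_b, hab, exists_apply_eq_apply2', dif_pos,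
          dif_neg, not_false_eq_true, ea, eb] <;>
        first | ring1 | linear_combination -half_mul d)

open Classical in
theorem chi_a (i j : ZMod (2 ^ n)) : chi d (d.a i j) = Multiplicative.ofAdd (i + j) := by
  have H : ∃ i' j', d.a i j = d.a i' j' := ⟨i, j, rfl⟩
  show Multiplicative.ofAdd (dite _ _ _) = _
  rw [dif_pos H]
  obtain ⟨e1, e2⟩ := d.a_inj.1 H.choose_spec.choose_spec
  rw [← e2, ← e1]

open Classical in
theorem chi_b (i j : ZMod (2 ^ n)) : chi d (d.b i j) = Multiplicative.ofAdd (i + j + tp n (n - 1)) := by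
  have H : ∃ i' j', d.b i j = d.b i' j' := ⟨i, j, rfl⟩
  show Multiplicative.ofAdd (dite _ _ _) = _
  rw [dif_neg (fun ⟨i', j', e⟩ => d.a_ne_b i' j' i j e.symm), dif_pos H]
  obtain ⟨e1, e2⟩ := d.b_inj.1 H.choose_spec.choose_spec
  rw [← e2, ← e1]

theorem chi_surjective : Function.Surjective (chi d) := fun v =>
  ⟨d.a v.toAdd 0, by rw [chi_a, add_zero, ofAdd_toAdd]⟩

theorem index_ker_chi : (chi d).ker.index = 2 ^ n := by
  rw [index_ker, MonoidHom.range_eq_top.mpr (chi_surjective d), card_top,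
    Nat.card_congr Multiplicative.toAdd, Nat.card_zmod]

theorem mem_ker_chi {g : S} :
    g ∈ (chi d).ker ↔ ∃ k, g = d.a k (-k) ∨ g = d.b k (tp n (n - 1) - k) := by
  rw [MonoidHom.mem_ker]
  rcases d.cases g with ⟨i, j, rfl⟩ | ⟨i, j, rfl⟩
  · rw [chi_a, ofAdd_eq_one]
    constructor
    · exact fun h => ⟨i, Or.inl (by rw [eq_neg_of_add_eq_zero_right h])⟩
    · rintro ⟨k, h | h⟩
      · obtain ⟨rfl, rfl⟩ := d.a_inj.mp h; ring
      · exact absurd h (d.a_ne_b _ _ _ _)
  · rw [chi_b, ofAdd_eq_one]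
    constructor
    · exact fun h => ⟨i, Or.inr (by rw [show j = tp n (n - 1) - i by linear_combination h - half_mul d])⟩
    · rintro ⟨k, h | h⟩
      · exact absurd h.symm (d.a_ne_b _ _ _ _)
      · obtain ⟨rfl, rfl⟩ := d.b_inj.mp h; linear_combination half_mul d

/-- A quaternion group inside `S` given by an injection into the antidiagonal. -/
def quaternionHom {m : ℕ} (c : ZMod (2 * m) →+ ZMod (2 ^ n)) (hm : c m = tp n (n - 1)) (s : ZMod (2 ^ n)) :
    QuaternionGroup m →* S where
  toFun g := match g with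
    | .a i => d.a (c i) (-c i)
    | .xa i => d.b (s - c i) (tp n (n - 1) - s + c i)
  map_one' := by
    show d.a (c 0) (-c 0) = 1
    simp
  map_mul' := by
    rintro (i | i) (j | j) <;>
      simp only [QuaternionGroup.a_mul_a, QuaternionGroup.a_mul_xa, QuaternionGroup.xa_mul_a,
        QuaternionGroup.xa_mul_xa, d.a_mul_a, d.a_mul_b, d.b_mul_a, d.b_mul_b, map_add, map_sub, hm] <;>
      congr 1 <;> first | ring1 | linear_combination half_mul d | linear_combination -half_mul d

theorem quaternionHom_injective {m : ℕ} (c : ZMod (2 * m) →+ ZMod (2 ^ n)) (hm : c m = tp n (n - 1))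
    (s : ZMod (2 ^ n)) (hc : Function.Injective c) : Function.Injective (quaternionHom d c hm s) := by
  rintro (i | i) (j | j) h
  · exact congrArg _ (hc (d.a_inj.1 h).1)
  · exact absurd h (d.a_ne_b _ _ _ _)
  · exact absurd h.symm (d.a_ne_b _ _ _ _)
  · exact congrArg _ (hc (sub_right_injective (d.b_inj.1 h).1))

theorem ker_chi_equiv : Nonempty ((chi d).ker ≃* QuaternionGroup (2 ^ (n - 1))) := by
  have hq : 2 * 2 ^ (n - 1) = 2 ^ n := by rw [← pow_succ']; congr 1; have := d.hn; omega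
  set c : ZMod (2 * 2 ^ (n - 1)) →+ ZMod (2 ^ n) := (ZMod.castHom (dvd_of_eq hq.symm) _).toAddMonoidHom
  have hc : ∀ k : ℕ, c k = (k : ZMod (2 ^ n)) := fun k => map_natCast (ZMod.castHom (dvd_of_eq hq.symm) _) k
  have hm : c (2 ^ (n - 1) : ℕ) = tp n (n - 1) := hc _
  have hinj : Function.Injective c := by
    intro i j h
    obtain ⟨i, rfl⟩ := ZMod.natCast_zmod_surjective i
    obtain ⟨j, rfl⟩ := ZMod.natCast_zmod_surjective j
    rw [hc, hc, ZMod.natCast_eq_natCast_iff] at h
    rw [ZMod.natCast_eq_natCast_iff, hq]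
    exact h
  have hrange : (quaternionHom d c hm 0).range = (chi d).ker := by
    ext g
    rw [mem_ker_chi]
    constructor
    · rintro ⟨i | i, rfl⟩
      · exact ⟨c i, Or.inl rfl⟩
      · exact ⟨0 - c i, Or.inr (by show d.b _ _ = _; rw [d.b_inj]; exact ⟨rfl, by ring⟩)⟩
    · rintro ⟨k, rfl | rfl⟩
      · obtain ⟨k, rfl⟩ := ZMod.natCast_zmod_surjective k
        exact ⟨.a (k : ℕ), by show d.a _ _ = _; rw [hc]⟩
      · obtain ⟨i, hi⟩ := ZMod.natCast_zmod_surjective (-k)
        exact ⟨.xa (i : ℕ), by show d.b _ _ = _; rw [hc, hi, d.b_inj]; exact ⟨by ring, by ring⟩⟩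
  exact ⟨(MulEquiv.subgroupCongr hrange.symm).trans (MonoidHom.ofInjective (quaternionHom_injective d c hm 0 hinj)).symm⟩

theorem exists_kpre_of_quaternion {Q : Subgroup S} (e : Q ≃* QuaternionGroup 2) :
    ∃ c, Q ⊔ Subgroup.center S = kpre d (2 * c) ∧ Q ≤ (chi d).ker := by
  haveI := d.finite
  have hh := half_eq_two_mul d
  have h2 := half_mul d
  have key : ∀ x y : QuaternionGroup 2, x ^ 4 = 1 ∧ (x * x = 1 → x = 1 ∨ x = .a 2) ∧
      (x * x) * y = y * (x * x) := by decide
  have hpow : ∀ g ∈ Q, g ^ 4 = 1 := fun g hg => congrArg Subtype.val (e.map_eq_one_iff.mp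
    (by rw [map_pow]; exact (key (e ⟨g, hg⟩) 1).1) : (⟨g, hg⟩ : Q) ^ 4 = 1)
  have hnc : ∃ x ∈ Q, ∃ y ∈ Q, x * y ≠ y * x := by
    refine ⟨e.symm (.a 1), SetLike.coe_mem _, e.symm (.xa 0), SetLike.coe_mem _, fun h => ?_⟩
    have h' : e.symm (.a 1) * e.symm (.xa 0) = e.symm (.xa 0) * e.symm (.a 1) := Subtype.ext h
    rw [← map_mul, ← map_mul] at h'
    exact absurd (e.symm.injective h') (by decide)
  obtain ⟨x₀, hx₀, y₀, hy₀, hne⟩ := hnc
  obtain ⟨i, j, hb⟩ : ∃ i j, d.b i j ∈ Q := by
    by_contra h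
    simp only [not_exists] at h
    have hbase : ∀ g ∈ Q, ∃ k l, g = d.a k l := fun g hg =>
      (d.cases g).resolve_right fun ⟨k, l, e⟩ => h k l (e ▸ hg)
    obtain ⟨k, l, rfl⟩ := hbase _ hx₀
    obtain ⟨k', l', rfl⟩ := hbase _ hy₀
    exact hne (by rw [d.a_mul_a, d.a_mul_a, add_comm k, add_comm l])
  have hsqc : ∀ g ∈ Q, ∀ g' ∈ Q, g * g * g' = g' * (g * g) := fun g hg g' hg' => by
    have h1 : e ((⟨g, hg⟩ : Q) * ⟨g, hg⟩ * ⟨g', hg'⟩) = e (⟨g', hg'⟩ * (⟨g, hg⟩ * ⟨g, hg⟩)) := by
      simp only [map_mul]; exact (key _ _).2.2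
    exact congrArg Subtype.val (e.injective h1)
  have ha : ∀ k l, d.a k l ∈ Q → 2 * (k - l) = 0 := by
    intro k l hkl
    have h := hsqc _ hkl _ hb
    rw [d.a_mul_a, d.a_mul_b, d.b_mul_a, d.b_inj] at h
    linear_combination h.1
  have hb' : ∀ k l, d.b k l ∈ Q → k + l = tp n (n - 1) ∧ 2 * (l - k - (j - i)) = 0 := by
    intro k l hkl
    refine ⟨?_, ?_⟩
    · have h4 := hpow _ hkl
      rw [pow_succ, pow_succ, pow_succ, pow_one, mul_assoc _ (d.b k l) (d.b k l), d.b_mul_b, d.a_mul_a,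
        ← d.a_zero, d.a_inj] at h4
      rcases (two_mul_eq d).mp (show 2 * (k + l) = 0 by linear_combination h4.1) with h0 | h0
      · exfalso
        have hsq : d.b k l * d.b k l = 1 := by rw [d.b_mul_b, h0, add_comm, h0, d.a_zero]
        have hsq' : (⟨_, hkl⟩ : Q) * ⟨_, hkl⟩ = 1 := Subtype.ext hsq
        rcases (key (e ⟨_, hkl⟩) 1).2.1 (by rw [← map_mul, hsq', map_one]) with h' | h'
        · exact d.b_ne_one k l (congrArg Subtype.val (e.map_eq_one_iff.mp h'))
        · obtain ⟨g₀, hg₀⟩ : ∃ g₀ : Q, e g₀ = .a 1 := e.surjective _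
          have : (⟨_, hkl⟩ : Q) = g₀ * g₀ := e.injective (h'.trans (by rw [map_mul, hg₀]; decide))
          have h1 : d.b k l = (g₀ : S) * g₀ := congrArg Subtype.val this
          rcases d.cases (g₀ : S) with ⟨p, r, hp⟩ | ⟨p, r, hp⟩
          · rw [hp, d.a_mul_a] at h1; exact d.a_ne_b _ _ _ _ h1.symm
          · rw [hp, d.b_mul_b] at h1; exact d.a_ne_b _ _ _ _ h1.symm
      · exact h0
    · have := ha _ _ (by rw [← d.b_mul_b]; exact Q.mul_mem hkl hb)
      linear_combination -this
  obtain ⟨c, hc⟩ : ∃ c, j - i = 2 * c := ⟨tp n (n - 2) - i, by linear_combination (hb' i j hb).1 + hh⟩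
  have haQ : ∀ k l, d.a k l ∈ Q → k + l = 0 := by
    intro k l hkl
    have h1 := (hb' (k + i) (l + j) (by rw [← d.a_mul_b]; exact Q.mul_mem hkl hb)).1
    linear_combination h1 - (hb' i j hb).1
  have hle : Q ≤ kpre d (2 * c) := by
    intro g hg
    rcases d.cases g with ⟨k, l, rfl⟩ | ⟨k, l, rfl⟩
    · exact (a_mem_kpre d).mpr (ha k l hg)
    · exact (b_mem_kpre d).mpr (by rw [← hc]; exact (hb' k l hg).2)
  refine ⟨c, le_antisymm (sup_le hle (center_le_kpre d _)) ?_, fun g hg => (mem_ker_chi d).mpr ?_⟩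
  · obtain ⟨p, r, hpr, hne'⟩ : ∃ p r, d.a p r ∈ Q ∧ p ≠ r := by
      by_contra h
      simp only [not_exists, not_and, not_not] at h
      have hgen : ∀ g ∈ Q, ∃ k, g = d.a k k ∨ g = d.a k k * d.b i j := by
        intro g hg
        rcases d.cases g with ⟨k, l, rfl⟩ | ⟨k, l, rfl⟩
        · exact ⟨k, Or.inl (by rw [h k l hg])⟩
        · have h1 : d.a (k - i) (l - j) ∈ Q := by
            have := Q.mul_mem hg (Q.inv_mem hb)
            rwa [d.b_inv, d.b_mul_b, ← sub_eq_add_neg, ← sub_eq_add_neg] at this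
          exact ⟨k - i, Or.inr (by
            rw [d.a_mul_b, sub_add_cancel, show k - i + j = l by linear_combination h _ _ h1])⟩
      apply hne
      obtain ⟨k, rfl | rfl⟩ := hgen _ hx₀ <;> obtain ⟨k', rfl | rfl⟩ := hgen _ hy₀ <;>
        simp only [d.a_mul_b, d.a_mul_a, d.b_mul_a, d.b_mul_b] <;> congr 1 <;> ring
    have hT : ∀ k l, 2 * (k - l) = 0 → d.a k l ∈ Q ⊔ Subgroup.center S := by
      intro k l hkl
      rcases (two_mul_eq d).mp hkl with h | h
      · exact mem_sup_right (d.mem_center.mpr ⟨k, by rw [sub_eq_zero.mp h]⟩)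
      · have hpr' := ((two_mul_eq d).mp (ha p r hpr)).resolve_left (sub_ne_zero.mpr hne')
        rw [show d.a k l = d.a p r * d.a (k - p) (k - p) by
          rw [d.a_mul_a, d.a_inj]; exact ⟨by ring, by linear_combination hpr' - h⟩]
        exact mul_mem (mem_sup_left hpr) (mem_sup_right (d.mem_center.mpr ⟨_, rfl⟩))
    rintro g ⟨k, l, ⟨rfl, h⟩ | ⟨rfl, h⟩⟩
    · exact hT k l h
    · rw [show d.b k l = d.a (k - i) (l - j) * d.b i j by rw [d.a_mul_b, sub_add_cancel, sub_add_cancel]]
      exact mul_mem (hT _ _ (by linear_combination -h + 2 * hc)) (mem_sup_left hb)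
  · rcases d.cases g with ⟨k, l, rfl⟩ | ⟨k, l, rfl⟩
    · exact ⟨k, Or.inl (by rw [eq_neg_of_add_eq_zero_right (haQ k l hg)])⟩
    · exact ⟨k, Or.inr (by rw [← (hb' k l hg).1, add_sub_cancel_left])⟩

theorem exists_quaternion_kpre (c : ZMod (2 ^ n)) :
    ∃ Q : Subgroup S, Nonempty (Q ≃* QuaternionGroup 2) ∧ Q ⊔ Subgroup.center S = kpre d (2 * c) := by
  have hh := half_eq_two_mul d
  have h2 := half_mul d
  let f : { f : ℤ →+ ZMod (2 ^ n) // f ((2 * 2 : ℕ) : ℤ) = 0 } :=
    ⟨(AddMonoidHom.mulRight (tp n (n - 2))).comp (Int.castAddHom (ZMod (2 ^ n))), by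
      simp only [AddMonoidHom.coe_comp, Function.comp_apply, Int.coe_castAddHom, AddMonoidHom.coe_mulRight]
      push_cast
      linear_combination -2 * hh + h2⟩
  set φ := ZMod.lift (2 * 2) f
  have hφ : ∀ k : ℤ, φ k = (k : ZMod (2 ^ n)) * tp n (n - 2) := fun k => ZMod.lift_coe _ _ _
  have hm : φ ((2 : ℕ) : ZMod (2 * 2)) = tp n (n - 1) := by
    have := hφ 2
    push_cast at this ⊢
    rw [this, hh]
  have hinj : Function.Injective φ := by
    refine (injective_iff_map_eq_zero φ).mpr fun x hx => ?_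
    by_contra hx0
    have hne : ∀ x : ZMod (2 * 2), x ≠ 0 → x + x ≠ 0 ∨ x = 2 := by decide
    rcases hne x hx0 with h | h
    · have he : ∀ x : ZMod (2 * 2), x + x ≠ 0 → x + x = 2 := by decide
      apply half_ne_zero d
      rw [← hm, Nat.cast_ofNat, ← he x h, map_add, hx, add_zero]
    · apply half_ne_zero d
      rw [← hm, Nat.cast_ofNat, ← h, hx]
  have e := MonoidHom.ofInjective (quaternionHom_injective d φ hm (-c) hinj)
  refine ⟨_, ⟨e.symm⟩, ?_⟩
  obtain ⟨c', hc', -⟩ := exists_kpre_of_quaternion d e.symm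
  rw [hc']
  have h0 : d.b (-c) (tp n (n - 1) + c) ∈ (quaternionHom d φ hm (-c)).range :=
    ⟨.xa 0, by show d.b _ _ = _; rw [map_zero, d.b_inj]; exact ⟨by ring, by ring⟩⟩
  have h1 := hc' ▸ (mem_sup_left h0 : _ ∈ _ ⊔ Subgroup.center S)
  rw [b_mem_kpre] at h1
  ext g
  rcases d.cases g with ⟨k, l, rfl⟩ | ⟨k, l, rfl⟩
  · rw [a_mem_kpre, a_mem_kpre]
  · rw [b_mem_kpre, b_mem_kpre]
    constructor <;> intro h
    · linear_combination h - h1 + h2
    · linear_combination h + h1 - h2

theorem base_comm {x y : S} (hx : x ∈ d.base) (hy : y ∈ d.base) : x * y = y * x := by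
  obtain ⟨i, j, rfl⟩ := d.mem_base.mp hx
  obtain ⟨k, l, rfl⟩ := d.mem_base.mp hy
  rw [d.a_mul_a, d.a_mul_a, add_comm i, add_comm j]

theorem centralizer_base_le : centralizer (d.base : Set S) ≤ d.base := by
  intro g hg
  rcases d.cases g with ⟨i, j, rfl⟩ | ⟨i, j, rfl⟩
  · exact d.mem_base.mpr ⟨i, j, rfl⟩
  · have h := mem_centralizer_iff.mp hg (d.a 1 0) (d.mem_base.mpr ⟨1, 0, rfl⟩)
    rw [d.a_mul_b, d.b_mul_a, d.b_inj] at h
    exact absurd (by linear_combination h.1) d.nontrivial

/-- The effect of an automorphism of odd order of `⟨x, y⟩`. -/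
theorem base_aut {X : Subgroup S} (hX : X = d.base) (α : MulAut X) (hco : Nat.Coprime (orderOf α) 2) :
    α = 1 ∨ ((∀ u : X, (u : S) = d.a (tp n (n - 1)) (tp n (n - 1)) →
        (α u : S) = d.a (tp n (n - 1)) 0 ∨ (α u : S) = d.a 0 (tp n (n - 1))) ∧
      ∀ x : X, ∃ g : X, α g * g⁻¹ = x) := by
  haveI := d.finite
  subst hX
  have hcomm : ∀ x y : d.base, x * y = y * x := fun x y => Subtype.ext (base_comm d x.2 y.2)
  have hinvol : ∀ u v w t : d.base, orderOf u = 2 → orderOf v = 2 → orderOf w = 2 → orderOf t = 2 → u ≠ v →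
      u ≠ w → v ≠ w → t = u ∨ t = v ∨ t = w := by
    intro u v w t hu hv hw ht h1 h2 h3
    have hm : ∀ s : d.base, orderOf s = 2 → (s : S) = d.a (tp n (n - 1)) (tp n (n - 1)) ∨
        (s : S) = d.a (tp n (n - 1)) 0 ∨ (s : S) = d.a 0 (tp n (n - 1)) := by
      intro s hs
      rcases involution_cases d (by rw [← hs, Subgroup.orderOf_coe]) with e | e | e | ⟨i, e⟩
      · exact Or.inl e
      · exact Or.inr (Or.inl e)
      · exact Or.inr (Or.inr e)
      · obtain ⟨k, l, hk⟩ := d.mem_base.mp (e ▸ s.2)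
        exact absurd hk.symm (d.a_ne_b _ _ _ _)
    rw [ne_eq, ← Subtype.coe_inj] at h1 h2 h3
    simp only [← Subtype.coe_inj]
    rcases hm u hu with e1 | e1 | e1 <;> rcases hm v hv with e2 | e2 | e2 <;>
      rcases hm w hw with e3 | e3 | e3 <;> rcases hm t ht with e4 | e4 | e4 <;>
      simp_all
  have hord : ∀ (m : ℕ) (s : d.base), orderOf s = 2 → orderOf ((α ^ m) s) = 2 := fun m s hs => by
    rw [MulEquiv.orderOf_eq, hs]
  have hfix : ∀ u : d.base, orderOf u = 2 → α u = u → α = 1 := by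
    intro u hu hαu
    have h2 : ∀ t : d.base, orderOf t = 2 → α t = t := by
      intro t ht
      by_contra hne
      have htu : t ≠ u := fun e => hne (e ▸ hαu)
      have h1 : u ≠ α t := fun e => htu (α.injective (e.symm.trans hαu.symm))
      have hαt : orderOf (α t) = 2 := by rw [MulEquiv.orderOf_eq, ht]
      have hαα : orderOf (α (α t)) = 2 := by rw [MulEquiv.orderOf_eq, hαt]
      rcases hinvol u t (α t) (α (α t)) hu ht hαt hαα htu.symm h1 (Ne.symm hne) with e | e | e
      · exact h1 (α.injective (e.trans hαu.symm)).symm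
      · have hm : ∀ m : ℕ, (α ^ (2 * m)) t = t := by
          intro m
          induction m with
          | zero => rfl
          | succ m ih => rw [show 2 * (m + 1) = 2 + 2 * m by ring, pow_add, MulAut.mul_apply, ih, pow_two,
              MulAut.mul_apply, e]
        obtain ⟨j, hj⟩ : Odd (orderOf α) := Nat.coprime_two_right.mp hco
        have := congrArg (fun f : MulAut d.base => f t) (pow_orderOf_eq_one α)
        simp only [hj, MulAut.one_apply, pow_succ', MulAut.mul_apply, hm j] at this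
        exact hne this
      · exact hne (α.injective e)
    refine MulEquiv.ext fun x => ?_
    refine fixes_of_fixes_involutions hco (fun _ => True) (fun _ _ _ _ => trivial) (fun _ _ => trivial)
      (fun x y _ _ => hcomm x y) (fun _ _ => trivial) (fun t _ ht => ?_) (m := 2 * n + 1) (x := x) trivial
      (Subtype.ext (pow_two_pow d (x : S)))
    by_cases h1 : t = 1
    · rw [h1, map_one]
    · exact h2 t (orderOf_eq_prime (by rw [pow_two]; exact ht) h1)
  by_cases h1 : α = 1
  · exact Or.inl h1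
  refine Or.inr ⟨fun u hu => ?_, fun x => ?_⟩
  · have hu2 : orderOf u = 2 := by rw [← Subgroup.orderOf_coe, hu, orderOf_u1]
    have hau : orderOf ((α u : d.base) : S) = 2 := by rw [Subgroup.orderOf_coe, MulEquiv.orderOf_eq, hu2]
    rcases involution_cases d hau with e | e | e | ⟨i, e⟩
    · exact absurd (hfix u hu2 (Subtype.ext (e.trans hu.symm))) h1
    · exact Or.inl e
    · exact Or.inr e
    · obtain ⟨k, l, hk⟩ := d.mem_base.mp (e ▸ (α u).2)
      exact absurd hk.symm (d.a_ne_b _ _ _ _)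
  · let D : d.base →* d.base := MonoidHom.mk' (fun g => α g * g⁻¹) fun g g' => by
      rw [map_mul, mul_inv_rev, hcomm g'⁻¹ g⁻¹]
      rw [show α g * α g' * (g⁻¹ * g'⁻¹) = α g * (α g' * g⁻¹) * g'⁻¹ by group, hcomm (α g') g⁻¹]
      group
    have hD : Function.Injective D := by
      refine (injective_iff_map_eq_one D).mpr fun g hg => ?_
      by_contra hg1
      have hαg : α g = g := mul_inv_eq_one.mp hg
      obtain ⟨k, hk⟩ := IsPGroup.iff_orderOf.mp ((isPGroup d).to_subgroup d.base) g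
      obtain ⟨j, rfl⟩ : ∃ j, k = j + 1 := ⟨k - 1, by
        rcases Nat.eq_zero_or_pos k with h0 | h0
        · exact absurd (orderOf_eq_one_iff.mp (by rw [hk, h0, pow_zero])) hg1
        · omega⟩
      refine h1 (hfix (g ^ 2 ^ j) ?_ (by rw [map_pow, hαg]))
      rw [orderOf_pow_of_dvd (by positivity) (hk ▸ pow_dvd_pow 2 (Nat.le_succ j)), hk, pow_succ,
        Nat.mul_div_cancel_left _ (Nat.two_pow_pos j)]
    exact Finite.injective_iff_surjective.mp hD x

/-- The effect of an automorphism of odd order of `kpre c`. -/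
theorem kpre_aut {X : Subgroup S} {c : ZMod (2 ^ n)} (hX : X = kpre d c) (α : MulAut X)
    (hco : Nat.Coprime (orderOf α) 2) :
    (∀ x : X, (x : S) ∈ Subgroup.center S → α x = x) ∧
      (α = 1 ∨ ((∃ m, c = 2 * m) ∧
        (∀ w : X, (w : S) = d.a (tp n (n - 1)) 0 → ∃ k, (α w : S) = d.b k (-k)) ∧
        ∀ x : X, chi d (α x : S) = chi d (x : S))) := by
  haveI := d.finite
  subst hX
  have hh := half_eq_two_mul d
  have h2 := half_mul d
  have hcen : ∀ x : kpre d c, (x : S) ∈ Subgroup.center S → (α x : S) ∈ Subgroup.center S := by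
    intro x hx
    refine mem_center_of_commute d (c := c) fun y hy => ?_
    have := congrArg α (Subtype.ext (Subgroup.mem_center_iff.mp hx (α.symm ⟨y, hy⟩ : kpre d c)) :
      (α.symm ⟨y, hy⟩) * x = x * α.symm ⟨y, hy⟩)
    rw [map_mul, map_mul, α.apply_symm_apply] at this
    exact congrArg Subtype.val this
  have hu1 : ∀ x : kpre d c, (x : S) ∈ Subgroup.center S → x * x = 1 →
      x = 1 ∨ (x : S) = d.a (tp n (n - 1)) (tp n (n - 1)) := by
    intro x hx hxx
    obtain ⟨i, hi⟩ := d.mem_center.mp hx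
    have : (x : S) * x = 1 := congrArg Subtype.val hxx
    rw [hi, d.a_mul_a, ← d.a_zero, d.a_inj, ← two_mul] at this
    rcases (two_mul_eq d).mp this.1 with h | h
    · exact Or.inl (Subtype.ext (by rw [hi, h, d.a_zero]; rfl))
    · exact Or.inr (by rw [hi, h])
  have hZ : ∀ x : kpre d c, (x : S) ∈ Subgroup.center S → α x = x := by
    refine fun x hx => fixes_of_fixes_involutions hco (fun x : kpre d c => (x : S) ∈ Subgroup.center S)
      (fun _ _ => mul_mem) (fun _ => inv_mem)
      (fun a b ha _ => Subtype.ext (Subgroup.mem_center_iff.mp ha b).symm) hcen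
      (fun t ht htt => ?_) (m := 2 * n + 1) (x := x) hx (Subtype.ext (pow_two_pow d (x : S)))
    rcases hu1 t ht htt with e | e
    · rw [e, map_one]
    · rcases hu1 (α t) (hcen t ht) (by rw [← map_mul, htt, map_one]) with e' | e'
      · rw [show t = 1 from α.injective (e'.trans (map_one α).symm), map_one]
      · exact Subtype.ext (e'.trans e.symm)
  refine ⟨hZ, ?_⟩
  set w : kpre d c := ⟨_, u2_mem_kpre d c⟩
  set b₀ : kpre d c := ⟨_, b0_mem_kpre d c⟩
  have hdec : ∀ x : kpre d c, ∃ z : kpre d c, (z : S) ∈ Subgroup.center S ∧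
      (x = z ∨ x = z * w ∨ x = z * b₀ ∨ x = z * w * b₀) := by
    rintro ⟨x, k, l, ⟨rfl, h⟩ | ⟨rfl, h⟩⟩
    · refine ⟨⟨d.a l l, (a_mem_kpre d).mpr (by ring)⟩, d.mem_center.mpr ⟨l, rfl⟩, ?_⟩
      rcases (two_mul_eq d).mp h with e | e
      · exact Or.inl (Subtype.ext (show d.a k l = d.a l l by rw [sub_eq_zero.mp e]))
      · exact Or.inr (Or.inl (Subtype.ext (show d.a k l = d.a l l * d.a _ 0 by
          rw [d.a_mul_a, d.a_inj]; exact ⟨by linear_combination e, by ring⟩)))
    · refine ⟨⟨d.a (l - c) (l - c), (a_mem_kpre d).mpr (by ring)⟩, d.mem_center.mpr ⟨_, rfl⟩, ?_⟩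
      rcases (two_mul_eq d).mp h with e | e
      · exact Or.inr (Or.inr (Or.inl (Subtype.ext (show d.b k l = d.a _ _ * d.b 0 c by
          rw [d.a_mul_b, d.b_inj]; exact ⟨by linear_combination -e, by ring⟩))))
      · exact Or.inr (Or.inr (Or.inr (Subtype.ext (show d.b k l = d.a _ _ * d.a _ 0 * d.b 0 c by
          rw [d.a_mul_a, d.a_mul_b, d.b_inj]; exact ⟨by linear_combination -e - h2, by ring⟩))))
  have hwz : ∀ z : kpre d c, (z : S) ∈ Subgroup.center S → w ≠ z := by
    intro z hz e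
    obtain ⟨i, hi⟩ := d.mem_center.mp hz
    obtain ⟨e1, e2⟩ := d.a_inj.mp ((congrArg Subtype.val e).trans hi)
    exact half_ne_zero d (e1.trans e2.symm)
  by_cases hw : α w = w
  · left
    have hb : α b₀ = b₀ := by
      obtain ⟨z, hz, hx⟩ := hdec (α b₀)
      have hb0ne : ∀ k l, (b₀ : S) ≠ d.a k l := fun k l => (d.a_ne_b _ _ _ _).symm
      obtain ⟨i, hi⟩ := d.mem_center.mp hz
      have hzw : α (z * w) = z * w := by rw [map_mul, hZ z hz, hw]
      rcases hx with e | e | e | e
      · exact absurd ((congrArg Subtype.val (α.injective (e.trans (hZ z hz).symm))).trans hi) (hb0ne i i)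
      · refine absurd ((congrArg Subtype.val (α.injective (e.trans hzw.symm))).trans ?_) (hb0ne (i + tp n (n - 1)) (i + 0))
        rw [Subgroup.coe_mul, hi]
        exact d.a_mul_a ..
      · refine aut_eq_self_of_coprime (c := z) (k := 2 * n + 1) hco
          (Subtype.ext (pow_two_pow d (z : S))) (hZ z hz) (e.trans (Subtype.ext ?_))
        exact (Subgroup.mem_center_iff.mp hz b₀).symm
      · refine aut_eq_self_of_coprime (c := z * (b₀⁻¹ * w * b₀)) (k := 2 * n + 1) hco
          (Subtype.ext (pow_two_pow d _)) ?_ (e.trans ?_)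
        · obtain ⟨p, hp, hp'⟩ : ∃ p : kpre d c, (p : S) ∈ Subgroup.center S ∧ b₀⁻¹ * w * b₀ = p * w := by
            refine ⟨⟨d.a (tp n (n - 1)) (tp n (n - 1)), (a_mem_kpre d).mpr (by ring)⟩,
              d.mem_center.mpr ⟨_, rfl⟩, Subtype.ext ?_⟩
            show (d.b 0 c)⁻¹ * d.a _ 0 * d.b 0 c = d.a _ _ * d.a _ 0
            rw [d.b_inv, d.b_mul_a, d.b_mul_b, d.a_mul_a, d.a_inj]
            exact ⟨by linear_combination -h2, by ring⟩
          rw [hp', map_mul, map_mul, hZ z hz, hZ p hp, hw]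
        · have hzc : b₀ * z = z * b₀ := Subtype.ext (Subgroup.mem_center_iff.mp hz b₀)
          rw [← mul_assoc b₀ z, hzc]
          group
    refine MulEquiv.ext fun x => ?_
    obtain ⟨z, hz, hx⟩ := hdec x
    rw [MulAut.one_apply]
    rcases hx with e | e | e | e <;> simp only [e, map_mul, hZ z hz, hw, hb]
  · right
    have hw2 : orderOf w = 2 := by rw [← Subgroup.orderOf_coe]; exact orderOf_u2 d
    obtain ⟨k, hk⟩ : ∃ k, (α w : S) = d.b k (-k) := by
      rcases involution_cases d (g := (α w : S)) (by rw [Subgroup.orderOf_coe, MulEquiv.orderOf_eq, hw2]) with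
        e | e | e | e
      · have hc' : (α w : S) ∈ Subgroup.center S := d.mem_center.mpr ⟨_, e⟩
        exact absurd (α.injective (hZ _ hc')).symm (hwz _ hc')
      · exact absurd (Subtype.ext e) hw
      · refine absurd (aut_eq_self_of_coprime
          (c := (⟨d.a (tp n (n - 1)) (tp n (n - 1)), (a_mem_kpre d).mpr (by ring)⟩ : kpre d c))
          (k := 2 * n + 1) hco (Subtype.ext (pow_two_pow d _)) (hZ _ (d.mem_center.mpr ⟨_, rfl⟩))
          (Subtype.ext (e.trans ?_))) hw
        show _ = d.a _ 0 * d.a _ _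
        rw [d.a_mul_a, d.a_inj]
        exact ⟨by linear_combination -h2, by ring⟩
      · exact e
    obtain ⟨m, rfl⟩ : ∃ m, c = 2 * m := by
      have := (α w).2
      rw [hk, b_mem_kpre] at this
      rcases (two_mul_eq d).mp this with e | e
      · exact ⟨-k, by linear_combination -e⟩
      · exact ⟨-k + tp n (n - 2), by linear_combination -e - h2 + hh⟩
    refine ⟨⟨m, rfl⟩, fun w' hw' => ?_, fun x => ?_⟩
    · rw [show w' = w from Subtype.ext hw']
      exact ⟨k, hk⟩
    set z₀ : kpre d (2 * m) := ⟨d.a (-m) (tp n (n - 1) - m), (a_mem_kpre d).mpr (by linear_combination -h2)⟩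
    set β := z₀ * b₀
    have hβ : (β : S) = d.b (-m) (tp n (n - 1) + m) := by
      show d.a _ _ * d.b 0 (2 * m) = _
      rw [d.a_mul_b, d.b_inj]; exact ⟨by ring, by ring⟩
    have hββ : (β : S) * β = d.a (tp n (n - 1)) (tp n (n - 1)) := by
      rw [hβ, d.b_mul_b, d.a_inj]; exact ⟨by ring, by ring⟩
    have hsq : (α β : S) * (α β : S) = d.a (tp n (n - 1)) (tp n (n - 1)) := by
      have hc' : ((β * β : kpre d (2 * m)) : S) ∈ Subgroup.center S := d.mem_center.mpr ⟨_, hββ⟩
      rw [← Subgroup.coe_mul, ← map_mul, hZ _ hc', Subgroup.coe_mul, hββ]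
    have hχw : chi d (α w : S) = chi d (w : S) := by
      rw [hk, show (w : S) = d.a (tp n (n - 1)) 0 from rfl, chi_b, chi_a, add_neg_cancel, zero_add, add_zero]
    have hχβ : chi d (α β : S) = chi d (β : S) := by
      have hm' := (α β).2
      rw [hβ, chi_b]
      rcases d.cases (α β : S) with ⟨p, r, e⟩ | ⟨p, r, e⟩
      · rw [e, chi_a]
        rw [e, d.a_mul_a, d.a_inj] at hsq
        rw [e, a_mem_kpre] at hm'
        congr 1
        rcases (two_mul_eq d).mp hm' with f | f
        · exfalso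
          have hc' : (α β : S) ∈ Subgroup.center S := d.mem_center.mpr ⟨p, by rw [e, sub_eq_zero.mp f]⟩
          have h := congrArg Subtype.val (α.injective (hZ _ hc'))
          rw [e, hβ] at h
          exact d.a_ne_b _ _ _ _ h
        · linear_combination hsq.1 - f - h2
      · rw [e, chi_b]
        rw [e, d.b_mul_b, d.a_inj] at hsq
        congr 1
        linear_combination hsq.1
    obtain ⟨z, hz, hx⟩ := hdec x
    have hb₀ : chi d (α b₀ : S) = chi d (b₀ : S) := by
      have h1 : chi d (α z₀ : S) = chi d (z₀ : S) := by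
        obtain ⟨z', hz', e⟩ : ∃ z' : kpre d (2 * m), (z' : S) ∈ Subgroup.center S ∧ (z₀ : kpre d (2 * m)) = z' * w := by
          refine ⟨⟨d.a (tp n (n - 1) - m) (tp n (n - 1) - m), (a_mem_kpre d).mpr (by ring)⟩,
            d.mem_center.mpr ⟨_, rfl⟩, Subtype.ext ?_⟩
          show d.a _ _ = d.a _ _ * d.a _ 0
          rw [d.a_mul_a, d.a_inj]; exact ⟨by linear_combination -h2, by ring⟩
        rw [e, map_mul α, hZ z' hz', Subgroup.coe_mul, Subgroup.coe_mul, map_mul, map_mul, hχw]
      have h3 : chi d (α z₀ : S) * chi d (α b₀ : S) = chi d (z₀ : S) * chi d (b₀ : S) := by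
        rw [← map_mul, ← map_mul, ← Subgroup.coe_mul, ← map_mul α, ← Subgroup.coe_mul]
        exact hχβ
      rw [h1] at h3
      exact mul_left_cancel h3
    rcases hx with e | e | e | e <;>
      simp only [e, map_mul α, hZ z hz, Subgroup.coe_mul, map_mul, hχw, hb₀]

/-- Centric subgroups of a wreathed group with an automorphism of odd order. -/
theorem centric_cases {X : Subgroup S} (hC : centralizer (X : Set S) ≤ X) :
    IsPGroup 2 (MulAut X) ∨ X = d.base ∨ ∃ c, X = kpre d (2 * c) := by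
  haveI := d.finite
  have hh := half_eq_two_mul d
  have h2 := half_mul d
  have hZX : Subgroup.center S ≤ X := (Subgroup.center_le_centralizer _).trans hC
  by_cases hb : X ≤ d.base
  · refine Or.inr (Or.inl (le_antisymm hb fun x hx => hC (mem_centralizer_iff.mpr fun y hy => ?_)))
    exact base_comm d (hb hy) hx
  obtain ⟨g, hgX, hgb⟩ := SetLike.not_le_iff_exists.mp hb
  obtain ⟨i, j, rfl⟩ : ∃ i j, g = d.b i j :=
    (d.cases g).resolve_left fun ⟨i, j, e⟩ => hgb (d.mem_base.mpr ⟨i, j, e⟩)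
  by_cases hab : ∀ k l, d.a k l ∈ X → k = l
  · left
    have hmem : ∀ x ∈ X, ∃ p, x = d.a p p ∨ x = d.b (i + p) (j + p) := by
      intro x hx
      rcases d.cases x with ⟨k, l, rfl⟩ | ⟨k, l, rfl⟩
      · exact ⟨k, Or.inl (by rw [hab k l hx])⟩
      · have := X.mul_mem hx (X.inv_mem hgX)
        rw [d.b_inv, d.b_mul_b] at this
        have e := hab _ _ this
        exact ⟨k - i, Or.inr (by rw [d.b_inj]; exact ⟨by ring, by linear_combination -e⟩)⟩
    have hcomm : ∀ x y : X, x * y = y * x := by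
      rintro ⟨x, hx⟩ ⟨y, hy⟩
      apply Subtype.ext
      show x * y = y * x
      obtain ⟨p, rfl | rfl⟩ := hmem x hx <;> obtain ⟨r, rfl | rfl⟩ := hmem y hy <;>
        simp only [d.a_mul_a, d.a_mul_b, d.b_mul_a, d.b_mul_b] <;> congr 1 <;> ring
    refine isPGroup_mulAut_of_coprime fun α hco => MulEquiv.ext fun x => ?_
    refine fixes_of_fixes_involutions hco (fun _ => True) (fun _ _ _ _ => trivial) (fun _ _ => trivial)
      (fun x y _ _ => hcomm x y) (fun _ _ => trivial) (fun t _ ht => ?_) (m := 2 * n + 1) (x := x) trivial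
      (Subtype.ext (pow_two_pow d (x : S)))
    have hqmem : d.a (tp n (n - 2)) (tp n (n - 2)) ∈ X := hZX (d.mem_center.mpr ⟨_, rfl⟩)
    set q : X := ⟨_, hqmem⟩
    have hsq : ∀ x : X, ∃ p, ((x * x : X) : S) = d.a p p := by
      rintro ⟨x, hx⟩
      obtain ⟨p, rfl | rfl⟩ := hmem x hx
      · exact ⟨_, d.a_mul_a ..⟩
      · exact ⟨_, (d.b_mul_b ..).trans (by rw [add_comm (j + p)])⟩
    have hinv : ∀ s : X, s * s = 1 → s = 1 ∨ s = q * q ∨ ∃ p, (s : S) = d.b p (-p) := by
      intro s hs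
      rcases d.sq_eq_one.mp (congrArg Subtype.val hs) with ⟨k, l, e, hk, -⟩ | ⟨p, e⟩
      · have hkl := hab k l (e ▸ s.2)
        subst hkl
        rcases hk with hk | hk
        · exact Or.inl (Subtype.ext (by rw [e, hk, d.a_zero]; rfl))
        · refine Or.inr (Or.inl (Subtype.ext ?_))
          rw [e, hk, Subgroup.coe_mul]
          show _ = d.a _ _ * d.a _ _
          rw [d.a_mul_a, d.a_inj]; exact ⟨by rw [hh]; ring, by rw [hh]; ring⟩
      · exact Or.inr (Or.inr ⟨p, e⟩)
    have hqq1 : q * q ≠ 1 := by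
      intro h
      have h' : d.a (tp n (n - 2)) (tp n (n - 2)) * d.a (tp n (n - 2)) (tp n (n - 2)) = 1 := congrArg Subtype.val h
      rw [d.a_mul_a, ← d.a_zero, d.a_inj, ← two_mul, ← hh] at h'
      exact half_ne_zero d h'.1
    have hqq4 : q * q * (q * q) = 1 := by
      apply Subtype.ext
      show d.a (tp n (n - 2)) (tp n (n - 2)) * d.a _ _ * (d.a _ _ * d.a _ _) = 1
      rw [d.a_mul_a, d.a_mul_a, ← d.a_zero, d.a_inj]
      exact ⟨by linear_combination -2 * hh + h2, by linear_combination -2 * hh + h2⟩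
    have hfq : α (q * q) = q * q := by
      rcases hinv (α (q * q)) (by rw [← map_mul, hqq4, map_one]) with e | e | ⟨p, e⟩
      · exact absurd (α.injective (e.trans (map_one α).symm)) hqq1
      · exact e
      · obtain ⟨r, hr⟩ := hsq (α q)
        rw [← map_mul, e] at hr
        exact absurd hr.symm (d.a_ne_b _ _ _ _)
    rcases hinv t ht with rfl | rfl | ⟨p, hp⟩
    · exact map_one α
    · exact hfq
    rcases hinv (α t) (by rw [← map_mul, ht, map_one]) with e | e | ⟨r, e⟩
    · rw [show t = 1 from α.injective (e.trans (map_one α).symm), map_one]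
    · rw [show t = q * q from α.injective (e.trans hfq.symm), hfq]
    have htp : d.b p (-p) ∈ X := hp ▸ t.2
    have htr : d.b r (-r) ∈ X := e ▸ (α t).2
    have hpr := hab _ _ (by rw [← d.b_mul_b]; exact X.mul_mem htp htr)
    rcases (two_mul_eq d).mp (show 2 * (r - p) = 0 by linear_combination -hpr) with f | f
    · exact Subtype.ext (by rw [e, hp, sub_eq_zero.mp f])
    · refine aut_eq_self_of_coprime (c := q * q) (k := 2 * n + 1) hco (Subtype.ext (pow_two_pow d _)) hfq
        (Subtype.ext ?_)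
      rw [e, Subgroup.coe_mul, Subgroup.coe_mul, hp]
      show _ = d.b p (-p) * (d.a _ _ * d.a _ _)
      rw [d.a_mul_a, d.b_mul_a, d.b_inj]
      exact ⟨by linear_combination f + hh, by linear_combination -f + hh - h2⟩
  · obtain ⟨m, rfl⟩ : ∃ m, n = m + 2 := ⟨n - 2, by have := d.hn; omega⟩
    set V := X.map d.toDihedral
    have hXV : ∀ x, x ∈ X ↔ d.toDihedral x ∈ V := by
      intro x
      refine ⟨fun h => mem_map_of_mem _ h, fun ⟨y, hy, e⟩ => ?_⟩
      have : y⁻¹ * x ∈ Subgroup.center S := by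
        rw [← d.ker_toDihedral, MonoidHom.mem_ker, map_mul, map_inv, e, inv_mul_cancel]
      simpa using X.mul_mem hy (hZX this)
    rcases dihedral_subgroup_cases rfl V with hV | hV
    · left
      refine isPGroup_mulAut_of_coprime fun α hco => MulEquiv.ext fun x => ?_
      simp only [not_forall] at hab
      obtain ⟨p, r, hpr, hne⟩ := hab
      have hZ' : ∀ x : X, (x : S) ∈ Subgroup.center S ↔ ∀ y : X, y * x = x * y := by
        intro x
        refine ⟨fun h y => Subtype.ext (Subgroup.mem_center_iff.mp h y), fun h => ?_⟩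
        rcases d.cases (x : S) with ⟨k, l, e⟩ | ⟨k, l, e⟩
        · have := congrArg Subtype.val (h ⟨_, hgX⟩)
          rw [Subgroup.coe_mul, Subgroup.coe_mul, e, d.b_mul_a, d.a_mul_b, d.b_inj] at this
          exact d.mem_center.mpr ⟨k, by rw [e, show l = k by linear_combination this.1]⟩
        · have := congrArg Subtype.val (h ⟨_, hpr⟩)
          rw [Subgroup.coe_mul, Subgroup.coe_mul, e, d.b_mul_a, d.a_mul_b, d.b_inj] at this
          exact absurd (by linear_combination this.1) hne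
      have hcen : ∀ x : X, (x : S) ∈ Subgroup.center S → (α x : S) ∈ Subgroup.center S := by
        intro x hx
        refine (hZ' _).mpr fun y => ?_
        have := congrArg α ((hZ' x).mp hx (α.symm y))
        rwa [map_mul, map_mul, α.apply_symm_apply] at this
      have hcen' : ∀ x : X, (α x : S) ∈ Subgroup.center S → (x : S) ∈ Subgroup.center S := by
        intro x hx
        refine (hZ' _).mpr fun y => α.injective ?_
        rw [map_mul, map_mul]
        exact (hZ' _).mp hx (α y)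
      have hfixZ : ∀ x : X, (x : S) ∈ Subgroup.center S → α x = x := by
        refine fun x hx => fixes_of_fixes_involutions hco (fun x : X => (x : S) ∈ Subgroup.center S)
          (fun _ _ => mul_mem) (fun _ => inv_mem) (fun a b ha _ => ((hZ' a).mp ha b).symm) hcen
          (fun t ht htt => ?_) (m := 2 * (m + 2) + 1) (x := x) hx (Subtype.ext (pow_two_pow d (x : S)))
        have hu : ∀ s : X, (s : S) ∈ Subgroup.center S → s * s = 1 →
            s = 1 ∨ (s : S) = d.a (tp (m + 2) (m + 2 - 1)) (tp (m + 2) (m + 2 - 1)) := by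
          intro s hs hss
          obtain ⟨k, hk⟩ := d.mem_center.mp hs
          have : (s : S) * s = 1 := congrArg Subtype.val hss
          rw [hk, d.a_mul_a, ← d.a_zero, d.a_inj, ← two_mul] at this
          rcases (two_mul_eq d).mp this.1 with h | h
          · exact Or.inl (Subtype.ext (by rw [hk, h, d.a_zero]; rfl))
          · exact Or.inr (by rw [hk, h])
        rcases hu t ht htt with e | e
        · rw [e, map_one]
        · rcases hu (α t) (hcen t ht) (by rw [← map_mul, htt, map_one]) with e' | e'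
          · rw [show t = 1 from α.injective (e'.trans (map_one α).symm), map_one]
          · exact Subtype.ext (e'.trans e.symm)
      have hπ := aut_fixes_image (d.toDihedral.subgroupMap X) (d.toDihedral.subgroupMap_surjective X)
        (α := α) (fun x => by
          rw [Subtype.ext_iff, Subtype.ext_iff, MonoidHom.subgroupMap_apply_coe,
            MonoidHom.subgroupMap_apply_coe, OneMemClass.coe_one, ← MonoidHom.mem_ker, ← MonoidHom.mem_ker,
            d.ker_toDihedral]
          exact ⟨hcen x, hcen' x⟩) hV hco x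
      have hc' : ((x⁻¹ * α x : X) : S) ∈ Subgroup.center S := by
        have := congrArg Subtype.val hπ
        rw [MonoidHom.subgroupMap_apply_coe, MonoidHom.subgroupMap_apply_coe] at this
        rw [← d.ker_toDihedral, MonoidHom.mem_ker, Subgroup.coe_mul, InvMemClass.coe_inv, map_mul, map_inv, this,
          inv_mul_cancel]
      exact aut_eq_self_of_coprime hco (Subtype.ext (pow_two_pow d ((x⁻¹ * α x : X) : S)))
        (hfixZ _ hc') (mul_inv_cancel_left x (α x)).symm
    · obtain ⟨c, hc⟩ := dihedral_klein_shape m V hV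
      have hmid : midIndex m = tp (m + 2) (m + 2 - 1) := rfl
      have hX : X = kpre d c := by
        ext x
        rw [hXV, hc, mem_dihedralKlein]
        rcases d.cases x with ⟨k, l, rfl⟩ | ⟨k, l, rfl⟩
        · rw [d.toDihedral_a, a_mem_kpre, two_mul_eq d, DihedralGroup.one_def]
          simp only [DihedralGroup.r.injEq, reduceCtorEq, or_false, hmid]
        · rw [d.toDihedral_b, b_mem_kpre, two_mul_eq d, DihedralGroup.one_def]
          simp only [DihedralGroup.sr.injEq, reduceCtorEq, false_or, hmid, sub_eq_zero]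
          exact or_congr_right ⟨fun h => by rw [h]; ring, fun h => by rw [← h]; ring⟩
      obtain ⟨c', rfl | rfl⟩ := even_or_odd c
      · exact Or.inr (Or.inr ⟨c', hX⟩)
      · left
        refine isPGroup_mulAut_of_coprime fun α hco => ?_
        rcases (kpre_aut d hX α hco).2 with h | ⟨⟨r, hr⟩, -⟩
        · exact h
        · exact absurd hr.symm (two_mul_ne_odd d.one_le _ _)

end Abstract

end Cfsg.Agent.Transfer.WR
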