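-- Isolated involutions and invariant Sylow subgroups.
--
-- Main results (namespace `Cfsg.Agent.Transfer`):
-- * `exists_odd_normal_of_isolated` (Glauberman's Z*)
-- * `exists_invariant_sylow`, `isSylow_of_maximal_invariant`, `card_inverted`
import Cfsg.Agent.Lib.Transfer.Isolated
import Cfsg.Agent.S0215
import Cfsg.Agent.S1180
import Cfsg.Agent.S1185

set_option autoImplicit false

namespace Cfsg.Agent.Transfer

open Subgroup

variable {G : Type*} [Group G] [Finite G] {z : G}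

theorem exists_odd_normal_of_isolated (hz : IsIsolatedInvolution z) :
    ∃ N : Subgroup G, N.Normal ∧ Odd (Nat.card N) ∧ ∀ g : G, z * g * z⁻¹ * g⁻¹ ∈ N := by
  obtain ⟨S, hzS, hS⟩ := exists_sylow_le_centralizer_of_isolated hz
  exact S0215.result S z hz.1 hzS fun g hg => hz.2 g (mem_centralizer_singleton_iff.mp (hS hg)).symm

omit [Finite G] in
theorem isolated_restrict (hz : IsIsolatedInvolution z) (K : Subgroup G) (hzK : z ∈ K) :
    IsIsolatedInvolution (⟨z, hzK⟩ : K) :=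
  ⟨by rw [← Subgroup.orderOf_coe]; exact hz.1, fun g hc => Subtype.ext (hz.2 g (congrArg Subtype.val hc))⟩

/-- Some Sylow `p`-subgroup is invariant under an isolated involution. -/
theorem exists_invariant_sylow (hz : IsIsolatedInvolution z) {p : ℕ} [Fact p.Prime] :
    ∃ P : Sylow p G, z ∈ normalizer ((P : Subgroup G) : Set G) := by
  have := Fact.mk Nat.prime_two
  by_cases hp : p = 2
  · subst hp
    obtain ⟨S, hzS, -⟩ := exists_sylow_le_centralizer_of_isolated hz
    exact ⟨S, le_normalizer hzS⟩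
  obtain ⟨N, hN, hNodd, hcen⟩ := exists_odd_normal_of_isolated hz
  obtain ⟨P⟩ : Nonempty (Sylow p G) := inferInstance
  set M := N ⊔ (P : Subgroup G)
  have hMconj : ∀ x ∈ M, z * x * z⁻¹ ∈ M := by
    intro x hx
    rw [show z * x * z⁻¹ = z * x * z⁻¹ * x⁻¹ * x by group]
    exact mul_mem (mem_sup_left (hcen x)) hx
  have hModd : ∀ x ∈ M, Odd (orderOf x) := by
    intro x hx
    obtain ⟨a, ha, b, hb, rfl⟩ := mem_sup_of_normal_left.mp hx
    obtain ⟨k, hk⟩ := IsPGroup.iff_orderOf.mp P.2 ⟨b, hb⟩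
    rw [Subgroup.orderOf_mk] at hk
    have h1 : ∀ m : ℕ, (a * b) ^ m * (b ^ m)⁻¹ ∈ N := by
      intro m
      induction m with
      | zero => simp
      | succ m ih =>
        rw [pow_succ', pow_succ', show a * b * (a * b) ^ m * (b * b ^ m)⁻¹ =
          a * (b * ((a * b) ^ m * (b ^ m)⁻¹) * b⁻¹) by group]
        exact mul_mem ha (hN.conj_mem _ ih b)
    have h2 : (a * b) ^ orderOf b ∈ N := by simpa [pow_orderOf_eq_one] using h1 (orderOf b)
    have h3 : ((a * b) ^ orderOf b) ^ Nat.card N = 1 :=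
      congrArg Subtype.val (pow_card_eq_one' (x := (⟨_, h2⟩ : N)))
    rw [← pow_mul] at h3
    refine Odd.of_dvd_nat (Odd.mul ?_ hNodd) (orderOf_dvd_of_pow_eq_one h3)
    rw [hk]
    exact ((Nat.Prime.odd_of_ne_two Fact.out hp)).pow
  -- `z` moves `P` to an `M`-conjugate
  set zP := z • P
  have hPM : (P : Subgroup G) ≤ M := le_sup_right
  have hzPM : (zP : Subgroup G) ≤ M := by
    rw [sylow_coe_smul]
    rintro _ ⟨x, hx, rfl⟩
    exact hMconj x (hPM hx)
  obtain ⟨m, hm, hmP⟩ := exists_conj_sylow_le P zP hPM hzPM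
  rw [sylow_coe_smul] at hmP
  set w := m⁻¹ * z
  have hw : w ∈ normalizer ((P : Subgroup G) : Set G) := by
    rw [← map_conj_eq_iff_mem_normalizer, ← map_conj_map_conj, ← hmP, map_conj_map_conj, inv_mul_cancel,
      map_conj_one]
  have hwsq : w * w ∈ M := by
    rw [show w * w = m⁻¹ * (z * m⁻¹ * z⁻¹) * (z * z) by simp only [w]; group, sq_eq_one_of_isolated hz, mul_one]
    exact mul_mem (inv_mem hm) (hMconj _ (inv_mem hm))
  obtain ⟨j, hj⟩ := hModd _ hwsq
  have hpow : ∀ i : ℕ, w ^ (2 * i + 1) * z ∈ M := by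
    intro i
    rw [pow_succ, pow_mul, mul_assoc]
    refine mul_mem (pow_mem (by rw [sq]; exact hwsq) i) ?_
    rw [show w * z = m⁻¹ * (z * z) by simp only [w]; group, sq_eq_one_of_isolated hz, mul_one]
    exact inv_mem hm
  set u := w ^ (2 * j + 1)
  have hu2 : u * u = 1 := by
    rw [← pow_two, ← pow_mul, mul_comm, pow_mul, pow_two, ← hj, pow_orderOf_eq_one]
  set d := u * z
  have hzd : z * d * z⁻¹ = d⁻¹ := by
    rw [inv_eq_of_isolated hz, show z * d * z = z * u * (z * z) by simp only [d]; group,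
      sq_eq_one_of_isolated hz, mul_one, mul_inv_rev, inv_eq_of_isolated hz, inv_eq_of_mul_eq_one_left hu2]
  obtain ⟨l, hl⟩ := hModd d (hpow j)
  set h := d ^ (l + 1)
  have hh : h * z * h⁻¹ = u := by
    rw [conj_eq_sq_mul (inverted_pow hzd (l + 1)), ← pow_add, show l + 1 + (l + 1) = orderOf d + 1 by omega,
      pow_succ, pow_orderOf_eq_one, one_mul]
    simp only [d]
    rw [mul_assoc, sq_eq_one_of_isolated hz, mul_one]
  refine ⟨h⁻¹ • P, ?_⟩
  rw [sylow_coe_smul, ← map_conj_normalizer, mem_map_conj_iff, inv_inv, hh]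
  exact pow_mem hw _

/-- A maximal invariant `p`-subgroup is a Sylow subgroup. -/
theorem isSylow_of_maximal_invariant (hz : IsIsolatedInvolution z) {p : ℕ} [Fact p.Prime] {Q : Subgroup G}
    (hQ : IsPGroup p Q) (hzQ : z ∈ normalizer (Q : Set G))
    (hmax : ∀ R : Subgroup G, IsPGroup p R → z ∈ normalizer (R : Set G) → Q ≤ R → R = Q) :
    ∃ P : Sylow p G, (P : Subgroup G) = Q := by
  set H := normalizer (Q : Set G)
  obtain ⟨R, hR⟩ := exists_invariant_sylow (isolated_restrict hz H hzQ) (p := p)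
  haveI : (Q.subgroupOf H).Normal := normal_in_normalizer
  have hQp : IsPGroup p (Q.subgroupOf H) := hQ.of_equiv (subgroupOfEquivOfLe le_normalizer).symm
  have hQR : Q.subgroupOf H ≤ (R : Subgroup H) :=
    le_sup_left.trans (R.3 (hQp.to_sup_of_normal_left R.2) le_sup_right).le
  have hR' : (R : Subgroup H).map H.subtype = Q := by
    refine hmax _ (R.2.map _) ?_ ?_
    · refine mem_normalizer_iff.mpr fun x => ?_
      have h1 := fun y : H => mem_normalizer_iff.mp hR y
      constructor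
      · rintro ⟨y, hy, rfl⟩
        exact ⟨_, (h1 y).mp hy, rfl⟩
      · rintro ⟨y, hy, he⟩
        refine ⟨(⟨z, hzQ⟩ : H)⁻¹ * y * ⟨z, hzQ⟩, (h1 _).mpr ?_, ?_⟩
        · rwa [show (⟨z, hzQ⟩ : H) * ((⟨z, hzQ⟩ : H)⁻¹ * y * ⟨z, hzQ⟩) * (⟨z, hzQ⟩ : H)⁻¹ = y by group]
        · change z⁻¹ * (y : G) * z = x
          rw [show (y : G) = z * x * z⁻¹ from he]
          group
    · exact fun x hx => ⟨⟨x, le_normalizer hx⟩, hQR (mem_subgroupOf.mpr hx), rfl⟩
  obtain ⟨P, hQP⟩ := hQ.exists_le_sylow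
  refine ⟨P, le_antisymm ?_ hQP⟩
  by_contra hne
  have hlt : Q.subgroupOf (P : Subgroup G) < ⊤ :=
    lt_top_iff_ne_top.mpr fun h => hne (subgroupOf_eq_top.mp h)
  haveI : Group.IsNilpotent (P : Subgroup G) := P.2.isNilpotent
  obtain ⟨x, hxN, hxQ⟩ := SetLike.exists_of_lt (Group.normalizerCondition_of_isNilpotent _ hlt)
  have hxH : (x : G) ∈ H := by
    refine mem_normalizer_iff.mpr fun g => ?_
    constructor
    · intro hg
      exact mem_subgroupOf.mp ((mem_normalizer_iff.mp hxN ⟨g, hQP hg⟩).mp (mem_subgroupOf.mpr hg))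
    · intro hg
      have hgP : g ∈ (P : Subgroup G) := by
        have := mul_mem (mul_mem (inv_mem x.2) (hQP hg)) x.2
        rwa [show (x : G)⁻¹ * (x * g * (x : G)⁻¹) * x = g by group] at this
      exact mem_subgroupOf.mp ((mem_normalizer_iff.mp hxN ⟨g, hgP⟩).mpr (mem_subgroupOf.mpr hg))
  -- `Q ⟨x⟩` is a larger p-subgroup of the normalizer
  obtain ⟨R', hR''⟩ := (P.2.comap_of_injective H.subtype H.subtype_injective).exists_le_sylow
  have hx' : (⟨x, hxH⟩ : H) ∈ (R' : Subgroup H) := hR'' (show ((⟨x, hxH⟩ : H) : G) ∈ (P : Subgroup G) from x.2)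
  have hcard : Nat.card R = Nat.card Q := by
    rw [← hR', card_map_of_injective H.subtype_injective]
  have hle : Q.subgroupOf H ≤ (R' : Subgroup H) := fun y hy => hR'' (hQP hy)
  have heq : Q.subgroupOf H = (R' : Subgroup H) := by
    refine eq_of_le_of_card_ge hle ?_
    rw [Nat.card_congr (subgroupOfEquivOfLe (le_normalizer (H := Q))).toEquiv,
      Nat.card_congr (R'.equiv R).toEquiv, hcard]
  rw [← heq, mem_subgroupOf] at hx'
  exact hxQ (mem_subgroupOf.mpr hx')

/-- The inverted elements of an invariant Sylow subgroup count the cosets of the centralizer. -/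
theorem card_inverted (hz : IsIsolatedInvolution z) {p : ℕ} [Fact p.Prime] (hp : p ≠ 2) {P : Subgroup G}
    (hP : IsPGroup p P) (hzP : z ∈ normalizer (P : Set G)) :
    (P ⊓ centralizer ({z} : Set G)).relIndex P = Nat.card {x : G // x ∈ P ∧ z * x * z⁻¹ = x⁻¹} := by
  set C := centralizer ({z} : Set G)
  set H := (P ⊓ C).subgroupOf P
  have hodd : ∀ x ∈ P, Odd (orderOf x) := by
    intro x hx
    obtain ⟨k, hk⟩ := IsPGroup.iff_orderOf.mp hP ⟨x, hx⟩
    rw [Subgroup.orderOf_mk] at hk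
    rw [hk]
    exact (Nat.Prime.odd_of_ne_two Fact.out hp).pow
  change Nat.card (P ⧸ H) = _
  refine (Nat.card_congr (Equiv.ofBijective
    (fun x : {x : G // x ∈ P ∧ z * x * z⁻¹ = x⁻¹} => ((⟨x.1, x.2.1⟩ : P) : P ⧸ H)) ⟨?_, ?_⟩)).symm
  · intro a b hab
    rw [QuotientGroup.eq, mem_subgroupOf] at hab
    obtain ⟨k, -, huniq⟩ := S1185.result z hz a.1
    refine Subtype.ext ((huniq a.1 ⟨⟨hodd _ a.2.1, a.2.2⟩, by rw [inv_mul_cancel]; exact one_mem _⟩).trans
      (huniq b.1 ⟨⟨hodd _ b.2.1, b.2.2⟩, ?_⟩).symm)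
    exact hab.2
  · intro q
    induction q using QuotientGroup.induction_on with
    | _ g =>
    obtain ⟨k, ⟨⟨hk1, hk2⟩, hk3⟩, -⟩ := S1185.result z hz g.1
    have hkz : k * z * k⁻¹ = (g : G) * z * (g : G)⁻¹ := by
      have h1 : (g : G)⁻¹ * k * z * ((g : G)⁻¹ * k)⁻¹ = z :=
        mul_inv_eq_iff_eq_mul.mpr (mem_centralizer_singleton_iff.mp hk3)
      calc k * z * k⁻¹ = (g : G) * ((g : G)⁻¹ * k * z * ((g : G)⁻¹ * k)⁻¹) * (g : G)⁻¹ := by group
        _ = _ := by rw [h1]
    have hkk : k * k ∈ P := by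
      have : k * k = (g : G) * (z * (g : G)⁻¹ * z⁻¹) := by
        rw [conj_eq_sq_mul hk2] at hkz
        calc k * k = k * k * z * z⁻¹ := by group
          _ = _ := by rw [hkz]; group
      rw [this]
      exact mul_mem g.2 ((mem_normalizer_iff.mp hzP _).mp (inv_mem g.2))
    have hkP : k ∈ P := by
      obtain ⟨j, hj⟩ := hk1
      have : k = (k * k) ^ (j + 1) := by
        rw [← pow_two, ← pow_mul, show 2 * (j + 1) = orderOf k + 1 by omega, pow_succ, pow_orderOf_eq_one, one_mul]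
      rw [this]
      exact pow_mem hkk _
    refine ⟨⟨k, hkP, hk2⟩, ?_⟩
    change (QuotientGroup.mk (⟨k, hkP⟩ : P) : P ⧸ H) = QuotientGroup.mk g
    refine (QuotientGroup.eq.mpr (mem_subgroupOf.mpr (mem_inf.mpr ⟨mul_mem (inv_mem g.2) hkP, ?_⟩))).symm
    exact hk3

end Cfsg.Agent.Transfer
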